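import Cfsg.Agent.Lib.Bab.SC
import Mathlib.GroupTheory.Transfer

/-! # Extensions by a module: complements, derivations, and amalgams -/

set_option autoImplicit false

namespace Cfsg.Lib.Bab

open Module Subgroup MulAction Cfsg.Lib.M3 Function

universe u

variable {K N G : Type*} {E : Type u} [Field K] [AddCommGroup N] [Module K N] [Group G] [Group E]

/-- `E` is an extension of `G0` by the module `N` -/
structure Ext (G0 : Subgroup G) (R : G → End K N) (φ : E →* G) (j : E → N) : Prop where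
  mul : ∀ {g k}, g ∈ G0 → k ∈ G0 → R (g * k) = R g * R k
  one : R 1 = 1
  mem : ∀ x, φ x ∈ G0
  sur : ∀ g ∈ G0, ∃ x, φ x = g
  add : ∀ {a b}, φ a = 1 → φ b = 1 → j (a * b) = j a + j b
  inj : ∀ {a}, φ a = 1 → j a = 0 → a = 1
  ex : ∀ v, ∃ a, φ a = 1 ∧ j a = v
  conj : ∀ x {a}, φ a = 1 → j (x * a * x⁻¹) = R (φ x) (j a)

/-- `L` is a complement over `S` -/
structure Cp (φ : E →* G) (S : Subgroup G) (L : Subgroup E) : Prop where
  mem : ∀ x ∈ L, φ x ∈ S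
  sur : ∀ g ∈ S, ∃ x ∈ L, φ x = g
  inj : ∀ x ∈ L, φ x = 1 → x = 1

/-- derivations on `S` -/
def Der (R : G → End K N) (S : Subgroup G) (δ : G → N) : Prop := ∀ g ∈ S, ∀ k ∈ S, δ (g * k) = δ g + R g (δ k)
/-- all derivations on `S` are inner -/
def H1 (R : G → End K N) (S : Subgroup G) : Prop := ∀ δ, Der R S δ → ∃ w, ∀ g ∈ S, δ g = w - R g w

/-- a subgroup of index at most two is an extension of a `2`-group by a perfect group, trivial on the fixed vectors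
of the `2`-group -/
structure Loc (R : G → End K N) (S S' : Subgroup G) {L : Type*} [Group L] (f : S' →* L) : Prop where
  le : S' ≤ S
  idx : S'.relIndex S ∣ 2
  sur : Surjective f
  per : commutator L = ⊤
  pow : ∀ g, f g = 1 → g ^ 8 = 1
  fix : ∀ v, (∀ g : S', f g = 1 → R g v = v) → ∀ g ∈ S', R g v = v

variable {G0 H S S' : Subgroup G} {R : G → End K N} {φ : E →* G} {j : E → N} {L L' : Subgroup E} {a b x y : E} {δ : G → N} {g : G}

omit [Module K N] in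
theorem exists_tr (h : (H.relIndex S : K) ≠ 0) : ∃ T : Finset G, (∀ r ∈ T, r ∈ S) ∧ (T.card : K) ≠ 0 ∧ ∀ F : G → N,
    (∀ r ∈ S, ∀ k ∈ H, k ∈ S → F (r * k) = F r) → ∀ g ∈ S, ∑ r ∈ T, F (g * r) = ∑ r ∈ T, F r := by
  classical
  have := Subgroup.fintypeOfIndexNeZero (H := H.subgroupOf S) fun e => h (by rw [relIndex, e, Nat.cast_zero])
  have i : Injective fun q : S ⧸ H.subgroupOf S => (q.out : G) := Subtype.val_injective.comp Quotient.out_injective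
  refine ⟨Finset.univ.image fun q : S ⧸ H.subgroupOf S => (q.out : G), Finset.forall_mem_image.2 fun q _ => q.out.2, by
    rwa [Finset.card_image_of_injective _ i, Finset.card_univ, ← Nat.card_eq_fintype_card], fun F hF g hg => ?_⟩
  rw [Finset.sum_image i.injOn, Finset.sum_image i.injOn, ← Equiv.sum_comp (MulAction.toPerm (⟨g, hg⟩ : S)) fun q : S ⧸ H.subgroupOf S => F q.out]
  refine Finset.sum_congr rfl fun q _ => ?_
  obtain ⟨k, e⟩ := QuotientGroup.mk_out_eq_mul (H.subgroupOf S) (⟨g, hg⟩ * q.out)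
  rw [toPerm_apply, ← Quotient.mk_smul_out, smul_eq_mul, e]
  exact (hF _ (mul_mem hg q.out.2) _ k.2 k.1.2).symm

theorem hom_triv {Γ M A : Type*} [Group Γ] [Group M] [Group A] {f : Γ →* M} (hf : Surjective f) (hM : commutator M = ⊤)
    (χ : Γ →* A) (hc : ∀ a b, Commute (χ a) (χ b)) (h : ∀ g, f g = 1 → χ g = 1) (g : Γ) : χ g = 1 := by
  have a : (commutator Γ).map f = ⊤ := by rw [commutator_def, map_commutator, map_top_of_surjective _ hf, ← commutator_def, hM]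
  obtain ⟨c, hc', e⟩ := a.ge (mem_top (f g))
  have b : commutator Γ ≤ χ.ker := commutator_le.2 fun a _ b _ => by
    rw [MonoidHom.mem_ker, map_commutatorElement, (hc a b).commutator_eq]
  rw [← mul_inv_cancel_left c g, map_mul, b hc', h _ (by rw [map_mul, map_inv, e, inv_mul_cancel]), mul_one]

theorem Cp.eq (h : Cp φ S L) (hx : x ∈ L) (hy : y ∈ L) (e : φ x = φ y) : x = y :=
  mul_inv_eq_one.1 (h.inj _ (mul_mem hx (inv_mem hy)) (by rw [map_mul, map_inv, e, mul_inv_cancel]))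
theorem Cp.inf (h : Cp φ S L) (k : H ≤ S) : Cp φ H (L ⊓ H.comap φ) :=
  ⟨fun _ e => e.2, fun g e => let ⟨x, a, b⟩ := h.sur g (k e); ⟨x, ⟨a, show φ x ∈ H from b ▸ e⟩, b⟩, fun x e => h.inj x e.1⟩
theorem cp_bot : Cp φ ⊥ ⊥ := ⟨fun _ e => mem_bot.2 (by rw [mem_bot.1 e, map_one]), fun _ e => ⟨1, one_mem _, by rw [mem_bot.1 e, map_one]⟩,
  fun _ e _ => e⟩
theorem Cp.sec (h : Cp φ S L) : ∃ l : G → E, (∀ g ∈ S, l g ∈ L ∧ φ (l g) = g) ∧ ∀ g ∈ S, ∀ k ∈ S, l (g * k) = l g * l k := by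
  choose! l h1 h2 using h.sur
  exact ⟨l, fun g e => ⟨h1 g e, h2 g e⟩, fun g a k b => h.eq (h1 _ (mul_mem a b)) (mul_mem (h1 g a) (h1 k b))
    (by rw [map_mul, h2 _ (mul_mem a b), h2 g a, h2 k b])⟩

namespace Ext

variable (X : Ext G0 R φ j)
include X

theorem j_one : j 1 = 0 := by simpa using X.add (map_one φ) (map_one φ)
theorem j_inv (h : φ a = 1) : j a⁻¹ = -j a :=
  eq_neg_of_add_eq_zero_left (by rw [← X.add (by rw [map_inv, h, inv_one]) h, inv_mul_cancel, X.j_one])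
theorem eq (ha : φ a = 1) (hb : φ b = 1) (e : j a = j b) : a = b := mul_inv_eq_one.1 (X.inj (by simp [ha, hb])
  (by rw [X.add ha (by simp [hb]), X.j_inv hb, e, add_neg_cancel]))
theorem comm_iff (ha : φ a = 1) : x * a * x⁻¹ = a ↔ R (φ x) (j a) = j a :=
  ⟨fun e => by rw [← X.conj x ha, e], fun e => X.eq (by simp [ha]) ha (by rw [X.conj x ha, e])⟩
theorem j_pow (h : φ a = 1) (n : ℕ) : j (a ^ n) = (n : K) • j a := by
  induction n with
  | zero => simp [X.j_one]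
  | succ n ih => rw [pow_succ, X.add (by rw [map_pow, h, one_pow]) h, ih, Nat.cast_succ, add_smul, one_smul]

theorem of_der (hS : S ≤ G0) {D : E → N} (h : ∀ x y, φ x ∈ S → φ y ∈ S → D (x * y) = D x + R (φ x) (D y))
    (hA : ∀ a, φ a = 1 → D a = j a) : ∃ L, Cp φ S L := by
  have h1 : D 1 = 0 := (hA 1 (map_one φ)).trans X.j_one
  refine ⟨⟨⟨⟨{x | φ x ∈ S ∧ D x = 0}, fun a b => ⟨map_mul φ _ _ ▸ mul_mem a.1 b.1, by rw [h _ _ a.1 b.1, a.2, b.2, map_zero, add_zero]⟩⟩,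
    map_one φ ▸ one_mem _, h1⟩, fun {x} a => ⟨map_inv φ _ ▸ inv_mem a.1, ?_⟩⟩, fun _ a => a.1, fun g hg => ?_,
    fun x a e => X.inj e ((hA x e).symm.trans a.2)⟩
  · have := h x⁻¹ x (map_inv φ _ ▸ inv_mem a.1) a.1
    rwa [inv_mul_cancel, h1, a.2, map_zero, add_zero, eq_comm] at this
  · obtain ⟨x, rfl⟩ := X.sur g (hS hg)
    obtain ⟨a, a1, a2⟩ := X.ex (-D x)
    have e : φ (a * x) = φ x := by rw [map_mul, a1, one_mul]
    exact ⟨a * x, ⟨e ▸ hg, by rw [h _ _ (a1 ▸ one_mem _) hg, hA a a1, a2, a1, X.one]; simp⟩, e⟩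

/-- Gaschütz' theorem -/
theorem gasch (hS : S ≤ G0) (hH : H ≤ S) (h : (H.relIndex S : K) ≠ 0) (c : Cp φ H L) : ∃ L, Cp φ S L := by
  obtain ⟨l, l1, l2⟩ := c.sec
  choose! s0 hs using X.sur
  obtain ⟨T, t1, t2, t3⟩ := exists_tr (N := N) h
  have ho : ∀ g : G, (g : G ⧸ H).out⁻¹ * g ∈ H := fun g => QuotientGroup.eq.1 (QuotientGroup.out_eq' _)
  obtain ⟨s, s1, s2⟩ : ∃ s : G → E, (∀ g ∈ S, φ (s g) = g) ∧ ∀ g, ∀ k ∈ H, s (g * k) = s g * l k :=
    ⟨fun g => s0 (g : G ⧸ H).out * l ((g : G ⧸ H).out⁻¹ * g), fun g hg => by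
      rw [map_mul, (l1 _ (ho g)).2, hs _ (hS (by simpa using mul_mem hg (inv_mem (hH (ho g))))), mul_inv_cancel_left], fun g k hk => by
      simp only [QuotientGroup.mk_mul_of_mem g hk]; rw [← mul_assoc _ g, l2 _ (ho g) _ hk, mul_assoc (s0 _)]⟩
  have e : ∀ x, φ x ∈ S → ∀ r ∈ S, φ (x * s r * (s (φ x * r))⁻¹) = 1 := fun x hx r hr => by simp [s1 r hr, s1 _ (mul_mem hx hr)]
  refine X.of_der hS (D := fun x => (T.card : K)⁻¹ • ∑ r ∈ T, j (x * s r * (s (φ x * r))⁻¹)) (fun x y hx hy => ?_) fun a ha => ?_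
  · rw [map_smul, ← smul_add, map_sum, ← t3 (fun r => j (x * s r * (s (φ x * r))⁻¹)) (fun r _ k hk _ => by
      rw [← mul_assoc (φ x), s2 _ k hk, s2 _ k hk]; congr 1; group) _ hy, ← Finset.sum_add_distrib]
    refine congrArg _ (Finset.sum_congr rfl fun r hr => ?_)
    rw [← X.conj x (e y hy r (t1 r hr)), add_comm, ← X.add (by rw [map_mul, map_mul, e y hy r (t1 r hr)]; simp) (e x hx _ (mul_mem hy (t1 r hr))),
      map_mul, mul_assoc (φ x)]
    congr 1; group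
  · simp only [ha, one_mul, mul_inv_cancel_right, Finset.sum_const, ← Nat.cast_smul_eq_nsmul K, inv_smul_smul₀ t2]

theorem der_sub (hS : S ≤ G0) (h : Der R S δ) (w : N) : Der R S fun g => δ g - (w - R g w) := fun g a k b => by
  simp only [h g a k b, X.mul (hS a) (hS b), map_sub, End.mul_apply]; abel

omit X in
theorem inner (h : (H.relIndex S : K) ≠ 0) (d : Der R S δ) (e : ∀ g ∈ H, g ∈ S → δ g = 0) : ∃ w, ∀ g ∈ S, δ g = w - R g w := by
  obtain ⟨T, t1, t2, t3⟩ := exists_tr (N := N) h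
  refine ⟨(T.card : K)⁻¹ • ∑ r ∈ T, δ r, fun g hg => ?_⟩
  rw [map_smul, ← smul_sub, eq_inv_smul_iff₀ t2, map_sum, ← t3 δ (fun r a k b c => by rw [d r a k c, e k b c, map_zero, add_zero]) g hg,
    ← Finset.sum_sub_distrib, Finset.sum_congr rfl fun r hr => by rw [d g hg r (t1 r hr), add_sub_cancel_right], Finset.sum_const,
    Nat.cast_smul_eq_nsmul]

theorem exists_conj (h : H1 R S) (c : Cp φ S L) (c' : Cp φ S L') : ∃ a, φ a = 1 ∧ ∀ x ∈ L, a * x * a⁻¹ ∈ L' := by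
  obtain ⟨l, l1, l2⟩ := c.sec
  obtain ⟨m, m1, m2⟩ := c'.sec
  have e : ∀ g ∈ S, φ (m g * (l g)⁻¹) = 1 := fun g hg => by simp [(l1 g hg).2, (m1 g hg).2]
  obtain ⟨w, hw⟩ := h (fun g => j (m g * (l g)⁻¹)) fun g a k b => by
    have := X.conj (m g) (e k b)
    rw [(m1 g a).2] at this
    beta_reduce
    rw [← this, add_comm, ← X.add (by rw [map_mul, map_mul, e k b]; simp) (e g a), l2 g a k b, m2 g a k b]
    congr 1; group
  obtain ⟨a, a1, rfl⟩ := X.ex w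
  refine ⟨a, a1, fun x hx => ?_⟩
  have k := c.mem x hx
  have := X.eq (e _ k) (b := a * (x * a * x⁻¹)⁻¹) (by simp [a1]) (by
    rw [hw _ k, X.add a1 (by simp [a1]), X.j_inv (by simp [a1]), X.conj x a1, sub_eq_add_neg])
  rw [c.eq (l1 _ k).1 hx (l1 _ k).2, mul_inv_eq_iff_eq_mul] at this
  exact (show m (φ x) = a * x * a⁻¹ by rw [this]; group) ▸ (m1 _ k).1

theorem exists_norm (h : H1 R S) (c : Cp φ S L) (hg : g ∈ G0) (hn : g ∈ normalizer (S : Set G)) :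
    ∃ x ∈ normalizer (L : Set E), φ x = g := by
  obtain ⟨x, rfl⟩ := X.sur g hg
  obtain ⟨a, a1, a2⟩ := X.exists_conj h (L := L.comap (MulAut.conj x⁻¹).toMonoidHom) ⟨fun y hy => by
      simpa [mul_assoc] using (mem_normalizer_iff.1 hn _).1 (c.mem _ hy), fun g hg =>
      let ⟨y, y1, y2⟩ := c.sur _ ((mem_normalizer_iff''.1 hn g).1 hg); ⟨x * y * x⁻¹, by simpa [mul_assoc] using y1, by simp [y2, mul_assoc]⟩,
    fun y hy e => (MulEquiv.map_eq_one_iff _).1 (c.inj _ hy (by simp [e]))⟩ c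
  have k : ∀ y ∈ L, a * x * y * (a * x)⁻¹ ∈ L := fun y hy => conj_mul_conj a x y ▸ a2 _ (by simpa [mul_assoc] using hy)
  refine ⟨a * x, mem_normalizer_iff.2 fun y => ⟨k y, fun hy => ?_⟩, by rw [map_mul, a1, one_mul]⟩
  obtain ⟨z, z1, z2⟩ := c.sur (φ y) ((mem_normalizer_iff.1 hn _).2 (by simpa [a1] using c.mem _ hy))
  rwa [← mul_left_cancel (mul_right_cancel (c.eq (k z z1) hy (by simp [z2])))]

theorem norm_iff (c : Cp φ S L) (ha : φ a = 1) : a ∈ normalizer (L : Set E) ↔ ∀ g ∈ S, R g (j a) = j a := by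
  refine ⟨fun h g hg => ?_, fun h => centralizer_le_normalizer _ fun x hx => mul_inv_eq_iff_eq_mul.1 ((X.comm_iff ha).2 (h _ (c.mem x hx)))⟩
  obtain ⟨x, hx, rfl⟩ := c.sur g hg
  have := c.eq ((mem_normalizer_iff.1 h x).1 hx) hx (by simp [ha])
  exact (X.comm_iff ha).1 (by rw [mul_inv_eq_iff_eq_mul, ← mul_inv_eq_iff_eq_mul.1 this])

section
variable {M : Type*} [Group M] {f : S' →* M} (h2 : (2 : K) ≠ 0) (hS : S ≤ G0) (l : Loc R S S' f) [Finite G]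
include h2 l

omit X in
theorem card_ker : ((⊥ : Subgroup G).relIndex (f.ker.map S'.subtype) : K) ≠ 0 := by
  have : Fact (Nat.Prime 2) := ⟨Nat.prime_two⟩
  obtain ⟨n, e⟩ := IsPGroup.iff_card.1 (show IsPGroup 2 f.ker from fun g => ⟨3, Subtype.ext (l.pow g g.2)⟩)
  rw [relIndex_bot_left, card_map_of_injective S'.subtype_injective, e, Nat.cast_pow]
  exact pow_ne_zero _ h2

omit X [Finite G] in
theorem idx_ne : (S'.relIndex S : K) ≠ 0 := by
  rcases (Nat.dvd_prime Nat.prime_two).1 l.idx with e | e <;> rw [e]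
  exacts [Nat.cast_one (R := K) ▸ one_ne_zero, h2]

theorem h1_ker : H1 R (f.ker.map S'.subtype) := fun δ d => inner (card_ker h2 l) d fun g e k => by
  have := d 1 (one_mem _) 1 (one_mem _)
  rw [X.one, one_mul, End.one_apply, left_eq_add] at this
  rw [mem_bot.1 e, this]

include hS

theorem h1 : H1 R S := fun δ d => by
  have le : f.ker.map S'.subtype ≤ S := (map_subtype_le _).trans l.le
  obtain ⟨w, hw⟩ := X.h1_ker h2 l δ fun g a k b => d g (le a) k (le b)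
  have d' := X.der_sub hS d w
  generalize hδ : (fun g => δ g - (w - R g w)) = δ' at d'
  have z : ∀ g : S', f g = 1 → δ' g = 0 := fun g e => hδ ▸ sub_eq_zero.2 (hw _ ⟨g, e, rfl⟩)
  have fx : ∀ k : S', ∀ g ∈ S', R g (δ' k) = δ' k := fun k => l.fix _ fun g e => by
    have a := d' g (l.le g.2) k (l.le k.2)
    have b := d' k (l.le k.2) _ (l.le (k⁻¹ * g * k).2)
    rw [z (k⁻¹ * g * k) (by simp [e]), map_zero, add_zero, show (k : G) * (k⁻¹ * g * k : S') = g * k by simp [mul_assoc], a, z g e, zero_add] at b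
    exact b
  obtain ⟨u, hu⟩ := inner (idx_ne h2 l) d' fun g hg _ => hom_triv l.sur l.per (MonoidHom.mk' (fun k : S' => Multiplicative.ofAdd (δ' k))
    fun a b => by rw [coe_mul, d' a (l.le a.2) b (l.le b.2), fx b a a.2]; rfl) (fun _ _ => .all _ _) z ⟨g, hg⟩
  refine ⟨w + u, fun g hg => ?_⟩
  have := hu g hg
  rw [← hδ, sub_eq_iff_eq_add] at this
  rw [this, map_add]; abel

theorem split (hg : g ∈ S') (ho : Odd (orderOf g)) (hi : ((zpowers g).relIndex S' : K) ≠ 0) : ∃ L, Cp φ S L := by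
  have le : f.ker.map S'.subtype ≤ G0 := (map_subtype_le _).trans (l.le.trans hS)
  obtain ⟨Q, c⟩ := X.gasch le bot_le (card_ker h2 l) cp_bot
  let Γ : Subgroup E := normalizer (Q : Set E) ⊓ S'.comap φ
  have cen : ∀ a : Γ, φ a = 1 → ∀ x : Γ, x * a * x⁻¹ = a := fun a e x => Subtype.ext ((X.comm_iff e).2
    (l.fix _ (fun g k => (X.norm_iff c e).1 a.2.1 _ ⟨g, k, rfl⟩) _ x.2.2))
  have sur : ∀ g ∈ S', ∃ x : Γ, φ x = g := fun g hg =>
    let ⟨x, a, b⟩ := X.exists_norm (X.h1_ker h2 l) c (hS (l.le hg)) (le_normalizer_map _ ⟨⟨g, hg⟩, f.ker.normalizer_eq_top ▸ mem_top _, rfl⟩)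
    ⟨⟨x, a, show φ x ∈ S' from b ▸ hg⟩, b⟩
  let B : Subgroup Γ := (zpowers g).comap (φ.comp Γ.subtype)
  have hB : B.index = (zpowers g).relIndex S' := by
    rw [index_comap, show (φ.comp Γ.subtype).range = S' from le_antisymm (by rintro _ ⟨x, rfl⟩; exact x.2.2) sur]
  have : B.FiniteIndex := ⟨fun e => hi (by rw [← hB, e, Nat.cast_zero])⟩
  let _ : CommGroup B := commGroupOfCyclicCenterQuotient ((φ.comp Γ.subtype).subgroupComap (zpowers g)) fun a e =>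
    mem_center_iff.2 fun x => Subtype.ext (mul_inv_eq_iff_eq_mul.1 (cen a (congrArg Subtype.val e) x))
  let T : Γ →* E := Γ.subtype.comp (B.subtype.comp (MonoidHom.transfer (MonoidHom.id B)))
  have t1 : ∀ a : Γ, φ a = 1 → T a = a ^ B.index := fun a e => congrArg (fun b : B => ((b : Γ) : E))
    (MonoidHom.transfer_eq_pow (MonoidHom.id B) a fun k x _ => by simpa using cen (a ^ k) (by simp [e]) x⁻¹)
  have t2 : ∀ x, φ (T x) ∈ zpowers g := fun x => (MonoidHom.transfer (MonoidHom.id B) x).2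
  have t3 : ∀ x, φ (T x) = 1 := hom_triv (f := f.comp (((φ.comp Γ.subtype).codRestrict S' fun x => x.2.2)))
    (l.sur.comp fun g => let ⟨x, e⟩ := sur g g.2; ⟨x, Subtype.ext e⟩) l.per (φ.comp T) (fun a b => by
      obtain ⟨m, e⟩ := mem_zpowers_iff.1 (t2 a)
      obtain ⟨n, e'⟩ := mem_zpowers_iff.1 (t2 b)
      exact (e ▸ e' ▸ (Commute.refl g).zpow_zpow m n :)) fun x e => by
      have a : φ (x ^ 8 : Γ) = 1 := (map_pow φ x.1 8).trans (congrArg Subtype.val (l.pow _ e))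
      have b : φ (T x) ^ 8 = 1 := by rw [← map_pow, ← map_pow, t1 _ a, map_pow, a, one_pow]
      exact orderOf_eq_one_iff.1 (Nat.eq_one_of_dvd_coprimes (Nat.Coprime.pow_right 3 ho.coprime_two_right)
        (orderOf_dvd_of_mem_zpowers (t2 x)) (orderOf_dvd_of_pow_eq_one b))
  refine X.gasch hS l.le (idx_ne h2 l) (L := T.ker.map Γ.subtype) ⟨by rintro _ ⟨x, -, rfl⟩; exact x.2.2, fun k hk => ?_, ?_⟩
  · obtain ⟨x, rfl⟩ := sur k hk
    obtain ⟨a, a1, a2⟩ := X.ex (-(B.index : K)⁻¹ • j (T x))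
    have m : a ∈ Γ := ⟨(X.norm_iff c a1).2 fun g hg => by
      rw [a2, map_smul, (X.norm_iff c (t3 x)).1 (MonoidHom.transfer (MonoidHom.id B) x).1.2.1 g hg], show φ a ∈ S' from a1 ▸ one_mem _⟩
    refine ⟨_, ⟨⟨a, m⟩ * x, X.inj (t3 _) ?_, rfl⟩, by simp [a1]⟩
    rw [map_mul, X.add (t3 _) (t3 _), t1 ⟨a, m⟩ a1, X.j_pow a1, a2, neg_smul, smul_neg, smul_inv_smul₀ (hB ▸ hi), neg_add_cancel]
  · rintro _ ⟨x, k, rfl⟩ e
    have := X.j_pow e B.index
    rw [show Γ.subtype x ^ B.index = 1 from (t1 x e).symm.trans k, X.j_one, eq_comm, smul_eq_zero] at this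
    exact X.inj e (this.resolve_left (hB ▸ hi))

end

end Ext

section
variable {Z Γ : Type*} [MulAction G Z] [Group Γ] {x0 x1 : Z}

theorem lifts_of_fix {ψ : Γ →* G} {H : Subgroup Γ} {σ : Γ} (A : Amal G0 x0 x1 ψ H σ) {x y w : Z} (e : Adj G0 x0 x1 y w)
    (h : ∀ k, ψ k = 1 → (∀ g ∈ G0, g • x = x → g • y = y → g • w = w → ∃ γ, ψ γ = g ∧ γ * k * γ⁻¹ = k) → k = 1) :
    A.cov.Lifts x y w := by
  rintro ⟨α⟩ b ⟨γ⟩ ha hb hc r1 r2
  obtain ⟨⟨γ'⟩, r3, hd⟩ := A.cov.ex b w (hb ▸ e)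
  obtain ⟨δ, d1, d2⟩ := A.lift (γ := γ') (A.mem γ) (hd.trans hc.symm)
  change A.cov.R b γ' at r3
  change A.cov.R α _ at r1 r2
  change A.cov.R α γ at r2
  change ψ α • x0 = x at ha
  rw [d2] at r3
  have k : ψ (δ * γ⁻¹) = 1 := by rw [map_mul, d1, map_inv, mul_inv_cancel]
  rwa [mul_inv_eq_one.1 (h _ k fun g hg g1 g2 g3 => ?_)] at r3
  obtain ⟨u, u1, u2⟩ := A.sur ((ψ α)⁻¹ * g * ψ α) (mul_mem (mul_mem (inv_mem (A.mem α)) hg) (A.mem α))
    (by rw [mul_smul, mul_smul, ha, g1, ← ha, inv_smul_smul])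
  have e1 : ψ (α * u * α⁻¹) = g := by simp [u2, mul_assoc]
  have e2 : (α * u * α⁻¹) • (α : Γ ⧸ H) = α := QuotientGroup.eq.2 (by simpa using u1)
  generalize α * u * α⁻¹ = v at e1 e2
  have f : ∀ {a b : Γ ⧸ H}, v • a = a → A.cov.R a b → g • A.cov.p b = A.cov.p b → v • b = b := fun s t u =>
    A.cov.uniq (s ▸ A.R_smul v t :) t (by rw [A.p_smul, e1, u])
  have f1 := QuotientGroup.eq.1 (f e2 r2 (hc.symm ▸ g3 :))
  have f2 := QuotientGroup.eq.1 (f (f e2 r1 (hb ▸ g2)) r3 (by rw [A.p_mk, d1]; exact (hc.symm ▸ g3 :)))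
  have := A.inj _ (mul_mem f1 (inv_mem f2)) (by simp [d1])
  exact ⟨v, e1, (show _ = δ * γ⁻¹ * v * γ * ((v * γ)⁻¹ * γ * ((v * δ)⁻¹ * δ)⁻¹) * (γ⁻¹ * v⁻¹) by group).trans
    ((congrArg (_ * · * _) this).trans (by group))⟩

/-- splitting over a simply connected graph -/
theorem Ext.amal {G1 : Subgroup G} (X : Ext G1 R φ j) (h0 : G0 ≤ G1) (c : Cp φ (G0 ⊓ stabilizer G x0) L) {σ : G} (hσ : σ ∈ G0)
    (s0 : σ • x0 = x1) (s1 : σ • x1 = x0) (h1 : H1 R (G0 ⊓ stabilizer G x0 ⊓ stabilizer G x1))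
    (h2 : ∀ v, (∀ g ∈ G0, g • x0 = x0 → g • x1 = x1 → R g v = v) → v = 0) {V : Z → Prop} (hV : ∀ g ∈ G0, ∀ x, V x → V (g • x)) (v0 : V x0)
    (h3 : ∀ x y w, Adj G0 x0 x1 x y → Adj G0 x0 x1 x w → Adj G0 x0 x1 y w →
      ∀ v, (∀ g ∈ G0, g • x = x → g • y = y → g • w = w → R g v = v) → v = 0)
    (sc : ∀ {Y : Type u} {C : Cov (Adj G0 x0 x1) Y}, C.Tri V → ∀ {a}, C.p a = x0 → Conn (Adj G0 x0 x1) V ∧ ∃ s, C.Sec V s ∧ s x0 = a) :
    ∃ L, Cp φ G0 L := by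
  have c' := c.inf (H := G0 ⊓ stabilizer G x0 ⊓ stabilizer G x1) inf_le_left
  have n : ∀ {σ}, σ ∈ G0 → σ • x0 = x1 → σ • x1 = x0 → ∀ g ∈ G0 ⊓ stabilizer G x0 ⊓ stabilizer G x1,
      σ * g * σ⁻¹ ∈ G0 ⊓ stabilizer G x0 ⊓ stabilizer G x1 := fun a b c g k => ⟨⟨G0.mul_mem (G0.mul_mem a k.1.1) (inv_mem a),
    mem_stabilizer_iff.2 (by rw [mul_smul, mul_smul, inv_smul_eq_iff.2 c.symm, k.2, c])⟩,
    mem_stabilizer_iff.2 (by rw [mul_smul, mul_smul, inv_smul_eq_iff.2 b.symm, k.1.2, b])⟩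
  obtain ⟨t, t1, rfl⟩ := X.exists_norm h1 c' (h0 hσ) (mem_normalizer_iff.2 fun g => ⟨n hσ s0 s1 g, fun k => by
    simpa [mul_assoc] using n (inv_mem hσ) (inv_smul_eq_iff.2 s1.symm) (inv_smul_eq_iff.2 s0.symm) _ k⟩)
  obtain ⟨q, q1, q2⟩ := c'.sur (φ (t * t)) ⟨⟨map_mul φ t t ▸ G0.mul_mem hσ hσ, mem_stabilizer_iff.2 (by rw [map_mul, mul_smul, s0, s1])⟩,
    mem_stabilizer_iff.2 (by rw [map_mul, mul_smul, s1, s0])⟩
  have q3 : φ (t * t * q⁻¹) = 1 := by rw [map_mul, map_inv, q2, mul_inv_cancel]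
  have q4 := mul_inv_eq_one.1 (X.inj q3 (h2 _ fun g a b d => (X.norm_iff c' q3).1 (mul_mem (mul_mem t1 t1) (inv_mem (le_normalizer q1))) g ⟨⟨a, b⟩, d⟩))
  let Γ := L ⊔ zpowers t
  have m : Γ ≤ G0.comap φ := sup_le (fun x k => (c.mem x k).1) (zpowers_le.2 hσ)
  have A : Amal G0 x0 x1 (φ.comp Γ.subtype) (L.subgroupOf Γ) ⟨t, mem_sup_right (mem_zpowers t)⟩ := ⟨fun γ => m γ.2, fun γ k => (c.mem _ k).2,
    fun g a b => let ⟨x, k, e⟩ := c.sur g ⟨a, b⟩; ⟨⟨x, mem_sup_left k⟩, k, e⟩, fun γ k e => Subtype.ext (c.inj _ k e), s0,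
    show t * t ∈ L from q4 ▸ q1.1, fun γ k e => ((mem_normalizer_iff''.1 t1 _).1 ⟨k, c.mem _ k, e⟩).1,
    map_injective Γ.subtype_injective (by rw [Subgroup.map_sup, subgroupOf_map_subtype, inf_eq_left.2 le_sup_left, MonoidHom.map_zpowers,
      ← MonoidHom.range_eq_map, range_subtype]; rfl)⟩
  obtain ⟨a, s, b, e⟩ := sc (C := A.cov) (a := (1 : Γ)) (fun x y w _ _ _ e1 e2 e3 => lifts_of_fix A e3 fun k k1 k2 =>
    Subtype.ext (X.inj k1 (h3 x y w e1 e2 e3 _ fun g a b c d => let ⟨γ, e, f⟩ := k2 g a b c d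
      e ▸ (X.comm_iff k1).1 (congrArg Subtype.val f)))) (by simp [A.p_mk])
  obtain ⟨i, r⟩ := amal_of_sec A hV v0 a b e
  exact ⟨Γ, m, fun g hg => let ⟨γ, e⟩ := r.ge hg; ⟨γ, γ.2, e⟩, fun x k e => congrArg Subtype.val (i (a₁ := ⟨x, k⟩) (a₂ := 1) (e.trans (map_one _).symm))⟩

end

end Cfsg.Lib.Bab
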