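import Cfsg.Agent.Lib.Bab.SC

/-! # The graph of the 2300 weights is simply connected -/

set_option autoImplicit false

namespace Cfsg.Lib.Bab

open Finset Griess Subgroup MulAction Cfsg.Lib.Mon Cfsg.Lib.Deg Cfsg.Lib.M3 Matrix Relation
open Spor hiding tau
open Leech hiding vW
open scoped Pointwise

/-- the section over a graph which is dominated by a clique -/
theorem sec_of_clique {X Y : Type*} {E : X → X → Prop} {S D : X → Prop} {C : Cov E Y} (T : C.Tri S) (hs : ∀ {x y}, E x y → E y x)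
    (hl : ∀ x, ¬ E x x) (h0 : ∀ x, D x → S x) (h1 : ∀ x y, D x → D y → x = y ∨ E x y)
    (h2 : ∀ x y, S x → S y → ¬ D x → ¬ D y → x = y ∨ E x y → ∃ u, D u ∧ E x u ∧ E y u) {a : Y} (ha : D (C.p a)) :
    Conn E S ∧ ∃ s, C.Sec S s ∧ s (C.p a) = a := by
  classical
  have e : ∀ {x}, (if D x then 0 else 1) = 0 ↔ D x := by simp
  have M : Morse E S fun x => if D x then 0 else 1 := ⟨hs, ⟨2, fun x _ => by split_ifs <;> omega⟩, fun v a b => by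
    have k : ¬ D v := fun k => b.ne' (e.2 k)
    obtain ⟨u, u1, u2, -⟩ := h2 v v a a k k (.inl rfl)
    refine ⟨u, ⟨h0 u u1, u2, by simp [u1, k]⟩, fun w f => (h1 u w u1 (e.1 (by have := f.2.2; rw [if_neg k] at this; omega))).elim
      (fun e => e ▸ .refl) fun e => .single ⟨f, e⟩⟩, fun v w a b c d f =>
    have k : ¬ D v := fun k => f.ne' (e.2 k)
    let ⟨u, u1, u2, u3⟩ := h2 v w a b k (fun k => f.ne' (d.trans (e.2 k))) (.inr c); ⟨u, ⟨h0 u u1, u2, by simp [u1, k]⟩, u3⟩⟩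
  obtain ⟨s0, a0, b0⟩ := exists_cone (C := C) (S := fun x => S x ∧ (if D x then 0 else 1) = 0) (fun x y w a b c => T x y w a.1 b.1 c.1) hl
    ⟨h0 _ ha, e.2 ha⟩ fun x k => (h1 _ x ha (e.1 k.2)).imp_left Eq.symm
  obtain ⟨s, a1, b1⟩ := Cov.morse M T a0
  exact ⟨M.conn (h0 _ ha) fun y k f => (h1 _ y ha (e.1 f)).elim (fun e => e ▸ .refl) fun e => .single ⟨k, e⟩, s, a1, by rw [b1 _ (e.2 ha), b0]⟩

/-- the elements of a weight -/
def wv (a : L2) : Set Iv := {w | ∃ y, w = ⟨qV y⟩ ∧ (piQ y = a ∨ piQ y = a + piQ tq)}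
/-- the fixed vector -/
abbrev tv : leechLattice := pv pI pJ 0 1
/-- the vectors which represent weights -/
def Gv (v : leechLattice) : Prop := nm(v) = 32 ∧ dt(v, tv) = 16
/-- the weights of shape `4²` -/
def wP (n : ZMod 2) (m : Pt) : Set Iv := wv (piQ (eP n pI m))
/-- the edges -/
abbrev AdW : Set Iv → Set Iv → Prop := Adj C0 (wP 0 pK) (wP 1 pK)
/-- the vertices -/
def VW (X : Set Iv) : Prop := ∃ v, Gv v ∧ X = wv v
/-- the clique -/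
def DW (X : Set Iv) : Prop := ∃ n m, m ≠ pI ∧ m ≠ pJ ∧ X = wP n m

variable {c : Aut} {k : Co1} {a b : L2} {x y : Q} {u v w u' v' w' : leechLattice} {m m' : Pt} {n n' : ZMod 2} {X Y Z : Set Iv}

theorem hKI : pK ≠ pI := nofun
theorem hKJ : pK ≠ pJ := by decide
theorem Ov.t (e : Ov c k) (hc : c ∈ C0) : k • Griess.piQ tq = Griess.piQ tq := (e.piQ (mem_C0.1 hc).2).symm
theorem wv_smul (hc : c ∈ C0) (e : Ov c k) (a : L2) : c • wv a = wv (k • a) := by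
  have : ∀ {c k}, c ∈ C0 → Ov c k → ∀ a, c • wv a ⊆ wv (k • a) := by
    rintro c k hc e a _ ⟨_, ⟨y, rfl, h⟩, rfl⟩
    obtain ⟨y', e', -⟩ := exists_conj hc.1 y
    exact ⟨y', congrArg Iv.mk e', by rw [e.piQ e', ← e.t hc, ← smul_add]; exact h.imp (congrArg _) (congrArg _)⟩
  exact (this hc e a).antisymm (Set.subset_smul_set_iff.2 (by simpa using this (inv_mem hc) e.inv (k • a)))
theorem wv_conj (hc : c ∈ C0) (e : c * qV x * c⁻¹ = qV y) : c • wv (piQ x) = wv (piQ y) := by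
  rw [wv_smul hc ⟨hc.1, rfl⟩, Ov.piQ ⟨hc.1, rfl⟩ e]
theorem wv_add (a : L2) : wv (a + piQ tq) = wv a := by simp only [wv, add_assoc, l2_add_self, add_zero, or_comm]
theorem wv_eq (h : wv a = wv b) : a = b ∨ a = b + piQ tq := by
  obtain ⟨y, rfl⟩ := piQ_surjective a
  obtain ⟨y', e, k⟩ : (⟨qV y⟩ : Iv) ∈ wv b := h ▸ ⟨y, rfl, .inl rfl⟩
  rwa [qV_injective (Iv.mk.inj e)]

theorem mk_sub (v : leechLattice) : ((tv - v : leechLattice) : L2) = v + piQ tq := by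
  rw [QuotientAddGroup.mk_sub, rep_t.2, sub_eq_add_neg, l2_neg, add_comm]
theorem wv_sub (v : leechLattice) : wv (tv - v : leechLattice) = wv v := by rw [mk_sub, wv_add]
theorem Gv.dt_sub (h : Gv v) (w : leechLattice) : dt(v, (tv - w : leechLattice)) = 16 - dt(v, w) := by
  rw [AddSubgroup.coe_sub, dot_sub_right, h.2]
theorem Gv.sub (h : Gv v) : Gv (tv - v) := by
  rw [Gv, AddSubgroup.coe_sub, sqNorm_sub, dot_sub_left, ← sqNorm_eq_dot, dot_comm, h.1, h.2, rep_t.1]; simp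
theorem Gv.val (h : Gv v) : v⦃pJ⦄ = v⦃pI⦄ - 4 := by have := h.2; rw [dt_pv', sz_zero, sz_one] at this; omega
theorem Gv.eq (h : Gv v) (h' : Gv w) (e : (v : L2) = w) : w = v := (eq_or_neg_of_mk h.1 h'.1 e).resolve_right fun k => by
  have := h'.2; rw [k, NegMemClass.coe_neg, dot_neg_left, h.2] at this; omega
theorem Gv.cases (h : Gv v) (h' : Gv w) (e : wv v = wv w) : w = v ∨ tv - w = v :=
  (wv_eq e).imp (h.eq h') fun k => h.eq h'.sub (k.trans (mk_sub w).symm)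
theorem gv_pv (h : m ≠ pI) (h' : m ≠ pJ) (s : ZMod 2) : Gv (pv pI m 0 s) := ⟨nm_pv h.symm, dt_pv_pv h.symm hIJ h' ..⟩
theorem wP_eq (h : m ≠ pI) (n : ZMod 2) : wP n m = wv (pv pI m 0 (n + 1)) := by
  rw [wP, ← piQ_zp_mul 0, ← (rep_pv h.symm 0 n 0).2, zero_add]
theorem DW.vw (h : DW X) : VW X := let ⟨_, _, a, b, e⟩ := h; ⟨_, gv_pv a b _, e.trans (wP_eq a _)⟩
theorem dw_pv (h : m ≠ pI) (h' : m ≠ pJ) (s : ZMod 2) : DW (wv (pv pI m 0 s)) :=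
  ⟨s + 1, m, h, h', by rw [wP_eq h, add_assoc, z2_add_self, add_zero]⟩

theorem exists_lift (hc : c ∈ C0) : ∃ g : Co0, g • tv = tv ∧ ∀ v : leechLattice, c • wv v = wv (g • v : leechLattice) := by
  obtain ⟨g, a, e⟩ := (stabilizer_mk (x := tv) (by rw [rep_t.1]; norm_num)).le
    (show rhoC ⟨c, hc.1⟩ • _ = _ by rw [rep_t.2, Ov.t ⟨hc.1, rfl⟩ hc])
  exact ⟨g, a, fun v => wv_smul hc ⟨hc.1, e.symm⟩ v⟩
theorem Gv.smul (h : Gv v) {g : Co0} (e : g • tv = tv) : Gv (g • v) := ⟨(sqNorm_smul ..).trans h.1, by rw [← h.2, ← dot_smul g v, e]⟩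
theorem VW.smul (hc : c ∈ C0) (h : VW X) : VW (c • X) :=
  let ⟨g, a, b⟩ := exists_lift hc; let ⟨v, k, e⟩ := h; ⟨_, k.smul a, e ▸ b v⟩

theorem tr3 (h1 : Gv v) (h2 : Gv w) (h3 : Gv v') (h4 : Gv w') (e : dt(v, w) = 16) (e' : dt(v', w') = 16) :
    ∃ c ∈ C0, c • wv v = wv v' ∧ c • wv w = wv w' := by
  obtain ⟨x, a⟩ := piQ_surjective v
  obtain ⟨y, b⟩ := piQ_surjective w
  obtain ⟨x', a'⟩ := piQ_surjective v'
  obtain ⟨y', b'⟩ := piQ_surjective w'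
  obtain ⟨c, hc, k1, k2, k3⟩ := (reg3 ⟨h1.1, a.symm⟩ ⟨h2.1, b.symm⟩ rep_t e h1.2 h2.2).trans3 (reg3 ⟨h3.1, a'.symm⟩ ⟨h4.1, b'.symm⟩ rep_t e' h3.2 h4.2)
  have m := mem_C0.2 ⟨hc, k3⟩
  exact ⟨c, m, a ▸ a' ▸ wv_conj m k1, b ▸ b' ▸ wv_conj m k2⟩

theorem tr4 (h1 : Gv u) (h2 : Gv v) (h3 : Gv w) (e1 : dt(u, v) = 16) (e2 : dt(u, w) = 16) (e3 : dt(v, w) = 16) :
    ∃ c ∈ C0, DW (c • wv u) ∧ DW (c • wv v) ∧ DW (c • wv w) := by
  have r : ∀ {u v w x y z}, Gv u → Gv v → Gv w → piQ x = u → piQ y = v → piQ z = w → dt(u, v) = 16 → dt(u, w) = 16 → dt(v, w) = 16 →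
      Reg [x, y, z, tq] := fun h1 h2 h3 a b c e1 e2 e3 => ⟨[_, _, _, tv], .cons ⟨h1.1, a.symm⟩ (.cons ⟨h2.1, b.symm⟩ (.cons ⟨h3.1, c.symm⟩
    (.cons rep_t .nil))), by simp [e1, e2, e3, h1.2, h2.2, h3.2]⟩
  have p : ∀ m, pI ≠ m → piQ (eP 0 pI m) = pv pI m 0 1 := fun m h => (piQ_zp_mul 0 _).symm.trans (rep_pv h 0 0 0).2.symm
  obtain ⟨x, a⟩ := piQ_surjective u
  obtain ⟨y, b⟩ := piQ_surjective v
  obtain ⟨z, d⟩ := piQ_surjective w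
  have g : ∀ m, pI ≠ m → m ≠ pJ → Gv (pv pI m 0 1) := fun m a b => gv_pv a.symm b 1
  have f : ∀ m m', pI ≠ m → pI ≠ m' → m ≠ m' → dt(pv pI m 0 1, pv pI m' 0 1) = 16 := fun m m' a b c => dt_pv_pv a b c ..
  obtain ⟨c, hc, k1, k2, k3, k4⟩ := (r h1 h2 h3 a b d e1 e2 e3).trans4 (r (g pK nofun hKJ) (g pL nofun (by decide)) (g (some 3) nofun (by decide))
    (p _ nofun) (p _ nofun) (p _ nofun) (f _ _ nofun nofun (by decide)) (f _ _ nofun nofun (by decide)) (f _ _ nofun nofun (by decide)))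
  have m := mem_C0.2 ⟨hc, k4⟩
  exact ⟨c, m, ⟨0, pK, hKI, hKJ, a ▸ wv_conj m k1⟩, ⟨0, pL, nofun, by decide, b ▸ wv_conj m k2⟩, 0, some 3, nofun, by decide, d ▸ wv_conj m k3⟩

theorem dt_K : dt(pv pI pK 0 (0 + 1), pv pI pK 0 (1 + 1)) = 0 := by decide +kernel
theorem gv_K (s : ZMod 2) : Gv (pv pI pK 0 s) := gv_pv hKI hKJ s
theorem adW_iff (h : Gv v) (h' : Gv w) : AdW (wv v) (wv w) ↔ dt(v, w) = 16 ∨ dt(v, w) = 0 := by
  have k : ∀ {w}, Gv w → dt(v, w) = 16 → AdW (wv v) (wv w) := fun h' e => by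
    have := tr3 (gv_K (0 + 1)) (gv_K (1 + 1)).sub h h' (by rw [(gv_K _).dt_sub, dt_K]; rfl) e
    rwa [wv_sub, ← wP_eq hKI, ← wP_eq hKI] at this
  refine ⟨fun ⟨c, hc, a, b⟩ => ?_, fun e => e.elim (k h') fun e => wv_sub w ▸ k h'.sub (by rw [h.dt_sub, e]; rfl)⟩
  obtain ⟨g, e, f⟩ := exists_lift hc
  rw [wP_eq hKI, f] at a b
  have d := (dot_smul g _ _).trans dt_K
  have d1 := h.dt_sub w
  have d2 := h'.dt_sub v
  have d3 := h.sub.dt_sub w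
  rw [dot_comm] at d2
  rw [dot_comm (w : Pt → ℤ)] at d2
  rcases ((gv_K _).smul e).cases h a with a | a <;> rcases ((gv_K _).smul e).cases h' b with b | b <;> rw [← a, ← b] at d <;> omega

theorem AdW.vw (h : AdW X Y) : VW X ∧ VW Y := by
  obtain ⟨c, hc, rfl, rfl⟩ := h
  exact ⟨(DW.vw ⟨0, pK, hKI, hKJ, rfl⟩).smul hc, (DW.vw ⟨1, pK, hKI, hKJ, rfl⟩).smul hc⟩
theorem AdW.symm (h : AdW X Y) : AdW Y X := by
  obtain ⟨⟨v, a, rfl⟩, w, b, rfl⟩ := h.vw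
  exact (adW_iff b a).2 (dot_comm (v : Pt → ℤ) w ▸ (adW_iff a b).1 h)
theorem adW_irrefl (X : Set Iv) : ¬ AdW X X := fun h => by
  obtain ⟨⟨v, a, rfl⟩, -⟩ := h.vw
  have := (adW_iff a a).1 h
  rw [← sqNorm_eq_dot, a.1] at this; omega

theorem Gv.dw (h : Gv v) (e : v⦃pI⦄ = 4 ∨ v⦃pI⦄ = 0) : DW (wv v) := by
  have k : ∀ {v}, Gv v → v⦃pI⦄ = 4 → DW (wv v) := fun h e => by
    obtain ⟨m, s, a, b, rfl⟩ := SB.four ⟨h.1, by rw [h.val, e]; rfl⟩ hIJ e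
    exact dw_pv a.symm b.symm s
  exact e.elim (k h) fun e => wv_sub v ▸ k h.sub (by rw [AddSubgroup.coe_sub, Pi.sub_apply, e, pv_fst hIJ]; rfl)

theorem Gv.shape (h : Gv v) (e : ¬ DW (wv v)) (h1 : m ≠ pI) (h2 : m ≠ pJ) :
    v⦃pI⦄ = 2 ∧ (v⦃m⦄ = 0 ∨ v⦃m⦄ = 2 ∨ v⦃m⦄ = -2) ∨ (v⦃pI⦄ = 1 ∨ v⦃pI⦄ = 3) ∧ (v⦃m⦄ = 1 ∨ v⦃m⦄ = -1) := by
  have a := mt h.dw e
  have b := h.val
  have s : ∀ {x c : ℤ}, (x = 0 ∨ ∃ e, x = c * sz e) → x = 0 ∨ x = c ∨ x = -c := fun h => h.imp_right fun ⟨e, h⟩ => by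
    rcases sz_cases e with k | k <;> simp [h, k]
  rcases short_vec h.1 with p | ⟨O, δ, k, rfl⟩ | ⟨d, i, rfl⟩
  · have := s (IsP.val p pI); have := s (IsP.val p pJ); omega
  · have := s (lT_val k pI); have := s (lT_val k pJ); have := s (lT_val k m); omega
  have := sz_cases ((d : W) pI); have := sz_cases ((d : W) pJ); have := sz_cases ((d : W) m)
  by_cases k1 : i = pI
  · rw [k1, lW_self, lW_ne _ hIJ.symm] at b; rw [k1, lW_self, lW_ne _ h1]; omega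
  by_cases k2 : i = pJ
  · rw [k2, lW_self, lW_ne _ hIJ] at b; rw [k2, lW_ne _ hIJ, lW_ne _ h2]; omega
  · rw [lW_ne _ (Ne.symm k1), lW_ne _ (Ne.symm k2)] at b; omega

theorem meet (h : Gv v) (h' : Gv w) (e : ¬ DW (wv v)) (e' : ¬ DW (wv w)) (d : dt(v, w) = 32 ∨ dt(v, w) = 16 ∨ dt(v, w) = 0) :
    ∃ U, DW U ∧ AdW (wv v) U ∧ AdW (wv w) U := by
  by_contra! k
  have a : ∀ m ∈ (univ.erase pI).erase pJ, v⦃m⦄ * w⦃m⦄ = -((v⦃pI⦄ - 2) * (w⦃pI⦄ - 2)) := fun m hm => by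
    have h2 := ne_of_mem_erase hm
    have h1 := ne_of_mem_erase (mem_of_mem_erase hm)
    have k0 := k _ (dw_pv h1 h2 0)
    have k1 := k _ (dw_pv h1 h2 1)
    simp only [adW_iff h (gv_pv h1 h2 _), adW_iff h' (gv_pv h1 h2 _), dt_pv', sz_zero, sz_one] at k0 k1
    rcases h.shape e h1 h2 with ⟨a, b | b | b⟩ | ⟨a | a, b | b⟩ <;> rcases h'.shape e' h1 h2 with ⟨c, d | d | d⟩ | ⟨c | c, d | d⟩ <;>
      rw [a, b, c, d] at k0 k1 ⊢ <;> omega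
  rw [dotInt, ← add_sum_erase _ _ (mem_univ pI), ← add_sum_erase _ _ (mem_erase.2 ⟨hIJ.symm, mem_univ _⟩), sum_congr rfl a, sum_const,
    show ((univ.erase pI).erase pJ).card = 22 by decide +kernel, h.val, h'.val] at d
  rcases h.shape e hKI hKJ with ⟨a, -⟩ | ⟨a | a, -⟩ <;> rcases h'.shape e' hKI hKJ with ⟨c, -⟩ | ⟨c | c, -⟩ <;>
    rw [a, c] at d <;> simp at d

theorem exists_secW {Y : Type*} {C : Cov AdW Y} (T : C.Tri VW) {a : Y} (ha : C.p a = wP 0 pK) :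
    Conn AdW VW ∧ ∃ s, C.Sec VW s ∧ s (wP 0 pK) = a := by
  rw [← ha]
  refine sec_of_clique T AdW.symm adW_irrefl (fun _ => DW.vw) ?_ ?_ ⟨0, pK, hKI, hKJ, ha⟩
  · rintro _ _ ⟨n, m, a, b, rfl⟩ ⟨n', m', a', b', rfl⟩
    rw [wP_eq a, wP_eq a', adW_iff (gv_pv a b _) (gv_pv a' b' _)]
    by_cases e : m = m'
    · subst e
      rw [dt_pv, pv_fst a.symm, pv_snd a.symm]
      rcases z2_cases n with rfl | rfl <;> rcases z2_cases n' with rfl | rfl <;> simp [z2_add_self]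
    · exact .inr (.inl (dt_pv_pv a.symm a'.symm e ..))
  · rintro _ _ ⟨v, a, rfl⟩ ⟨w, b, rfl⟩ e e' (k | k)
    · exact k ▸ meet a a e e (.inl ((sqNorm_eq_dot _).symm.trans a.1))
    · exact meet a b e e' (.inr ((adW_iff a b).1 k))

/-- every triangle is conjugate to a triangle in the clique -/
theorem triW (h1 : AdW X Y) (h2 : AdW X Z) (h3 : AdW Y Z) : ∃ c ∈ C0, DW (c • X) ∧ DW (c • Y) ∧ DW (c • Z) := by
  obtain ⟨g, hg, rfl, rfl⟩ := h1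
  obtain ⟨u, a, e⟩ := h2.vw.2.smul (inv_mem hg)
  replace h2 := (adW_iff (gv_K (0 + 1)) a).1 (by simpa only [← e, ← wP_eq hKI, inv_smul_smul] using h2.smul (inv_mem hg))
  replace h3 := (adW_iff (gv_K (1 + 1)) a).1 (by simpa only [← e, ← wP_eq hKI, inv_smul_smul] using h3.smul (inv_mem hg))
  have k : ∃ c ∈ C0, DW (c • wP 0 pK) ∧ DW (c • wP 1 pK) ∧ DW (c • wv u) := by
    by_cases k : u⦃pI⦄ = 4 ∨ u⦃pI⦄ = 0
    · exact ⟨1, one_mem _, ⟨0, pK, hKI, hKJ, one_smul ..⟩, ⟨1, pK, hKI, hKJ, one_smul ..⟩, (one_smul Aut (wv u)).symm ▸ a.dw k⟩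
    have d0 := dt_pv pI pK 0 (0 + 1) u
    have d1 := dt_pv pI pK 0 (1 + 1) u
    have d2 := a.dt_sub (pv pI pK 0 (0 + 1))
    have d3 := a.dt_sub (pv pI pK 0 (1 + 1))
    rw [dot_comm, dot_comm (u : Pt → ℤ)] at d2 d3
    rw [sz_succ, sz_zero] at d0
    rw [sz_succ, sz_zero, sz_one] at d1
    rw [wP_eq hKI, wP_eq hKI]
    rcases h2 with h2 | h2
    · exact wv_sub (pv pI pK 0 (1 + 1)) ▸ tr4 (gv_K _) (gv_K _).sub a (by rw [(gv_K _).dt_sub, dt_K]; rfl) h2 (by omega)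
    · exact wv_sub (pv pI pK 0 (0 + 1)) ▸ tr4 (gv_K _).sub (gv_K _) a (by rw [dot_comm, (gv_K _).dt_sub, dot_comm, dt_K]; rfl) (by omega) (by omega)
  obtain ⟨c, hc, k⟩ := k
  exact ⟨c * g⁻¹, mul_mem hc (inv_mem hg), by simpa only [mul_smul, inv_smul_smul, e] using k⟩

end Cfsg.Lib.Bab
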