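import Cfsg.Agent.Lib.Bab.Inf
import Cfsg.Agent.Lib.Bab.Wg
import Cfsg.Agent.Lib.Bab.Ext

/-! # Small representations of the Baby Monster: fixed vectors of local subgroups -/

set_option autoImplicit false

namespace Cfsg.Lib.Bab

open Module Finset LinearMap Griess Subgroup Cfsg.Lib.Mon Cfsg.Lib.Deg Cfsg.Lib.M3 Matrix MulAction
open Leech hiding vW
open scoped Pointwise

attribute [local irreducible] qV Griess.tau

variable {K N : Type*} [Field K] [AddCommGroup N] [Module K N]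

/-- the monomial elements which fix the first point -/
def DI : Subgroup Aut where
  carrier := {g | ∃ σ, Dp g σ ∧ (σ : Equiv.Perm Pt) pI = pI}
  one_mem' := ⟨1, dp_one, rfl⟩
  mul_mem' := fun ⟨_, a, b⟩ ⟨_, c, d⟩ => ⟨_, a.mul c, (congrArg _ d).trans b⟩
  inv_mem' := fun ⟨_, a, b⟩ => ⟨_, a.inv, (Equiv.symm_apply_eq _).2 b.symm⟩
/-- the monomial elements of `C0` -/
def Mo (c : Aut) : Prop := ∃ n ∈ N3, ∃ q ∈ Q0, c = n * qV q

variable {q : Q} {d : Cd} {c g n : Aut} {σ : M24} {m m' : Pt} {r : ZMod 2} {v : N} {S : Subgroup Aut} {X Y Z : Set Iv}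

theorem exists_sep {s : Finset Pt} (h : s.card ≤ 5) (hm : m ∉ s) : ∃ d : Cd, (d : W) m = 1 ∧ ∀ k ∈ s, (d : W) k = 0 := by
  obtain ⟨O, h1, h2⟩ := exists_oct s h
  rcases z2_cases ((O : W) m) with e | e
  · exact ⟨O + Om, by simp [e], fun k hk => by simp [h2 k hk, z2_add_self]⟩
  obtain ⟨j, j1, j2⟩ := exists_mem_wt (insert m s) (h1 ▸ (card_insert_le ..).trans_lt (by omega : s.card + 1 < 8))
  obtain ⟨d, hd⟩ := exists_trace (good_pair h1 e j1 1)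
  rw [mem_insert, not_or] at j2
  exact ⟨d, by simp [hd m e, e1_apply, Ne.symm j2.1], fun k hk => by
    simp [hd k (h2 k hk), e1_apply, (ne_of_mem_of_not_mem hk hm), ne_of_mem_of_not_mem hk j2.2]⟩

theorem exists_dT (h : m ≠ pI) (h' : m ≠ pJ) : ∃ d : Cd, pr d (cs d0) = 0 ∧ (d : W) ⬝ᵥ dT = 0 ∧ pr d (du pI m) = 1 := by
  by_cases e : m ∈ [pK, pL]
  · exact exists_eps.imp fun d k => ⟨k.1, k.2.1, k.2.2 _ (by simp) _ e⟩
  obtain ⟨d, a, b⟩ := exists_sep (s := {pI, pJ, pK, pL}) (card_le_four.trans (by norm_num)) (m := m) (by simp_all)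
  exact ⟨d, by simp [b], by simp [b], by simp [a, b]⟩

theorem Mo.of (h : n ∈ N3) : Mo n := ⟨n, h, 1, one_mem _, by simp⟩
theorem Mo.mem (h : Mo c) : c ∈ C0 := let ⟨_, a, _, b, e⟩ := h; e ▸ mul_mem (N3_le a) b
theorem Mo.ind (h : Mo c) : ∃ σ d, Ind c σ d ∧ sW σ d0 = d0 := by
  obtain ⟨n, a, q, -, rfl⟩ := h
  obtain ⟨σ, d, I⟩ := exists_ind_NV a.1
  exact ⟨_, _, I.mul (ind_qV q), by simpa using dp_d0 a I.dp⟩
theorem pow_eight (h : Ind c 1 d) : c ^ 8 = 1 := by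
  obtain ⟨q, e⟩ := ind_one_iff.1 (by simpa using h.mul h)
  rw [show c ^ 8 = (c * c) * (c * c) * ((c * c) * (c * c)) by simp only [pow_succ, pow_zero, one_mul, mul_assoc], ← e, ← map_mul, mul_self_eq,
    ← map_mul, ← zp_add, z2_add_self, zp_zero, map_one]
theorem ind_inv (h : Ind c σ 0) : Ind c⁻¹ σ⁻¹ 0 :=
  (Ov.inv h).imp fun _ e => e.trans (congrArg QuotientGroup.mk
    (eq_inv_of_mul_eq_one_right (a := mo σ 0) (b := mo σ⁻¹ 0) (by rw [mo_mul]; simp [mo_one])).symm)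

theorem zc_du (h : sW σ d0 = d0) (m : Pt) : Zc (cs (sW σ (e1 pI + e1 m)) + du pI ((σ : Equiv.Perm Pt) m)) := by
  rw [sW_add, sW_e1, sW_e1, ← cs_add, add_add_add_comm, w_add_self, add_zero]
  rcases swap_or h with e | e <;> rw [e.1]
  exacts [.inl (by rw [w_add_self]; rfl), .inr (by rw [add_comm])]

theorem ind_wP (hc : c ∈ C0) (I : Ind c σ d) (h : sW σ d0 = d0) (hd : pr d (cs d0) = 0) (r : ZMod 2) (m : Pt) :
    c • wP r m = wP (r + pr d (du pI ((σ : Equiv.Perm Pt) m))) ((σ : Equiv.Perm Pt) m) := by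
  rw [wP, wv_smul hc I, Leech.mk_smul, eP, mo_even _ _ _ _ (pair_dot_one ..), sW_add, sW_e1, sW_e1, wP]
  rcases swap_or h with e | e <;> rw [e.1]
  · rfl
  rw [← wv_add, ← piQ_mul]
  refine congrArg wv (piQ_congr ?_ ?_)
  · simp only [pr_cs, dotProduct_add, dot_e1, z2_eq_iff.symm] at hd
    simp [eP, hd]
  · simp only [eP, mul_c, qe_c, tq_c, d0, ← cs_add]
    rw [add_comm (e1 pI) (e1 pJ), add_add_add_comm, w_add_self, zero_add, add_comm]

theorem q_wv (hq : q ∈ Q0) (a : L2) : qV q • wv a = wv a := by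
  rw [wv_smul hq ⟨qV_mem q, rhoC_eq_one.2 ⟨q, rfl⟩⟩, one_smul]
theorem yq_wP (hd : pr d (cs d0) = 0) (r : ZMod 2) (m : Pt) : yq 0 d • wP r m = wP (r + pr d (du pI m)) m :=
  ind_wP (N3_le (yq_N3 hd 0)) (ind_yq 0 d) rfl hd r m
theorem xp_wP (h : sW σ d0 = d0) (e : (σ : Equiv.Perm Pt) m = m) (r : ZMod 2) : xp σ • wP r m = wP r m := by
  rw [ind_wP (N3_le (xp_N3 h)) (ind_xp σ) h (pr_zero _), pr_zero, add_zero, e]
theorem d0_of (h : (σ : Equiv.Perm Pt) pI = pJ) (h' : (σ : Equiv.Perm Pt) pJ = pI) : sW σ d0 = d0 := by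
  rw [sW_add, sW_e1, sW_e1, h, h', add_comm]
theorem d0_of' (h : (σ : Equiv.Perm Pt) pI = pI) (h' : (σ : Equiv.Perm Pt) pJ = pJ) : sW σ d0 = d0 := by rw [sW_add, sW_e1, sW_e1, h, h']

/-- an element which interchanges the first two points is conjugate under a swap to such an element -/
theorem Sw.swap {s : Aut} (hs : Sw s) (h1 : (σ : Equiv.Perm Pt) pI = pJ) (h2 : (σ : Equiv.Perm Pt) pJ = pI) (h3 : (σ : Equiv.Perm Pt) pK = pK)
    (h4 : (σ : Equiv.Perm Pt) pL = pL) : s⁻¹ * xp σ * s ∈ N3 ∧ s⁻¹ * xp σ * s ∉ DI := by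
  have m := xp_N3 (d0_of h1 h2)
  have m' : s⁻¹ * xp σ * s ∈ N3 := mem_N3_of (mul_mem (mul_mem (inv_mem hs.1) (N3_le m)) hs.1) (by
    rw [conj_mul_conj, hs.2.1, conj_mul_conj, xp_bq, sW_add, d0_of h1 h2, sW_add, sW_e1, sW_e1, h3, h4, hs.inv.2.2])
  refine ⟨m', fun ⟨π, e, k⟩ => ?_⟩
  obtain ⟨y, e3, -, e4⟩ := exists_conj (inv_mem hs.1.1) (eP 0 pI pK)
  have e5 : s * qV y * s⁻¹ = qV (eP 0 pI pK) := by rw [← e3]; group
  have w0 := wt_P hKI hKJ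
  have u := PT.u0 (pt_of_om (e4.2 w0.1) (short_of_conj (conj_mul e5 hs.2.1) ((short_congr' (piQ_congr (by simp [eP])
    (congrArg cs (by decide +kernel : e1 pJ + e1 pL = e1 pI + e1 pK + dT)))).1 (short_eP 0 (i := pJ) (j := pL) (by decide)))))
  obtain ⟨m1, a1, a2, a3⟩ := Wt.P ⟨e4.2 w0.1, short_of_conj (conj_mul e5 (mem_C0.1 hs.1).2) w0.2⟩ u
  obtain ⟨_, d, I⟩ := exists_ind_NV m'.1
  have e6 : s⁻¹ * xp σ * s * qV y * (s⁻¹ * xp σ * s)⁻¹ = qV (y * tq) := by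
    rw [conj_mul_conj, e5, conj_mul_conj, qV_eP0, xp_bq, ← conj_mul e3 (mem_C0.1 (inv_mem hs.1)).2, map_mul, qV_eP0, ← tA, tA_eq, ← bq_add,
      sW_add, sW_e1, sW_e1, h1, h3, show e1 pJ + e1 pK = e1 pI + e1 pK + d0 by decide +kernel]
  have k' := ((swap_or (dp_d0 m' e)).resolve_right fun l => hIJ (k.symm.trans l.1)).2
  obtain ⟨t, ht⟩ : ∃ t : ZMod 2, y.d = t • Om := (u0_piQ.1 u).1.elim (fun l => ⟨0, by rw [l, zero_smul]⟩) fun l => ⟨1, by rw [l, one_smul]⟩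
  have key : ∀ i, y.c = du i m1 → du i m1 + cs d0 = du ((π : Equiv.Perm Pt) i) ((π : Equiv.Perm Pt) m1) := fun i l => by
    have := (I.of_dp e).piQ e6
    rw [piQ_congr (x := y) (y := qe 0 (t • Om) (e1 i + e1 m1)) ht l, mo_even _ _ _ _ (pair_dot_one ..), sW_add, sW_e1, sW_e1] at this
    exact l ▸ (dc_of this).2
  rcases a3 with l | l <;> have := key _ l
  · rw [k, ← cs_add, add_add_add_comm, w_add_self, zero_add] at this
    exact (eq_of_du (k ▸ (π : Equiv.Perm Pt).injective.ne a1.symm) a2 this).elim (a1 ·.1) (hIJ ·.2.symm)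
  · rw [k', ← cs_add, d0, add_comm (e1 pI), add_add_add_comm, w_add_self, zero_add] at this
    exact (eq_of_du (k' ▸ (π : Equiv.Perm Pt).injective.ne a2.symm) a1 this).elim (a2 ·.1) (hIJ ·.2)

namespace RepB

variable {ρ : Aut → End K N} (h : RepB ρ) [FiniteDimensional K N]
include h

theorem AM_semi (hc : Mo c) (e : Dp c σ) (m : Pt) : ρ c * AM ρ m = AM ρ ((σ : Equiv.Perm Pt) m) * ρ c := by
  obtain ⟨n, a, q, b, rfl⟩ := hc
  replace e : Dp n σ := by simpa using e.mul (ind_qV q).dp.inv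
  have k : ρ n * AM ρ m = AM ρ ((σ : Equiv.Perm Pt) m) * ρ n := by
    rw [AM, ← mul_assoc, h.P0_comm (N3_le a), mul_assoc, h.PY_semi tp_tau a e (pair_dot_one ..), PX_congr _ (zc_du (dp_d0 a e) m), AM, mul_assoc]
  rw [h.mul (C0_le (N3_le a)) (Q0_B0 b), ← mul_assoc, ← k, mul_assoc, mul_assoc, ← h.P0_AM, ← mul_assoc (ρ (qV q)), h.q_P0 b, h.P0_AM,
    ← h.AM_P0, mul_assoc, h.P0_q b]

theorem rk_AM (k : m ≠ pJ) : rk (AM ρ m) ≤ 1 := by
  have a := sum_rk_le (univ.erase pJ) (fun m _ => h.AM_idem m)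
    (fun m k m' k' => h.AM_orth (ne_of_mem_erase k) (ne_of_mem_erase k')) fun m _ => h.P0_AM m
  have b := card_nsmul_le_sum ((univ.erase pJ).erase m) (fun m => rk (AM ρ m)) 1 fun m k => rk_pos (by
    by_cases e : m = pI
    exacts [by rw [e, h.AM_I]; exact h.Pinf_ne, h.AM_ne e (ne_of_mem_erase (mem_of_mem_erase k))])
  rw [← add_sum_erase _ _ (mem_erase.2 ⟨k, mem_univ _⟩)] at a
  rw [card_erase_of_mem (mem_erase.2 ⟨k, mem_univ _⟩), show (univ.erase pJ).card = 23 by decide +kernel, smul_eq_mul] at b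
  have := h.small.2.2; have := h.dim; omega

theorem AM_zero (hd : pr d (cs d0) = 0) (e : pr d (du pI m) = 1) (hv : ρ (yq 0 d) v = v) : AM ρ m v = 0 := by
  have a := h.y_AM (xq_X0 hd 0) m
  rw [← xq, ← yq, qe_d, e, h.AM_semi (.of (yq_N3 hd 0)) (ind_yq 0 d).dp, sk_one, neg_smul, one_smul] at a
  have b : AM ρ m (ρ (yq 0 d) v) = -AM ρ m v := congr($a v)
  rw [hv, eq_neg_iff_add_eq_zero, ← two_smul K, smul_eq_zero] at b
  exact b.resolve_left h.two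

theorem smul_of_AM {T : End K N} {a : K} (hv : PQ ρ 1 v = v) (e : ∀ m ≠ pJ, T (AM ρ m v) = a • AM ρ m v) : T v = a • v := by
  have : (PQ ρ 1 - ∑ m ∈ univ.erase pJ, AM ρ m) * PQ ρ 1 = 0 := h.P0_complete fun m k => by
    rw [sub_mul, h.P0_AM, sum_mul, sum_eq_single_of_mem m (mem_erase.2 ⟨k, mem_univ _⟩) fun _ a => h.AM_orth (ne_of_mem_erase a) k,
      h.AM_idem, sub_self]
  have b : (PQ ρ 1 - ∑ m ∈ univ.erase pJ, AM ρ m) (PQ ρ 1 v) = 0 := congr($this v)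
  rw [hv, LinearMap.sub_apply, hv, sub_eq_zero, LinearMap.sum_apply] at b
  rw [b, map_sum, smul_sum]
  exact sum_congr rfl fun m k => e m (ne_of_mem_erase k)

theorem zero_of_neg (hv : PQ ρ 1 v = v) (hg : ρ g v = v) (e : ∀ m ≠ pJ, AM ρ m v = 0 ∨ ρ g * AM ρ m = -AM ρ m) : v = 0 := by
  have := h.smul_of_AM (T := ρ g) (a := -1) hv fun m k => (e m k).elim (fun l => by simp [l]) fun l => by simpa using congr($l v)
  rw [hg, neg_smul, one_smul, eq_neg_iff_add_eq_zero, ← two_smul K, smul_eq_zero] at this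
  exact this.resolve_left h.two

theorem P0_of (e : ∀ q ∈ X0, pr q.d (cs dT) = 0 → ρ (qV q) v = v) : PQ ρ 1 v = v := by
  have : (FF ρ - ∑ m ∈ univ.erase pJ, PX ρ (du pI m)) * FF ρ = 0 := h.FF_complete fun c hc => by_contra fun l => by
    obtain ⟨m, k, f⟩ := h.PX_ne hc (right_ne_zero_of_mul l)
    refine l ?_
    rw [sub_mul, FF, h.pq_mul_of fun q hq => by rw [h.q_PX (Xh_le hq), u0_pr hq hc], PX_congr _ f, sum_mul,
      sum_eq_single_of_mem m (mem_erase.2 ⟨k, mem_univ _⟩) fun _ a b => h.PX_orth (not_zc (ne_of_mem_erase a) k b), h.PX_idem, sub_self]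
  have a : FF ρ v = v := pj_apply_of (h.card_ne _) fun q => by rw [e q (Xh_le q.2) (u0_pr q.2 (by simp)), sk_zero, one_smul]
  have b : (FF ρ - ∑ m ∈ univ.erase pJ, PX ρ (du pI m)) (FF ρ v) = 0 := congr($this v)
  rw [a, LinearMap.sub_apply, a, sub_eq_zero, LinearMap.sum_apply, sum_eq_single_of_mem pI (mem_erase.2 ⟨hIJ, mem_univ _⟩) fun m k l => by
    obtain ⟨d, d1, d2, d3⟩ := exists_dT l (ne_of_mem_erase k)
    have c := h.pq_q (ch_X0 (du pI m)) (xq_X0 d1 0)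
    have f : PX ρ (du pI m) (ρ (qV (qe 0 d (th d))) v) = sk K (pr d (du pI m)) • PX ρ (du pI m) v := congr($c v)
    rw [e _ (xq_X0 d1 0) d2, d3, sk_one, neg_smul, one_smul, eq_neg_iff_add_eq_zero, ← two_smul K, smul_eq_zero] at f
    exact f.resolve_left h.two, du, w_add_self] at b
  rw [← h.PX_zero]; exact b.symm

/-- the centralizer of the pure eight-group has no fixed vectors -/
theorem fix_T (e : ∀ g ∈ N3, g * bq dT * g⁻¹ = bq dT → ρ g v = v) : v = 0 := by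
  obtain ⟨σ, k⟩ := exists_perm (l := [pI, pJ, pK, pL]) (l' := [pJ, pI, pK, pL]) (by decide) (by decide)
  simp only [List.map_cons, List.map_nil, List.cons.injEq, and_true] at k
  have m := xp_N3 (d0_of k.1 k.2.1)
  refine h.zero_of_neg (h.P0_of fun q a b => e _ a (by rw [bq, qV_conj]; simp_all [zp_zero])) (e _ m (by
    rw [xp_bq, sW_add, d0_of k.1 k.2.1, sW_add, sW_e1, sW_e1, k.2.2.1, k.2.2.2])) fun m' l => ?_
  by_cases f : m' = pI
  · exact .inr (by rw [f, h.AM_I]; exact h.neg_Pinf m (dp_xp σ) (k.1 ▸ hIJ.symm))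
  obtain ⟨d, d1, d2, d3⟩ := exists_dT f l
  exact .inl (h.AM_zero d1 d3 (e _ (yq_N3 d1 0) (by rw [yq_bq dT_even, d2, zero_smul, bq])))

theorem AM_s {s : Aut} (hs : Sw s) : AM ρ pK * (ρ s * Pinf ρ) ≠ 0 := fun l => by
  obtain ⟨d, hd⟩ := exists_eps
  obtain ⟨m, σ, e, k⟩ := hs.eps hd.1 hd.2.1 hd.2.2
  rw [h.s_Pinf hs hd, ← mul_assoc] at l
  replace l := h.zero_of_mul (C0_le hs.1) l
  generalize s * yq 0 d * s⁻¹ = n at *
  have b1 : ρ n * AM ρ pK = AM ρ pL * ρ n := by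
    rw [AM, ← mul_assoc, h.P0_comm (N3_le m), mul_assoc, h.PY_semi tp_tau m e (pair_dot_one ..), k, AM, mul_assoc,
      PX_congr _ (c' := du pI pL) (.inr (congrArg cs (by decide +kernel : e1 pJ + e1 pL + (e1 pI + e1 pL) = d0)))]
  have := congr($l * AM ρ pK)
  rw [mul_assoc, h.P2_AM (by simp), hf, smul_mul_assoc, add_mul, smul_mul_assoc, b1, mul_smul_comm, mul_add, mul_smul_comm,
    ← mul_assoc _ _ (ρ n), h.AM_orth (m := pK) (m' := pL) (by decide) (by decide) (by decide), one_mul, h.AM_idem] at this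
  exact h.AM_ne hKI hKJ (by simpa [h.two] using this)

theorem sign0 (h1 : (σ : Equiv.Perm Pt) pI = pJ) (h2 : (σ : Equiv.Perm Pt) pJ = pI) (h3 : (σ : Equiv.Perm Pt) pK = pK)
    (h4 : (σ : Equiv.Perm Pt) pL = pL) (hn : n ∈ N3) (I : Ind n σ 0) : ρ n * AM ρ pK = -AM ρ pK := by
  obtain ⟨s, hs⟩ := exists_s
  obtain ⟨a, b⟩ := Sw.swap hs h1 h2 h3 h4
  obtain ⟨π, e, -⟩ := exists_dp a
  have m := xp_N3 (d0_of h1 h2)
  have k := h.AM_semi (.of m) (dp_xp σ) pK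
  rw [h3] at k
  obtain ⟨c, hc⟩ := exists_smul_of_rk (h.rk_AM hKJ) (h.AM_idem pK) k
  have f : ρ (xp σ) * (ρ s * Pinf ρ) = -(ρ s * Pinf ρ) := by
    rw [← mul_neg, ← h.neg_Pinf a e fun l => b ⟨π, e, l⟩, ← mul_assoc, ← mul_assoc,
      h.rel (C0_le (N3_le m)) (C0_le hs.1) (C0_le hs.1) (C0_le (N3_le a)) (by group)]
  obtain rfl : c = -1 := smul_left_injective K (h.AM_s hs) (by
    simp only [← smul_mul_assoc, ← hc]; rw [k, mul_assoc, f, mul_neg, neg_smul, one_smul, neg_mul])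
  obtain ⟨q, rfl⟩ := Ov.mem (ind_xp σ) I
  have hq : q ∈ Q0 := N3_le ((N3.mul_mem_cancel_left m).1 hn)
  rw [h.mul (C0_le (N3_le m)) (Q0_B0 hq), mul_assoc, ← h.P0_AM, ← mul_assoc (ρ (qV q)), h.q_P0 hq, h.P0_AM, hc, neg_smul, one_smul]

theorem sign (h1 : (σ : Equiv.Perm Pt) pI = pJ) (h2 : (σ : Equiv.Perm Pt) pJ = pI) (h3 : (σ : Equiv.Perm Pt) m = m)
    (h4 : (σ : Equiv.Perm Pt) m' = m') (k : [pI, pJ, m, m'].Nodup) : ρ (xp σ) * AM ρ m = -AM ρ m := by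
  obtain ⟨π, e⟩ := exists_perm (l := [pI, pJ, pK, pL]) (by decide) k
  simp only [List.map_cons, List.map_nil, List.cons.injEq, and_true] at e
  have a := xp_N3 (d0_of' e.1 e.2.1)
  have b := xp_N3 (d0_of h1 h2)
  have f : ∀ {x y x' y'}, (π : Equiv.Perm Pt) x = x' → (π : Equiv.Perm Pt) y = y' → (σ : Equiv.Perm Pt) x' = y' →
      ((π⁻¹ * σ * π : M24) : Equiv.Perm Pt) x = y := fun a b c => (Equiv.symm_apply_eq _).2 (((congrArg _ a).trans c).trans b.symm)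
  have c := h.sign0 (f e.1 e.2.1 h1) (f e.2.1 e.1 h2) (f e.2.2.1 e.2.2.1 h3) (f e.2.2.2 e.2.2.2 h4) (mul_mem (mul_mem (inv_mem a) b) a)
    (by simpa using ((ind_inv (ind_xp π)).mul (ind_xp σ)).mul (ind_xp π))
  have l := h.AM_semi (.of a) (dp_xp π) pK
  rw [e.2.2.1] at l
  refine h.cancel (C0_le (N3_le a)) ?_
  rw [mul_assoc, neg_mul, ← l, ← mul_neg, ← c, ← mul_assoc, ← mul_assoc, h.rel (C0_le (N3_le b)) (C0_le (N3_le a)) (C0_le (N3_le a))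
    (C0_le (N3_le (mul_mem (mul_mem (inv_mem a) b) a))) (by group)]

/-- the stabilizer of three weights in the clique has no fixed vectors -/
theorem fix_W (h1 : DW X) (h2 : DW Y) (h3 : DW Z) (e : ∀ g ∈ C0, g • X = X → g • Y = Y → g • Z = Z → ρ g v = v) : v = 0 := by
  obtain ⟨r1, m1, a1, b1, rfl⟩ := h1
  obtain ⟨r2, m2, a2, b2, rfl⟩ := h2
  obtain ⟨r3, m3, a3, b3, rfl⟩ := h3
  obtain ⟨t, t1, t2, t3⟩ := exists_subsuperset_card_eq (s := {m1, m2, m3}) (t := (univ.erase pI).erase pJ) (n := 3)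
    (by simp [insert_subset_iff, *]) card_le_three (by decide +kernel)
  obtain ⟨a, b, c, ab, ac, bc, rfl⟩ := card_eq_three.1 t3
  simp only [insert_subset_iff, singleton_subset_iff, mem_erase, mem_univ, and_true] at t2
  obtain ⟨⟨a4, a5⟩, ⟨b4, b5⟩, c4, c5⟩ := t2
  have n := And.intro hIJ (And.intro hIJ.symm (And.intro (And.intro a4.symm a5.symm) (And.intro (And.intro b4.symm b5.symm)
    (And.intro (And.intro c4.symm c5.symm) (And.intro (And.intro ab ab.symm) (And.intro ac ac.symm))))))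
  obtain ⟨σ, k⟩ := exists_perm (l := [pI, pJ, a, b, c]) (l' := [pJ, pI, a, b, c]) (by simp [n, bc]) (by simp [n, bc])
  simp only [List.map_cons, List.map_nil, List.cons.injEq, and_true] at k
  have f : ∀ m ∈ ({a, b, c} : Finset Pt), (σ : Equiv.Perm Pt) m = m := by simp [k]
  have m := d0_of k.1 k.2.1
  refine h.zero_of_neg (pj_apply_of (h.card_ne _) fun q => by rw [e _ q.2 (q_wv q.2 _) (q_wv q.2 _) (q_wv q.2 _)]; simp [cmQ])
    (e _ (N3_le (xp_N3 m)) (xp_wP m (f _ (t1 (by simp))) _) (xp_wP m (f _ (t1 (by simp))) _) (xp_wP m (f _ (t1 (by simp))) _)) fun m' l => ?_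
  by_cases u : m' ∈ ({pI, pJ, a, b, c} : Finset Pt)
  · simp only [mem_insert, mem_singleton, l, false_or] at u
    rcases u with rfl | rfl | rfl | rfl
    exacts [.inr (by rw [h.AM_I]; exact h.neg_Pinf (xp_N3 m) (dp_xp σ) (k.1 ▸ hIJ.symm)),
      .inr (h.sign k.1 k.2.1 k.2.2.1 k.2.2.2.1 (by simp [n])), .inr (h.sign k.1 k.2.1 k.2.2.2.1 k.2.2.1 (by simp [n])),
      .inr (h.sign k.1 k.2.1 k.2.2.2.2 k.2.2.1 (by simp [n]))]
  obtain ⟨d, d1, d2⟩ := exists_sep card_le_five u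
  have d3 : pr d (cs d0) = 0 := by simp [d2]
  have d4 : ∀ r, ∀ m ∈ ({m1, m2, m3} : Finset Pt), yq 0 d • wP r m = wP r m := fun r m l => by
    rw [yq_wP d3, show pr d (du pI m) = 0 by simp [d2, d2 m (mem_insert_of_mem (mem_insert_of_mem (t1 l)))], add_zero]
  exact .inl (h.AM_zero d3 (by simp [d1, d2]) (e _ (N3_le (yq_N3 d3 0)) (d4 _ _ (by simp)) (d4 _ _ (by simp)) (d4 _ _ (by simp))))

theorem exists_loc (hS : ∀ c ∈ S, Mo c) (hX : ∀ q ∈ X0, qV q ∈ S) {L : Subgroup M24} (hL : commutator L = ⊤)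
    (h1 : ∀ c ∈ S, ∀ σ, Dp c σ → (σ : Equiv.Perm Pt) pI = pI → σ ∈ L) (h2 : ∀ σ ∈ L, xp σ ∈ S ∧ (σ : Equiv.Perm Pt) pI = pI)
    (h3 : ∀ m ≠ pJ, (∀ σ ∈ L, (σ : Equiv.Perm Pt) m = m) ∨ ∃ d, pr d (cs d0) = 0 ∧ pr d (du pI m) = 1 ∧ yq 0 d ∈ S) :
    ∃ f : ↥(S ⊓ DI) →* L, Loc ρ S (S ⊓ DI) f := by
  have : ∀ g : ↥(S ⊓ DI), ∃ σ : L, Dp g σ := fun g => let ⟨σ, a, b⟩ := g.2.2; ⟨⟨σ, h1 _ g.2.1 σ a b⟩, a⟩
  choose f hf using this
  let F : ↥(S ⊓ DI) →* L := .mk' f fun a b => Subtype.ext ((hf _).unique ((hf a).mul (hf b)))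
  have s : Function.Surjective F := fun σ => ⟨⟨_, (h2 _ σ.2).1, _, dp_xp σ, (h2 _ σ.2).2⟩, Subtype.ext ((hf _).unique (dp_xp σ))⟩
  have o : ∀ {g} (k : g ∈ S), Dp g 1 → ∃ k, F ⟨g, k⟩ = 1 := fun k e => ⟨⟨k, 1, e, rfl⟩, Subtype.ext ((hf _).unique e)⟩
  refine ⟨F, inf_le_left, ?_, s, hL, fun g e => ?_, fun v e g hg => ?_⟩
  · rw [inf_relIndex_left]
    by_cases k : ∃ a ∈ S, a ∉ DI
    · obtain ⟨a, a1, a2⟩ := k
      refine index_dvd_two_iff.2 ⟨⟨a, a1⟩, fun b => or_iff_not_imp_right.2 fun l => ?_⟩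
      obtain ⟨σ, _, I, u⟩ := (hS a a1).ind
      obtain ⟨π, _, J, w⟩ := (hS b b.2).ind
      exact ⟨_, J.dp.mul I.dp, (congrArg _ ((swap_or u).resolve_left fun e => a2 ⟨σ, I.dp, e.1⟩).1).trans
        ((swap_or w).resolve_left fun e => l ⟨π, J.dp, e.1⟩).2⟩
    · exact index_dvd_two_iff.2 ⟨1, fun b => .inr (by_contra fun l => k ⟨b, b.2, l⟩)⟩
  · obtain ⟨σ, d, I, -⟩ := (hS _ g.2.1).ind
    exact Subtype.ext (pow_eight (I.of_dp (congrArg Subtype.val e ▸ hf g :)))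
  have p : PQ ρ 1 v = v := h.PX_zero ▸ pj_apply_of (h.card_ne _) fun q => by
    obtain ⟨k, l⟩ := o (hX q q.2) (ind_qV q).dp
    rw [e ⟨_, k⟩ l]; simp
  refine (h.smul_of_AM p fun m k => ?_).trans (one_smul K v)
  rcases h3 m k with l | ⟨d, d1, d2, d3⟩
  · have c : ∀ g : ↥(S ⊓ DI), ρ g * AM ρ m = AM ρ m * ρ g := fun g => by rw [h.AM_semi (hS _ g.2.1) (hf g), l _ (f g).2]
    rw [one_smul]
    exact fix_of_perfect F s hL (fun a ha b hb => h.mul (C0_le (hS a ha.1).mem) (C0_le (hS b hb.1).mem))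
      (fun g hg => (exists_smul_of_rk (h.rk_AM k) (h.AM_idem m) (c ⟨g, hg⟩)).imp fun a e => show (ρ g * AM ρ m) v = (a • AM ρ m) v by rw [e])
      (fun g u => show (ρ g * AM ρ m) v = _ by rw [c, Module.End.mul_apply, e g u]) hg
  · obtain ⟨k, l⟩ := o d3 (ind_yq 0 d).dp
    rw [h.AM_zero d1 d2 (e ⟨_, k⟩ l), map_zero, smul_zero]

end RepB

end Cfsg.Lib.Bab
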