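import Cfsg.Agent.Lib.Bab.Grp
import Cfsg.Agent.Lib.M3.Step

/-! # The centralizer `2 · B` of a short element: generators -/

set_option autoImplicit false

namespace Cfsg.Lib.Bab

open Finset Griess Subgroup MulAction Cfsg.Lib.Mon Cfsg.Lib.Deg Cfsg.Lib.M3 Matrix
open Spor hiding tau
open Leech hiding vW

variable {g c n : Aut} {q x y : Q} {d : Cd} {δ : W} {m : Pt}

/-- the image in `Co₁` -/
def Ov (c : Aut) (a : Co1) : Prop := ∃ h : c ∈ CZ, rhoC ⟨c, h⟩ = a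

theorem Ov.piQ {k : Co1} (h : Ov c k) (e : c * qV x * c⁻¹ = qV y) : piQ y = k • piQ x := by
  rw [← h.2, ← piM_conj, e, piM_qV]

theorem Ov.mul {k l : Co1} (h : Ov c k) (h' : Ov g l) : Ov (c * g) (k * l) :=
  ⟨mul_mem h.1 h'.1, by rw [← h.2, ← h'.2, ← map_mul]; rfl⟩
theorem Ov.inv {k : Co1} (h : Ov c k) : Ov c⁻¹ k⁻¹ := ⟨inv_mem h.1, by rw [← h.2, ← map_inv]; rfl⟩
theorem rhoC_surj : Function.Surjective rhoC := xd.surj

theorem exists_C0 {k : Co1} (h : k • piQ tq = piQ tq) : ∃ c ∈ C0, Ov c k := by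
  obtain ⟨g, hg⟩ := rhoC_surj k
  obtain ⟨s, hs⟩ := fix_sign (c := g) (x := tq) (x' := tq) (by rw [hg, h])
  obtain ⟨d, hd⟩ := not_forall.1 (mt eq_zero_of_pr_right c0_ne)
  replace hd := (z2_cases _).resolve_left hd
  obtain ⟨q, hq⟩ : ∃ q : Q, pr q.d tq.c + pr tq.d q.c = s := ⟨qe 0 (s • d) 0, by rcases z2_cases s with rfl | rfl <;> simp_all⟩
  have m := mul_mem (qV_mem q) g.2
  have b := (map_mul rhoC ⟨_, qV_mem q⟩ g).trans (by rw [rhoC_eq_one.2 ⟨q, rfl⟩, one_mul, hg])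
  exact ⟨_, mem_C0.2 ⟨m, hs _ hq⟩, m, b⟩

theorem fix_C0 {K N : Type*} [Field K] [AddCommGroup N] [Module K N] {L : Subgroup Co1} (hL : commutator L = ⊤)
    (h1 : ∀ k ∈ L, k • piQ tq = piQ tq) {R : Aut → Module.End K N} (hR : ∀ g ∈ C0, ∀ k ∈ C0, R (g * k) = R g * R k) {v : N}
    (hs : ∀ c ∈ C0, ∀ k ∈ L, Ov c k → ∃ r : K, R c v = r • v) (hk : ∀ q, qV q ∈ C0 → R (qV q) v = v) (hc : c ∈ C0) {k : Co1}
    (ha : k ∈ L) (e : Ov c k) : R c v = v := by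
  let S := C0.subgroupOf CZ ⊓ L.comap rhoC
  have mS : ∀ {g : CZ}, g ∈ S ↔ (g : Aut) ∈ C0 ∧ rhoC g ∈ L := mem_inf
  let f : S →* L := (rhoC.comp S.subtype).codRestrict L fun g => (mS.1 g.2).2
  refine fix_of_perfect f (fun k => ?_) hL (R := fun g : CZ => R g) (fun _ a _ b => hR _ (mS.1 a).1 _ (mS.1 b).1)
    (fun g a => hs _ (mS.1 a).1 _ (mS.1 a).2 ⟨g.2, rfl⟩) (fun g a => ?_) (g := ⟨c, e.1⟩) (mS.2 ⟨hc, by rw [e.2]; exact ha⟩)
  · obtain ⟨c, a, b, e⟩ := exists_C0 (h1 _ k.2)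
    exact ⟨⟨⟨c, b⟩, mS.2 ⟨a, by rw [e]; exact k.2⟩⟩, Subtype.ext e⟩
  · obtain ⟨q, hq⟩ := (rhoC_eq_one (g := g.1)).1 (congrArg Subtype.val a)
    have := (mS.1 g.2).1
    change qV q = (g.1 : Aut) at hq
    change R (g.1 : Aut) v = v
    rw [← hq] at this ⊢
    exact hk q this

theorem le_ncard_orbit (h1 : ¬ Sim x 1) (h2 : ¬ Wt x) : 23287 ≤ {y | ∃ c ∈ C0, c * qV x * c⁻¹ = qV y}.ncard := by
  obtain ⟨w, hw, h3, h4⟩ : ∃ w, (∀ c ∈ C0, c * qV w * c⁻¹ = qV w) ∧ piQ (x * w) ≠ 0 ∧ ¬ Short (x * w) := by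
    by_cases h : Short x
    · exact ⟨tq, fun c hc => (mem_C0.1 hc).2, fun e => h1 (Sim.symm (.inr (piQ_one.trans e.symm))), fun e => h2 ⟨h, e⟩⟩
    · exact ⟨1, by simp, fun e => h1 (.inl (by rwa [piQ_one, ← mul_one x])), by rwa [mul_one]⟩
  obtain ⟨u, e, hu⟩ := (short_cases _).resolve_left h3
  refine (le_orbit nm_leechU' (hu.resolve_left fun k => h4 ⟨u, k, e⟩)).trans
    (le_trans (Set.ncard_le_ncard ?_) (Set.ncard_image_le (f := fun y => piQ (y * w))))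
  rintro _ ⟨g, rfl⟩
  obtain ⟨c, hc, k⟩ := exists_C0 (k := (g : Co0)) (by rw [← piQ_t]; exact congrArg _ g.2)
  obtain ⟨y, hy, -⟩ := exists_conj hc.1 x
  exact ⟨y, ⟨c, hc, hy⟩, (k.piQ (conj_mul hy (hw c hc))).trans (e ▸ rfl)⟩

/-- an odd element -/
noncomputable abbrev bI : Aut := bq (e1 pI)
/-- an involution which interchanges `z` and `ω` -/
noncomputable def sg0 : Aut := tau * bI

theorem bI_w : bI * wA * bI⁻¹ = qV (zQ * aOm) := by rw [bq_inv, bq_conj_wA, e1_dot, map_mul]; rfl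
theorem N3_or (hc : c ∈ C0) {k : Co1} (e : Ov c k) (h : k • om = om) : c ∈ N3 ∨ c * bI ∈ N3 :=
  ((smul_om (n := ⟨c, hc.1⟩)).1 (show rhoC _ • om = om from e.2 ▸ h)).imp (fun h => ⟨⟨hc.1, h⟩, hc.2⟩) fun h =>
    have m := mul_mem hc (bq_C0 (e1 pI))
    ⟨⟨m.1, mem_centralizer_singleton_iff.2 (mul_inv_eq_iff_eq_mul.1 (by rw [conj_mul_conj, bI_w, conj_zaOm h, zz]))⟩, m.2⟩

/-- elements which interchange `ω` and the tetrad -/
def Sw (s : Aut) : Prop := s ∈ C0 ∧ s * wA * s⁻¹ = bq dT ∧ s * bq dT * s⁻¹ = wA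

variable {s : Aut} {F : Subgroup Aut}

theorem exists_g0 : ∃ g : Co0, g • (leechU : L2) = piQ tq ∧ g • om = om := by
  obtain ⟨d, hd⟩ := not_forall.1 (mt eq_zero_of_pr_right c0_ne)
  have := mo_even 1 d 0 1 (pair_dot_one pI pJ)
  rw [show (d : W) ⬝ᵥ sW 1 (e1 pI + e1 pJ) = 1 from (z2_cases _).resolve_left hd, z2_add_self] at this
  refine ⟨mo 1 d, ?_, mo_om 1 d⟩
  rw [show leechU = pv pI pJ 0 (0 + 1 + 1) from Subtype.ext (by decide +kernel), (rep_pv hIJ 0 1 0).2, piQ_zp_mul]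
  exact this

theorem Ov.mem {f : Aut} {k : Co1} (h : Ov f k) (h' : Ov c k) : ∃ q, c = f * qV q := by
  obtain ⟨q, hq⟩ := (rhoC_eq_one (g := ⟨f, h.1⟩⁻¹ * ⟨c, h'.1⟩)).1 (by rw [map_mul, map_inv, h.2, h'.2, inv_mul_cancel])
  exact ⟨q, eq_mul_of_inv_mul_eq hq.symm⟩

theorem C0_le_of (h : Sw s) (h1 : ∀ q, qV q ∈ C0 → qV q ∈ F) (h2 : N3 ≤ F) (h3 : s ∈ F) : C0 ≤ F := fun c hc => by
  obtain ⟨g0, e0, om0⟩ := exists_g0
  have key : ∀ c ∈ C0, ∃ g ∈ co2, Ov c (g0 * g * g0⁻¹ : Co0) := fun c hc => by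
    have e1 := Ov.piQ ⟨hc.1, rfl⟩ (mem_C0.1 hc).2
    obtain ⟨g, hg, e⟩ := (stabilizer_mk (x := leechU) (by rw [nm_leechU]; norm_num)).le
      (show ((g0 : Co1)⁻¹ * rhoC ⟨c, hc.1⟩ * g0) • (leechU : L2) = leechU by
        rw [mul_smul, mul_smul, Leech.mk_smul, e0, ← e1, inv_smul_eq_iff, Leech.mk_smul, e0])
    exact ⟨g, hg, hc.1, by rw [QuotientGroup.mk_mul, QuotientGroup.mk_mul, show (g : Co1) = _ from e, QuotientGroup.mk_inv]; group⟩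
  have om' : ∀ g, ((g0 * g * g0⁻¹ : Co0) : Co1) • om = om ↔ g ∈ monoGrp := fun g => by
    rw [Leech.mk_smul, mul_smul, mul_smul, inv_smul_eq_iff.2 om0.symm, smul_eq_iff_eq_inv_smul, inv_smul_eq_iff.2 om0.symm,
      om_eq, Leech.smul_mk, L2_eq_iff, mem_monoGrp_code]
  obtain ⟨g, hg, e⟩ := key s h.1
  obtain ⟨k, hk, e'⟩ := key c hc
  obtain ⟨H, mH⟩ : ∃ H : Subgroup Co0, ∀ {g}, g ∈ H ↔ ∃ f ∈ F ⊓ C0, Ov f (g0 * g * g0⁻¹ : Co0) :=
    ⟨{ carrier := {g | ∃ f ∈ F ⊓ C0, Ov f (g0 * g * g0⁻¹ : Co0)}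
       one_mem' := ⟨1, one_mem _, one_mem _, by rw [mul_one, mul_inv_cancel]; exact map_one rhoC⟩
       mul_mem' := fun ⟨a, a1, a2⟩ ⟨b, b1, b2⟩ => ⟨_, mul_mem a1 b1, by
        simpa only [← QuotientGroup.mk_mul, _root_.conj_mul] using a2.mul b2⟩
       inv_mem' := fun ⟨a, a1, a2⟩ => ⟨_, inv_mem a1, by simpa only [← QuotientGroup.mk_inv, conj_inv] using a2.inv⟩ }, Iff.rfl⟩
  have a1 : monoGrp ⊓ co2 ≤ H := fun g hg => by
    obtain ⟨c, hc, e⟩ := exists_C0 (k := (g0 * g * g0⁻¹ : Co0)) (by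
      rw [← e0, Leech.mk_smul, mul_smul, inv_smul_smul, mul_smul, Leech.smul_mk g, hg.2])
    exact mH.2 ⟨c, ⟨(N3_or hc e ((om' g).2 hg.1)).elim (h2 ·) fun m => (F.mul_mem_cancel_right (h1 _ (bq_C0 _))).1 (h2 m), hc⟩, e⟩
  have a2 : g ∉ monoGrp := fun m => by
    have := (dc_of ((e.piQ (y := qe 0 0 dT) h.2.1).trans ((om' g).2 m))).1
    simpa using congr(($this).1 none)
  obtain ⟨f, hf, e1⟩ := mH.1 (co2_le a1 ⟨mH.2 ⟨s, ⟨h3, h.1⟩, e⟩, hg⟩ a2 hk)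
  obtain ⟨q, rfl⟩ := e1.mem e'
  exact mul_mem hf.1 (h1 q ((C0.mul_mem_cancel_left hf.2).1 hc))

theorem B0_le_of (h1 : C0 ≤ F) (h2 : tau ∈ F) : B0 ≤ F := fun g hg => by
  let N := nodesM
  obtain ⟨c, hc, e⟩ := exists_conj₁ short_t (short_eW 0 (N.pt .f1))
  rw [N.y_eW (by decide)] at e
  have e1 := (N.B_inj (φ := .id _) (N.cox3.mono (by decide)) N.spi N.f3 fun _ _ => rfl).2
  have e2 : ∀ {g}, c * g * c⁻¹ ∈ gp (Y 3 4 3) N.y ↔ g ∈ B0 := by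
    intro g
    rw [e1, Subgroup.mem_inf, ← e, mem_centralizer_singleton_iff, _root_.conj_mul, _root_.conj_mul, mul_left_inj, mul_right_inj,
      M1.mul_mem_cancel_right (inv_mem (CZ_le_M1 hc)), M1.mul_mem_cancel_left (CZ_le_M1 hc), ← mem_centralizer_singleton_iff]
    rfl
  refine (mem_cj (T := c⁻¹)).1 (gp_le.2 (fun n hn => ?_) (by rw [inv_inv]; exact e2.2 hg))
  rw [show N.y n = c⁻¹⁻¹ * (c⁻¹ * N.y n * c) * c⁻¹ by group, mem_cj]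
  have m : c⁻¹ * N.y n * c ∈ B0 := e2.1 (by simpa [mul_assoc] using mem_gp hn)
  rcases (show n ∈ black ∨ n = .d3 ∨ n ∈ white by clear m; revert n; decide) with h | rfl | h
  · exact h1 ⟨CZ.mul_mem (mul_mem (inv_mem hc) (N.blk n h ▸ bq_mem_CZ _)) hc, m.2⟩
  · exact h1 ⟨CZ.mul_mem (mul_mem (inv_mem hc) (N.d3 ▸ NV_le (xq_mem _ _))) hc, m.2⟩
  obtain ⟨-, t, e3⟩ := N.white_spec h hn
  obtain ⟨x, e4, -⟩ := exists_conj (inv_mem hc) (qe t (N.oc n + Om) (th (N.oc n + Om : Cd)))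
  have e5 : c⁻¹ * N.y n * c * zA * (c⁻¹ * N.y n * c)⁻¹ = qV x := by rw [conj_mul_conj, mem_CZ.1 hc, conj_mul_conj, e3, ← e4, xq]
  obtain ⟨k, hk, e6⟩ := exists_conj_w (isConj_iff.2 ⟨_, e5⟩) fun e => xq_ne (N.wt_oc n h) t (by
    rw [xq, zA, ← mem_CZ.1 hc, ← zA, ← e, ← e4]; group)
  obtain ⟨k, hk, e6⟩ := edge hk e6 (short_mul short_t (mem_B0.1 m).2 e5)
  have := h1 (conj_C0 (inv_mem (mul_mem (C0_le hk) tau_B0)) m (by rw [conj_mul_conj, e5, ← e6, wA, ← tau_conj_zQ]; group))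
  exact (F.mul_mem_cancel_left (inv_mem (mul_mem (h1 hk) h2))).1 this

theorem exists_L62 : ∃ L : Subgroup Co1, commutator L = ⊤ ∧
    ∀ k, k ∈ L ↔ k • piQ tq = piQ tq ∧ k • piQ (eW 0 pI) = piQ (eW 0 pI) := by
  have a := Rep.neg ⟨nm_lW 0 pI, mk_lW 0 pI⟩
  have b : dt(pv pI pJ 0 1, (-lW 0 pI : leechLattice)) = 16 := by rw [dt_pv]; simp [lW_self, lW_ne _ hIJ.symm]
  refine ⟨_, perfect_of_surj (pr1.subgroupMap_surjective _) (perfect_pair rep_t.1 a.1 b), fun k => ⟨?_, fun h => ?_⟩⟩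
  · rintro ⟨g, hg, rfl⟩
    rw [← rep_t.2, ← a.2]
    exact ⟨congrArg _ hg.1, congrArg _ hg.2⟩
  · rw [← rep_t.2, ← a.2] at h
    exact mem_pair rep_t.1 a.1 b h.1 h.2

theorem exists_L22 : ∃ L : Subgroup Co1, commutator L = ⊤ ∧ (∀ k ∈ L, k • piQ tq = piQ tq ∧ k • om = om) ∧
    ∀ σ : M24, (σ : Equiv.Perm Pt) pI = pI → (σ : Equiv.Perm Pt) pJ = pJ → (mo σ 0 : Co1) ∈ L := by
  refine ⟨_, perfect_of_surj (pr1.subgroupMap_surjective _) perfect_m22, ?_, fun σ h1 h2 => ⟨_, ?_, rfl⟩⟩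
  · rintro _ ⟨g, hg, rfl⟩
    rw [← piQ_t, om_eq, ← leechU_add]
    exact ⟨congrArg _ hg.1.2, congrArg _ ((smul_add g _ _).trans (by rw [hg.2, hg.1.2]))⟩
  have e : ∀ k p, (σ : Equiv.Perm Pt) p = p → ((σ : Equiv.Perm Pt).symm k = p ↔ k = p) := fun k p h => by rw [Equiv.symm_apply_eq, h]
  refine ⟨⟨?_, ?_⟩, ?_⟩ <;> refine Subtype.ext (funext fun k => ?_) <;>
    simp [mo_apply, leechU, leechU', leechV, vecU, vecU', vecV, e k _ h1, e k _ h2]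

theorem Sw.inv (h : Sw s) : Sw s⁻¹ := ⟨inv_mem h.1, by rw [← h.2.2]; group, by rw [← h.2.1]; group⟩
theorem mem_N3_of (h : c ∈ C0) (e : c * wA * c⁻¹ = wA) : c ∈ N3 :=
  ⟨⟨h.1, mem_centralizer_singleton_iff.2 (mul_inv_eq_iff_eq_mul.1 e)⟩, h.2⟩
theorem Sw.sq (h : Sw s) : s * s ∈ N3 := mem_N3_of (mul_mem h.1 h.1) (by rw [conj_mul_conj, h.2.1, h.2.2])
theorem sg0_B0 : sg0 ∈ B0 := mul_mem tau_B0 (C0_le (bq_C0 _))
theorem sg0_sq : sg0 * sg0 = 1 := by rw [sg0, mul_assoc, ← mul_assoc bI, bq_e1_tau, mul_inv_cancel]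
theorem sg0_z : sg0 * zA * sg0⁻¹ = wA := by rw [sg0, conj_mul_conj, mem_CZ.1 (bq_mem_CZ _), tau_conj_zQ]
theorem sg0_w : sg0 * wA * sg0⁻¹ = zA := by rw [sg0, conj_mul_conj, bI_w, tau_conj_zaOm]
theorem dT_even : dT ⬝ᵥ 1 = 0 := by simp
theorem sg0_T : sg0 * bq dT * sg0⁻¹ = bq dT := by rw [sg0, conj_mul_conj, bq_comm, mul_inv_cancel_right, tau_conj_bq dT_even]
theorem Sw.five (h : Sw s) : sg0 * s * sg0 * s * sg0 ∈ C0 ∧ sg0 * s * sg0 * s * sg0 * s ∈ N3 := by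
  have m := C0_le h.1
  have a : sg0 * s * sg0 * s * sg0 ∈ C0 := conj_C0 (mul_mem (mul_mem (mul_mem sg0_B0 m) sg0_B0) m) sg0_B0 (by
    simp only [conj_mul_conj, sg0_z, sg0_w, sg0_T, h.2.1, h.2.2])
  exact ⟨a, mem_N3_of (mul_mem a h.1) (by simp only [conj_mul_conj, sg0_z, sg0_w, sg0_T, h.2.1, h.2.2, mem_CZ.1 h.1.1])⟩

theorem tau_u0 (h : δ ⬝ᵥ 1 = 0) (s r : ZMod 2) : tau * qV (qe s (r • Om) δ) * tau⁻¹ = qV (qe r ((s + r) • Om) δ) := by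
  rw [show qe s (r • Om) δ = zp s * (qe 0 (r • Om) 0 * qe 0 0 δ) by simp [qe_mul, zp_mul_qe], map_mul, map_mul, ← _root_.conj_mul,
    ← _root_.conj_mul, tau_conj_zp, ← bq, tau_conj_bq h, ← tau_conj_zp r, ← conj_mul_conj, tau_mul_tau, inv_inv, tau_inv_conj_zp, bq,
    ← map_mul, ← map_mul]
  simp [qe_mul, add_smul]

theorem NV_fix (h : n ∈ NV) (s r : ZMod 2) : n * qV (qe s (r • Om) 0) * n⁻¹ = qV (qe s (r • Om) 0) := by
  have a : n * qV (zp s) * n⁻¹ = qV (zp s) := by rcases zp_cases s with e | e <;> rw [e]; exacts [by group, mem_CZ.1 h.1]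
  rcases z2_cases r with rfl | rfl
  · rwa [zero_smul]
  · rw [show qe s ((1 : ZMod 2) • Om) 0 = zp s * aOm by ext1 <;> simp]
    exact conj_mul a (mul_inv_eq_iff_eq_mul.2 (mem_NV.1 h).2)

theorem six {a b c d e f : Pt} (h : e1 a + e1 b + (e1 c + e1 d) + (e1 e + e1 f) ∈ golayCode) :
    e1 a + e1 b + (e1 c + e1 d) = e1 e + e1 f := w_eq_iff.2 (eq_zero_of_wt_lt h (by
  have := wt_add (e1 a + e1 b + (e1 c + e1 d)) (e1 e + e1 f)
  have := wt_add (e1 a + e1 b) (e1 c + e1 d)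
  have := wt_add (e1 a) (e1 b)
  have := wt_add (e1 c) (e1 d)
  have := wt_add (e1 e) (e1 f)
  simp only [wt_e1] at *; omega))

theorem exists_eps : ∃ d : Cd, pr d (cs d0) = 0 ∧ (d : W) ⬝ᵥ dT = 0 ∧ ∀ a ∈ [pI, pJ], ∀ b ∈ [pK, pL], pr d (du a b) = 1 :=
  (by decide +kernel : ∃ k l, (bk k + bk l : W) ⬝ᵥ d0 = 0 ∧ (bk k + bk l : W) ⬝ᵥ dT = 0 ∧ ∀ a ∈ [pI, pJ], ∀ b ∈ [pK, pL],
    (bk k + bk l : W) ⬝ᵥ (e1 a + e1 b) = 1).elim fun k h => h.elim fun l h => ⟨bk k + bk l, h⟩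

theorem Sw.eps (h : Sw s) (h0 : pr d (cs d0) = 0) (h1 : (d : W) ⬝ᵥ dT = 0) (h2 : ∀ a ∈ [pI, pJ], ∀ b ∈ [pK, pL], pr d (du a b) = 1) :
    s * yq 0 d * s⁻¹ ∈ N3 ∧ ∃ σ, Dp (s * yq 0 d * s⁻¹) σ ∧ cs (sW σ (e1 pI + e1 pK)) = du pJ pL := by
  have m := yq_N3 h0 0
  have m' : s * yq 0 d * s⁻¹ ∈ N3 := mem_N3_of (mul_mem (mul_mem h.1 (N3_le m)) (inv_mem h.1)) (by
    rw [conj_mul_conj, h.inv.2.1, conj_mul_conj, yq_bq dT_even, h1, zero_smul, ← bq, h.2.2])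
  obtain ⟨σ, e, -⟩ := exists_dp m'
  obtain ⟨w, e1, -, e2⟩ := dp_bq m'.1 e (pair_dot_one pI pK)
  obtain ⟨y, e3, -, e4⟩ := exists_conj (inv_mem h.1.1) (eP 0 pI pK)
  have e5 : s * qV y * s⁻¹ = qV (eP 0 pI pK) := by rw [← e3]; group
  obtain ⟨y0, e6⟩ := ((inQ_bq_pair wt_dT (i := pI) (j := pK) (by decide) (by decide) (by decide)).conj s⁻¹).exists (k := tau)
    (tau_conj_zQ.trans h.inv.2.2.symm)
  rw [← qV_eP0, e3] at e6
  have u := u0_iff.2 ⟨_, e6⟩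
  have w0 := wt_P (m := pK) (by decide) (by decide)
  obtain ⟨m1, a1, a2, a3⟩ := Wt.P ⟨e4.2 w0.1, short_of_conj (conj_mul e5 (mem_C0.1 h.1).2) w0.2⟩ u
  obtain ⟨r, t, a, b, -, e7⟩ := pt_of_u0 (short_of_conj (conj_mul e5 h.2.2) ((short_congr' (piQ_congr (by simp [eP])
    (by simp [eP]))).1 (short_eP 1 (i := pI) (j := pK) nofun))) (by simpa [u0_piQ, dotProduct_comm 1, dT_even] using u)
  have a4 : pr d y.c = 1 := by
    replace e7 := congr(($e7).c)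
    have key : ∀ i j, i ∈ [pI, pJ] → j ∈ [pI, pJ] → Griess.e1 i + Griess.e1 j = d0 → y.c = du i m1 → pr d y.c = 1 := fun i j hi hj k l => by
      rw [l]
      refine h2 i hi m1 (by_contra fun f => ?_)
      simp only [eP, mul_c, qe_c, zp_c, zero_add, l, ← cs_add, dT, ← k, cs_eq_iff] at e7
      rw [← add_assoc (Griess.e1 i + _), add_add_add_comm (Griess.e1 i), w_add_self, zero_add] at e7
      have := card_le_wt (u := Griess.e1 a + Griess.e1 b) (s := {j, pK, pL}) (by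
        rw [← six e7]
        simp only [List.mem_cons, List.not_mem_nil, or_false, not_or] at hj f
        rcases hj with rfl | rfl <;> simp [e1_apply, Ne.symm a1, Ne.symm a2, Ne.symm f.1, Ne.symm f.2] <;> decide)
      have := wt_add (Griess.e1 a) (Griess.e1 b)
      rw [show ({j, pK, pL} : Finset Pt).card = 3 by clear * - hj; revert j; decide] at *
      simp only [wt_e1] at *; omega
    exact a3.elim (key _ pJ (by simp) (by simp) rfl) (key _ pI (by simp) (by simp) (add_comm _ _))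
  obtain ⟨r, t, δ, a5, rfl⟩ := u0_qe.1 u
  refine ⟨m', σ, e, ?_⟩
  have e8 : yq 0 d * qV (qe r (t • Om) δ) * (yq 0 d)⁻¹ = qV (aOm * qe r (t • Om) δ) := by
    rw [qe_Om, map_mul, ← _root_.conj_mul, ← bq, yq_bq a5, show _ ⬝ᵥ δ = 1 from a4, NV_fix m.1, ← map_mul]
    exact congrArg qV (by ext1 <;> simp [add_comm])
  rw [← qV_eP0, conj_mul_conj, e3, conj_mul_conj, e8, conj_mul h.2.1 e5] at e1
  rw [← e2, ← qV_injective e1]
  exact congrArg cs (by decide +kernel : dT + (Griess.e1 pI + Griess.e1 pK) = Griess.e1 pJ + Griess.e1 pL)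

/-- the sign changes which lie in the extraspecial group of the tetrad -/
def D1 : Subgroup Q where
  carrier := {q | qV q ∈ N3 ∧ InQ (bq dT) (qV q)}
  one_mem' := ⟨map_one qV ▸ one_mem _, by simpa [zA_mul_self] using (inQ_bq_z wt_dT).mul (inQ_bq_z wt_dT)⟩
  mul_mem' := fun a b => ⟨map_mul qV _ _ ▸ mul_mem a.1 b.1, map_mul qV _ _ ▸ a.2.mul b.2⟩
  inv_mem' := fun a => ⟨map_inv qV _ ▸ inv_mem a.1, let ⟨g, q, b, c⟩ := a.2; ⟨g, q⁻¹, b, by rw [map_inv, map_inv, ← c]; group⟩⟩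

theorem D1_pr (h : q ∈ D1) (hm : m ∈ [pI, pK, pL]) : pr q.d (du pI m) = 0 := by
  by_cases k : m = pI
  · simp [k]
  have := h.2.comm (inQ_bq_pair wt_dT (Ne.symm k) (by decide) (by revert m; decide))
  rw [bq, comm_iff, bq, ← map_mul, ← map_mul, ← map_mul, qV_injective.eq_iff, mul_swap, mul_left_inj] at this
  refine this.elim (by simp [cmQ]) fun e => ?_
  simpa [wt_dT] using congrArg wt (eq_zero_of_wt_lt (cs_eq_zero.1 congr(($e).c).symm) (by rw [wt_dT]; norm_num))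

theorem D1_ex (hm : m ∉ [pI, pJ, pK, pL]) : ∃ q ∈ D1, pr q.d (du pI m) = 1 := by
  obtain ⟨P, p1, p2⟩ := exists_oct {pI, pJ, pK, pL, m}
  obtain ⟨p, hp⟩ := exists_notMem (support₂ (P : W)) (by rw [← wt, p1]; norm_num)
  obtain ⟨O, o1, o2⟩ := exists_oct {pI, pJ, pK, pL, p}
  have h1 : (O : W) m = 0 := (z2_cases _).resolve_right fun e => by
    have h2 : ({pI, pJ, pK, pL, m} : Finset Pt).card ≤ wt ((O : W) * P) := card_le_wt (by simp_all)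
    rw [show ({pI, pJ, pK, pL, m} : Finset Pt) = [m, pI, pJ, pK, pL].toFinset by ext; simp; tauto,
      List.toFinset_card_of_nodup (List.nodup_cons.2 ⟨hm, by decide⟩)] at h2
    have := wt_mul_four o1 p1 (m := p) (by simp_all [support₂]) (le_trans (by simp) h2)
    simp at *; omega
  have g0 : Good O 0 := ⟨o1, zero_mem_sub _, by simp⟩
  have g1 : Good O dT := by simpa using (good_pair o1 (o2 pI (by simp)) (o2 pJ (by simp)) 1).add (good_pair o1 (o2 pK (by simp)) (o2 pL (by simp)) 1)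
  obtain ⟨c, hc, e⟩ := exists_conj_wA wt_dT
  obtain ⟨y, a, b⟩ := exists_ax_of_short hc e (short_eT g0) ((short_congr' (piQ_congr (by simp [eT, hw, wt_dT]; decide)
    (by simp [eT]))).1 (short_eT g1))
  exact ⟨eT O 0, ⟨qV_N3.2 ⟨by simp_all [eT], par_eT g0⟩, c * tau, y, by rw [conj_mul_conj, tau_conj_zQ, e],
    conj_of_smul_ax a (short_eT g0) b⟩, by simp_all [eT]⟩

theorem Sw.D1 (h : Sw s) (hq : q ∈ D1) : ∃ q' ∈ D1, s * (tau * qV q * tau⁻¹) * s⁻¹ = tau * qV q' * tau⁻¹ := by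
  have e0 := tau_conj_bq dT_even
  obtain ⟨y, e⟩ := ((hq.2.conj tau).conj s).exists (k := tau) (by rw [e0, h.2.2, tau_conj_zQ])
  have m := mul_mem (mul_mem h.1 (N3_le (tau_N3 hq.1))) (inv_mem h.1)
  have a := (((inQ_z q).conj tau).conj s).conj tau⁻¹
  rw [← e] at m a
  rw [tau_conj_zQ, h.2.1, ← e0] at a
  have b := mul_mem (mul_mem (inv_mem tau_B0) (C0_le m)) tau_B0
  refine ⟨y, ⟨qV_N3.2 ⟨qV_C0.1 ⟨qV_mem _, by simpa [mul_assoc] using b.2⟩, ?_⟩, by simpa [mul_assoc] using a⟩, e.symm⟩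
  have := mem_CZc.1 m.1
  rw [zA, ← tau_conj_zaOm, _root_.conj_mul, _root_.conj_mul, mul_left_inj, mul_right_inj, comm_iff] at this
  simpa [cmQ] using this

end Cfsg.Lib.Bab
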