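import Cfsg.Agent.Lib.Bab.Rep

/-! # Small representations of the Baby Monster: the invariant line of `N3` and the degree -/

set_option autoImplicit false

namespace Cfsg.Lib.Bab

open Module Finset LinearMap Griess Subgroup Cfsg.Lib.Mon Cfsg.Lib.Deg Cfsg.Lib.M3 Matrix
open Leech hiding vW

attribute [local irreducible] qV Griess.tau

variable {K N : Type*} [Field K] [AddCommGroup N] [Module K N]

/-- the fixed space of the sign changes in the extraspecial group of the tetrad -/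
noncomputable def PD (ρ : Aut → End K N) : End K N := pq (tw ρ tau) D1 fun _ => 0
/-- a line in the fixed space of `Q0` -/
noncomputable def P2 (ρ : Aut → End K N) (e : Aut) : End K N := hf (ρ e) 0 * (PD ρ * PQ ρ 1)
/-- sign changes which negate two coordinates of the tetrad -/
def Eps (d : Cd) : Prop := pr d (cs d0) = 0 ∧ (d : W) ⬝ᵥ dT = 0 ∧ ∀ a ∈ [pI, pJ], ∀ b ∈ [pK, pL], pr d (du a b) = 1

variable {q : Q} {c : Cs} {d : Cd} {a g n s e : Aut} {T L : End K N} {σ : M24} {m m' : Pt}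

theorem ch_D1 : Ch D1 fun _ => 0 := ch_zero fun _ h => h.1
theorem swap_or (h : sW σ d0 = d0) : (σ : Equiv.Perm Pt) pI = pI ∧ (σ : Equiv.Perm Pt) pJ = pJ ∨
    (σ : Equiv.Perm Pt) pI = pJ ∧ (σ : Equiv.Perm Pt) pJ = pI := by
  rw [sW_add, sW_e1, sW_e1] at h
  exact eq_of_du hIJ ((σ : Equiv.Perm Pt).injective.ne hIJ) (congrArg cs h)
theorem dp_d0 (hn : n ∈ N3) (e : Dp n σ) : sW σ d0 = d0 := let ⟨_, a, b⟩ := exists_dp hn; a.unique e ▸ b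

namespace RepB

variable {ρ : Aut → End K N} (h : RepB ρ)
include h

theorem P0_q (hq : q ∈ Q0) : PQ ρ 1 * ρ (qV q) = PQ ρ 1 := by simpa [cmQ] using h.PQ_q hq 1
theorem q_P0 (hq : q ∈ Q0) : ρ (qV q) * PQ ρ 1 = PQ ρ 1 := by simpa [cmQ] using h.q_PQ hq 1
theorem PY0_comm (ha : Tp a) (hn : n ∈ N3) : ρ n * PQ (Bab.tw ρ a) 1 = PQ (Bab.tw ρ a) 1 * ρ n :=
  tw_apply ρ a n ▸ (h.tw ha.1).P0_comm (N3_le (ha.2.2 n hn))
theorem n_Pinf (hn : n ∈ N3) : ρ n * Pinf ρ = Pinf ρ * ρ n := by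
  rw [Pinf, ← mul_assoc, h.P0_comm (N3_le hn), mul_assoc, h.PY0_comm tp_tau hn, mul_assoc]
theorem q_Pinf (hq : q ∈ Q0) : ρ (qV q) * Pinf ρ = Pinf ρ := by rw [Pinf, ← mul_assoc, h.q_P0 hq]
theorem P0_Pinf : PQ ρ 1 * Pinf ρ = Pinf ρ := by rw [Pinf, ← mul_assoc, h.PQ_idem]
theorem P0_PD : PQ ρ 1 * PD ρ = PD ρ * PQ ρ 1 := comm_pq fun _ hq => (h.P0_comm (N3_le (tau_N3 hq.1))).symm
theorem s_PD (hs : Sw s) : ρ s * PD ρ = PD ρ * ρ s := by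
  have k : ∀ {s}, Sw s → ∀ a ∈ D1, ∃ b ∈ D1, tau⁻¹ * s * tau * qV a * (tau⁻¹ * s * tau)⁻¹ = qV b := fun hs a ha =>
    let ⟨b, hb, e⟩ := hs.D1 ha; ⟨b, hb, by rw [conj_mul_conj, conj_mul_conj, e]; group⟩
  exact tw_apply ρ tau s ▸ (h.tw tau_B0).pq_conj (mul_mem (mul_mem tau_inv_B0 (C0_le hs.1)) tau_B0) ch_D1 ch_D1 (k hs)
    (by simpa only [_root_.mul_inv_rev, inv_inv, mul_assoc] using k hs.inv) fun _ _ _ _ => rfl
theorem s_P2 (hs : Sw s) (he : e ∈ B0) : ρ s * P2 ρ e = P2 ρ (s * e * s⁻¹) * ρ s := by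
  rw [P2, ← mul_assoc, semi_hf (h.tw_rel (C0_le hs.1) he), mul_assoc, ← mul_assoc (ρ s), h.s_PD hs, mul_assoc, h.P0_comm hs.1, P2,
    mul_assoc, mul_assoc]; rfl
theorem tau_P0 : ρ tau * PQ ρ 1 = PQ (Bab.tw ρ tau) 1 * ρ tau := h.tw_pq tau_B0 (ch_Q0 1)
theorem tau_PY0 : ρ tau * PQ (Bab.tw ρ tau) 1 = PQ (Bab.tw ρ tau⁻¹) 1 * ρ tau := tau_mul_tau ▸ h.tw_pq' tau_B0 tau_B0 (ch_Q0 1)

variable [FiniteDimensional K N]

theorem P0_PY (ha : Tp a) (hc : pr Om c = 0) : PQ ρ 1 * PX (Bab.tw ρ a) c = PX (Bab.tw ρ a) c * PQ ρ 1 :=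
  h.PX_zero ▸ (h.PX_PY ha 0 hc).symm
theorem P0_PY0 (ha : Tp a) : PQ ρ 1 * PQ (Bab.tw ρ a) 1 = PQ (Bab.tw ρ a) 1 * PQ ρ 1 :=
  (h.tw ha.1).PX_zero ▸ h.P0_PY ha (map_zero _)
theorem AM_I : AM ρ pI = Pinf ρ := by rw [AM, du, w_add_self, Pinf, ← (h.tw tau_B0).PX_zero]; rfl
theorem AM_P0 (m : Pt) : AM ρ m * PQ ρ 1 = AM ρ m := by rw [AM, h.P0_PY tp_tau (du_even ..), mul_assoc, h.PQ_idem]
omit [FiniteDimensional K N] in
theorem P0_AM (m : Pt) : PQ ρ 1 * AM ρ m = AM ρ m := by rw [AM, ← mul_assoc, h.PQ_idem]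
theorem AM_mul (m m' : Pt) : AM ρ m * AM ρ m' = PQ ρ 1 * (PX (Bab.tw ρ tau) (du pI m) * PX (Bab.tw ρ tau) (du pI m')) := by
  rw [AM.eq_1 ρ m', ← mul_assoc, h.AM_P0, AM, mul_assoc]
theorem AM_idem (m : Pt) : AM ρ m * AM ρ m = AM ρ m := by rw [h.AM_mul, (h.tw tau_B0).PX_idem, AM]
theorem AM_orth (k : m ≠ pJ) (k' : m' ≠ pJ) (e : m ≠ m') : AM ρ m * AM ρ m' = 0 := by
  rw [h.AM_mul, (h.tw tau_B0).PX_orth (not_zc k k' e), mul_zero]
theorem Pinf_idem : Pinf ρ * Pinf ρ = Pinf ρ := h.AM_I ▸ h.AM_idem pI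
theorem Pinf_P0 : Pinf ρ * PQ ρ 1 = Pinf ρ := h.AM_I ▸ h.AM_P0 pI
theorem Pinf_q (hq : q ∈ Q0) : Pinf ρ * ρ (qV q) = Pinf ρ := by rw [← h.Pinf_P0, mul_assoc, h.P0_q hq]
theorem y_AM (hq : q ∈ X0) (m : Pt) : ρ (tau * qV q * tau⁻¹) * AM ρ m = sk K (pr q.d (du pI m)) • AM ρ m := by
  have a := (h.tw tau_B0).q_PX hq (du pI m)
  rw [Bab.tw] at a
  rw [AM, h.P0_PY tp_tau (du_even ..), ← mul_assoc, a, smul_mul_assoc]
theorem AM_ne (k : m ≠ pI) (k' : m ≠ pJ) : AM ρ m ≠ 0 := fun e => by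
  have a : PX ρ (du pI m) * FF ρ = 0 := h.PY_complete fun c hc => by_contra fun l => by
    rcases h.three (du_even ..) hc l with j | j | j
    · exact not_zc k' hIJ k (by simpa using j)
    · refine l (h.zero_of_mul' sg0_B0 ?_)
      rw [← mul_assoc, h.sg_PX, mul_assoc, h.sg_PY, PX_congr ρ (c' := 0) (by rwa [add_zero]), h.PX_zero, ← mul_assoc,
        ← h.P0_PY tp_tau (du_even ..), ← AM, e, zero_mul]
    · refine l (h.zero_of_mul' tau_B0 ?_)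
      rw [← h.PZ_mul _ hc, ← mul_assoc, h.tau_PZ, mul_assoc, ← mul_assoc (ρ tau), h.tau_PX, PX_congr ρ (c' := 0) (by rwa [add_zero]),
        h.PX_zero, ← mul_assoc, ← mul_assoc, ← AM, e, zero_mul, zero_mul]
  have b := h.PX_PQ (x := eP 0 pI m) (u0_piQ.2 ⟨.inl (zero_smul ..), du_even ..⟩)
  have c := h.small.1 _ (wt_P k k')
  rw [h.PX_FF (du_even ..)] at a
  rw [← b, show (eP 0 pI m).c = du pI m from rfl, a, zero_mul, rk, LinearMap.range_eq_bot.2 rfl, finrank_bot] at c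
  exact zero_ne_one c
theorem P0_complete (e : ∀ m ≠ pJ, L * AM ρ m = 0) : L * PQ ρ 1 = 0 := by
  rw [← h.PX_zero, ← h.PX_FF (map_zero _), ← mul_assoc]
  refine h.PY_complete fun c hc => by_contra fun l => ?_
  obtain ⟨m, a, b⟩ := (h.tw tau_B0).PX_ne hc (right_ne_zero_of_mul l)
  exact l (by rw [PX_congr _ b, h.PX_zero, mul_assoc, ← AM, e m a])
theorem rk_P0 : rk (Pinf ρ) + 22 ≤ rk (PQ ρ 1) := by
  have a := sum_rk_le (univ.erase pJ) (fun m _ => h.AM_idem m)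
    (fun m k m' k' => h.AM_orth (ne_of_mem_erase k) (ne_of_mem_erase k')) fun m _ => h.P0_AM m
  have b := card_nsmul_le_sum ((univ.erase pJ).erase pI) (fun m => rk (AM ρ m)) 1 fun m k =>
    rk_pos (h.AM_ne (ne_of_mem_erase k) (ne_of_mem_erase (mem_of_mem_erase k)))
  rw [← add_sum_erase _ _ (mem_erase.2 ⟨hIJ, mem_univ _⟩), h.AM_I] at a
  rw [show ((univ.erase pJ).erase pI).card = 22 by decide +kernel, smul_eq_mul] at b
  omega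
theorem rk_Pinf : rk (Pinf ρ) ≤ 1 := by have := h.rk_P0; have := h.small.2.2; have := h.dim; omega
theorem PZ_Pinf : PQ (Bab.tw ρ tau⁻¹) 1 * Pinf ρ = Pinf ρ := by
  simpa only [add_zero, h.PX_zero, (h.tw tau_B0).PX_zero, (h.tw tau_inv_B0).PX_zero, Pinf] using h.PZ_mul 0 (map_zero _)
theorem tau_PZ0 : ρ tau * PQ (Bab.tw ρ tau⁻¹) 1 = PQ ρ 1 * ρ tau := by
  simpa only [h.PX_zero, (h.tw tau_inv_B0).PX_zero] using h.tau_PZ 0
theorem sg_P0 : ρ sg0 * PQ ρ 1 = PQ (Bab.tw ρ tau) 1 * ρ sg0 := by simpa only [h.PX_zero, (h.tw tau_B0).PX_zero] using h.sg_PX 0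
theorem Pinf_tau' : ρ tau * Pinf ρ = Pinf ρ * ρ tau := by
  have a := (h.tw tau_B0).P0_PY0 tp_tau
  rw [← tw_mul, tau_mul_tau] at a
  rw [← h.PZ_Pinf, ← mul_assoc, h.tau_PZ0, Pinf, mul_assoc, ← mul_assoc (ρ tau), h.tau_P0, mul_assoc, h.tau_PY0, ← mul_assoc _ _ (ρ tau), a,
    ← mul_assoc, ← mul_assoc, h.P0_PY0 tp_inv, mul_assoc (PQ _ 1)]
theorem tau_Pinf : ρ tau * Pinf ρ = Pinf ρ := by
  obtain ⟨c, a⟩ := exists_smul_of_rk h.rk_Pinf h.Pinf_idem h.Pinf_tau'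
  have b : ρ bI * Pinf ρ = Pinf ρ := h.q_Pinf (bq_C0 _)
  have d := h.rel (mul_mem bI_B0 tau_B0) bI_B0 tau_B0 tau_B0 ((bq_e1_tau _).trans tau_mul_tau.symm)
  refine sub_eq_zero.1 (h.zero_of_mul' tau_B0 ?_)
  rw [mul_sub, ← mul_assoc, ← d, h.mul bI_B0 tau_B0, mul_assoc, b, mul_assoc, a, mul_smul_comm, b, sub_self]
theorem Pinf_tau : Pinf ρ * ρ tau = Pinf ρ := h.Pinf_tau'.symm.trans h.tau_Pinf

theorem fix_Pinf (hn : n ∈ N3) (e : Dp n σ) (k : (σ : Equiv.Perm Pt) pI = pI) : ρ n * Pinf ρ = Pinf ρ := by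
  obtain ⟨d, σ', q, a1, a2, a3, rfl⟩ := N3_dec hn
  obtain rfl : σ' = σ := Dp.unique (by simpa using ((ind_yq 0 d).dp.mul (dp_xp σ')).mul (ind_qV q).dp) e
  obtain ⟨L, l1, l2, l3⟩ := exists_L22
  have b : ρ (xp σ') * Pinf ρ = Pinf ρ := fix_C0 l1 (fun k hk => (l2 k hk).1) (R := fun g => mulLeft K (ρ g))
    (fun g hg k hk => by rw [h.mul (C0_le hg) (C0_le hk), mulLeft_mul]; rfl) (fun c hc k hk o => by
      rcases N3_or hc o (l2 k hk).2 with m | m <;> obtain ⟨r, hr⟩ := exists_smul_of_rk h.rk_Pinf h.Pinf_idem (h.n_Pinf m)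
      exacts [⟨r, hr⟩, ⟨r, by rwa [h.mul (C0_le hc) bI_B0, mul_assoc, show ρ bI * _ = _ from h.q_Pinf (bq_C0 _)] at hr⟩])
    (fun q hq => h.q_Pinf hq) (N3_le (xp_N3 a2)) (l3 σ' k (((swap_or a2).resolve_right fun l => hIJ (k.symm.trans l.1)).2)) (ind_xp σ')
  have c := h.y_AM (xq_X0 a1 0) pI
  rw [h.AM_I, du, w_add_self, show cs 0 = 0 from rfl, map_zero, sk_zero, one_smul, ← xq, ← yq] at c
  rw [h.mul (C0_le (N3_le (mul_mem (yq_N3 a1 0) (xp_N3 a2)))) (X0_B0 a3), h.mul (C0_le (N3_le (yq_N3 a1 0))) (C0_le (N3_le (xp_N3 a2))),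
    mul_assoc, h.q_Pinf (N3_le a3), mul_assoc, b, c]

theorem PD_AM (k : m ∈ [pI, pK, pL]) : PD ρ * AM ρ m = AM ρ m := (h.tw tau_B0).pq_mul_of fun q hq => by
  rw [Bab.tw, h.y_AM hq.1, D1_pr hq k]
theorem PD_AM' (k : m ∉ [pI, pJ, pK, pL]) : PD ρ * AM ρ m = 0 :=
  let ⟨_, a, b⟩ := D1_ex k; (h.tw tau_B0).pq_mul_ne ch_D1 a (h.y_AM a.1 m) (b ▸ zero_ne_one)
theorem P2_AM (k : m ∈ [pI, pK, pL]) (e : Aut) : P2 ρ e * AM ρ m = hf (ρ e) 0 * AM ρ m := by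
  rw [P2, mul_assoc, mul_assoc, h.P0_AM, h.PD_AM k]
theorem P2_eps (hd : Eps d) : P2 ρ (yq 0 d) = Pinf ρ := by
  have a := h.y_AM (xq_X0 hd.1 0)
  rw [← xq, ← yq, qe_d] at a
  have : (P2 ρ (yq 0 d) - Pinf ρ) * PQ ρ 1 = 0 := h.P0_complete fun m k => by
    rw [sub_mul, ← h.AM_I]
    by_cases l : m = pI
    · rw [l, h.P2_AM (by simp), hf_mul_of h.two (by simpa using a pI), h.AM_idem, sub_self]
    rw [h.AM_orth hIJ k (Ne.symm l), sub_zero]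
    by_cases j : m ∈ [pK, pL]
    · rw [h.P2_AM (List.mem_cons_of_mem _ j)]
      have := hf_mul_ne (a m)
      rwa [hd.2.2 pI (by simp) m j, z2_add_self] at this
    · rw [P2, mul_assoc, mul_assoc, h.P0_AM, h.PD_AM' (by simp_all), mul_zero]
  rwa [sub_mul, h.Pinf_P0, P2, mul_assoc, mul_assoc, h.PQ_idem, sub_eq_zero] at this
theorem s_Pinf (hs : Sw s) (hd : Eps d) : ρ s * Pinf ρ = P2 ρ (s * yq 0 d * s⁻¹) * ρ s :=
  h.P2_eps hd ▸ h.s_P2 hs (C0_le (N3_le (yq_N3 hd.1 0)))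
theorem P2_spec (hs : Sw s) (hd : Eps d) : Pinf ρ ≠ 0 ∧ Pinf ρ * P2 ρ (s * yq 0 d * s⁻¹) = 0 ∧ ρ (s * yq 0 d * s⁻¹) * Pinf ρ = -Pinf ρ := by
  obtain ⟨m, σ, e, k⟩ := hs.eps hd.1 hd.2.1 hd.2.2
  have a := h.s_Pinf hs hd
  generalize s * yq 0 d * s⁻¹ = n at *
  have s0 := C0_le hs.1
  have b1 : ρ n * AM ρ pK = AM ρ pL * ρ n := by
    rw [AM, ← mul_assoc, h.P0_comm (N3_le m), mul_assoc, h.PY_semi tp_tau m e (pair_dot_one ..), k, AM, mul_assoc,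
      PX_congr _ (c' := du pI pL) (.inr (congrArg cs (by decide +kernel : e1 pJ + e1 pL + (e1 pI + e1 pL) = d0)))]
  have b2 : AM ρ pK * P2 ρ n ≠ 0 := fun l => h.AM_ne (m := pK) (by decide) (by decide) (by
    have := congr($l * AM ρ pK)
    rw [mul_assoc, h.P2_AM (by simp), hf, smul_mul_assoc, add_mul, smul_mul_assoc, b1, mul_smul_comm, mul_add, mul_smul_comm,
      ← mul_assoc _ _ (ρ n), h.AM_orth (m := pK) (m' := pL) (by decide) (by decide) (by decide), one_mul, h.AM_idem] at this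
    simpa [h.two] using this)
  have b3 : Pinf ρ ≠ 0 := fun l => b2 (by rw [h.zero_of_mul s0 (a.symm.trans (by rw [l, mul_zero])), mul_zero])
  have b4 : P2 ρ n * Pinf ρ = hf (ρ n) 0 * Pinf ρ := h.AM_I ▸ h.P2_AM (by simp) n
  have b5 : Pinf ρ * P2 ρ n = hf (ρ n) 0 * Pinf ρ := by
    rw [P2, ← mul_assoc, semi_hf (h.n_Pinf m).symm, mul_assoc, ← mul_assoc (Pinf ρ), show Pinf ρ * PD ρ = Pinf ρ from
      (mul_assoc ..).trans (congrArg _ ((h.tw tau_B0).mul_pq_of fun q hq => by rw [(h.tw tau_B0).P0_q (N3_le hq.1), sk_zero, one_smul])),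
      h.Pinf_P0]
  have b6 : P2 ρ n * P2 ρ n = P2 ρ n := h.cancel s0 (by rw [mul_assoc, ← a, ← mul_assoc, ← a, mul_assoc, h.Pinf_idem])
  obtain ⟨c, hc⟩ := exists_smul_of_rk h.rk_Pinf h.Pinf_idem (semi_hf (h.n_Pinf m).symm 0).symm
  have b7 : c = 0 := by_contra fun l => by
    have b8 : P2 ρ n * Pinf ρ = Pinf ρ := smul_right_injective _ l (by
      simp only [← mul_smul_comm, ← hc, ← b4, ← mul_assoc, b6])
    have r := (h.rk_conj s0 a).le.trans h.rk_Pinf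
    obtain ⟨u, hu⟩ := exists_smul_hom r r b3 b8 (b5.trans (b4.symm.trans b8)) b6 b6
    exact b2 (by rw [hu, mul_smul_comm, ← h.AM_I, h.AM_orth (by decide) hIJ (by decide), smul_zero])
  rw [b7, zero_smul] at hc
  refine ⟨b3, b5.trans hc, ?_⟩
  rw [hf, smul_mul_assoc, smul_eq_zero, add_mul, sk_zero, one_smul, one_mul] at hc
  exact eq_neg_of_add_eq_zero_right (hc.resolve_left (inv_ne_zero h.two))
theorem Pinf_ne : Pinf ρ ≠ 0 := let ⟨_, a⟩ := exists_s; let ⟨_, b⟩ := exists_eps; (h.P2_spec a b).1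
theorem finrank_eq : finrank K N = 4371 := by
  have := h.rk_P0; have := h.small.2.2; have := h.dim; have := rk_pos h.Pinf_ne; omega
theorem neg_Pinf (hn : n ∈ N3) (e : Dp n σ) (k : (σ : Equiv.Perm Pt) pI ≠ pI) : ρ n * Pinf ρ = -Pinf ρ := by
  obtain ⟨s, hs⟩ := exists_s
  obtain ⟨d, hd⟩ := exists_eps
  obtain ⟨m, σ', e', k'⟩ := Sw.eps hs hd.1 hd.2.1 hd.2.2
  rw [sW_add, sW_e1, sW_e1] at k'
  have a : (σ' : Equiv.Perm Pt) pI = pJ := ((swap_or (dp_d0 m e')).resolve_left fun l => by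
    rcases eq_of_du (by decide) ((σ' : Equiv.Perm Pt).injective.ne (by decide)) k' with j | j <;> exact absurd (l.1.symm.trans j.1) (by decide)).1
  have b := h.fix_Pinf (mul_mem hn m) (e.mul e') ((congrArg _ a).trans ((swap_or (dp_d0 hn e)).resolve_left (k ·.1)).2)
  rw [h.mul (C0_le (N3_le hn)) (C0_le (N3_le m)), mul_assoc, (h.P2_spec hs hd).2.2, mul_neg] at b
  exact neg_eq_iff_eq_neg.1 b

end RepB

theorem exists_sign (hn : n ∈ N3) : ∃ a, ∀ {ρ : Aut → End K N} [FiniteDimensional K N], RepB ρ → ρ n * Pinf ρ = sk K a • Pinf ρ := by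
  obtain ⟨σ, e, -⟩ := exists_dp hn
  by_cases k : (σ : Equiv.Perm Pt) pI = pI
  exacts [⟨0, fun h => by simpa using h.fix_Pinf hn e k⟩, ⟨1, fun h => by simpa using h.neg_Pinf hn e k⟩]

end Cfsg.Lib.Bab
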