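import Cfsg.Agent.Lib.Bab.Uniq

/-! # Small representations of the Baby Monster are irreducible and equivalent -/

set_option autoImplicit false

namespace Cfsg.Lib.Bab

open Module Finset LinearMap Griess Subgroup Cfsg.Lib.Mon Cfsg.Lib.Deg Cfsg.Lib.M3 Matrix MulAction
open Leech hiding vW

attribute [local irreducible] qV Griess.tau

variable {K N : Type*} [Field K] [AddCommGroup N] [Module K N] [FiniteDimensional K N]

omit [FiniteDimensional K N] in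
theorem ne_of_rk {e : End K N} (h : rk e = 1) : e ≠ 0 := fun k => by
  rw [k, rk, LinearMap.range_eq_bot.2 rfl, finrank_bot] at h; exact zero_ne_one h

namespace RepB

variable {φ : End K N} {ρ ρ' : Aut → End K N} (h : RepB ρ) (h' : RepB ρ')
include h h'

omit [FiniteDimensional K N] in
theorem St_of {g : Aut} {e e' : End K N} {c : K} (hg : g ∈ B0) (f1 : e' * φ = φ) (f2 : φ * e = φ) (a : ρ' g * e' = c • e')
    (b : e * ρ g = c • e) : g ∈ h.St h' φ :=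
  ⟨hg, by rw [← f1, ← mul_assoc, a, smul_mul_assoc, f1, ← f2, mul_assoc, b, mul_smul_comm]⟩

theorem exists_minus : ∃ φ : End K N, φ ≠ 0 ∧ φ * hf (ρ zA) 1 = φ ∧ C0 ≤ h.St h' φ := by
  obtain ⟨f, f0, f1, f2⟩ := exists_hom (e := ED ρ 0) (e' := ED ρ' 0) (ne_of_rk h.small.2.1) (ne_of_rk h'.small.2.1) (h.ED_idem 0) (h'.ED_idem 0)
  obtain ⟨w, w1, w2⟩ := exists_orbit_sum (S := Q0) (R := fun q => cj ρ ρ' (qV q))
    (fun g hg k hk => by rw [map_mul, h.cj_mul h' (Q0_B0 hg) (Q0_B0 hk)]) (by rw [map_one, h.cj_one h']) f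
  have w3 : w * ED ρ 0 = f := (w2 (mulRight K (ED ρ 0)) fun q hq => (eq_or_ne q.d 0).imp (fun e =>
    (h.mem_St h' (Q0_B0 hq)).1 (h.St_of h' (Q0_B0 hq) f1 f2 (h'.q_pq (ch_Bh 0) e) (h.pq_q (ch_Bh 0) e)))
    fun e => by
      rw [mulRight_apply, cj_apply, ← map_inv, mul_assoc, mul_assoc, h.ED_conj (inv_mem hq), ← f2, mul_assoc, ← mul_assoc (ED ρ 0),
        h.ED_orth (by simpa using e.symm), zero_mul, mul_zero, mul_zero]).trans f2
  have hz : ∀ {c}, c ∈ C0 → ρ c * hf (ρ zA) 1 = hf (ρ zA) 1 * ρ c := fun hc => semi_hf (h.z_comm hc) 1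
  have p1 : w * hf (ρ zA) 1 * ED ρ 0 = f := by rw [mul_assoc, h.hf_ED, w3]
  have p2 : w * hf (ρ zA) 1 * hf (ρ zA) 1 = w * hf (ρ zA) 1 := by rw [mul_assoc, hf_mul_of h.two (mul_hf h.zz 1)]
  have p3 : ∀ q ∈ Q0, qV q ∈ h.St h' (w * hf (ρ zA) 1) := fun q hq => h.St_mul h' ((h.mem_St h' (Q0_B0 hq)).2 (w1 q hq)) (hz hq)
  generalize w * hf (ρ zA) 1 = φ at *
  refine ⟨φ, fun e => f0 (by rw [← p1, e, zero_mul]), p2, fun c hc => (h.mem_St h' (C0_le hc)).2 (fix_C0 (commutator_stab short_t)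
    (fun _ k => k) (fun g hg k hk => h.cj_mul h' (C0_le hg) (C0_le hk)) (fun c hc _ _ _ => ?_)
    (fun q hq => (h.mem_St h' (Q0_B0 hq)).1 (p3 q hq)) hc (Ov.piQ ⟨hc.1, rfl⟩ (mem_C0.1 hc).2).symm ⟨hc.1, rfl⟩)⟩
  have a : ∀ q ∈ Q0, qV q ∈ h.St h' (cj ρ ρ' c φ) := fun q hq => h.St_cj h' (C0_le hc) (Q0_B0 hq) (by
    obtain ⟨y, hy, e⟩ := C0_conj (inv_mem hc) q hq
    rw [inv_inv] at e
    exact e ▸ p3 y hy)
  have b : cj ρ ρ' c φ * ED ρ 0 = ED ρ' 0 * cj ρ ρ' c φ := comm_pq fun q hq => (a q ((ch_Bh 0).le q hq)).2.symm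
  obtain ⟨r, hr⟩ := exists_smul_hom h.small.2.1.le h'.small.2.1.le f0 f1 f2 (g := cj ρ ρ' c φ * ED ρ 0)
    (by rw [b, ← mul_assoc, h'.ED_idem]) (by rw [mul_assoc, h.ED_idem])
  have d := h.ED_complete (L := cj ρ ρ' c φ - r • φ) fun d hd => by
    have m : qe 0 d 0 ∈ Q0 := mem_Q0.2 hd
    have e := h.ED_conj m 0
    rw [zero_add, qe_d] at e
    refine h.zero_of_mul (Q0_B0 m) ?_
    rw [mul_assoc, ← e, ← mul_assoc, ← (h.St_sub h' (a _ m) (p3 _ m) r).2, mul_assoc, sub_mul, hr, smul_mul_assoc, p1, sub_self, mul_zero]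
  rw [sub_mul, smul_mul_assoc, p2, cj_apply, mul_assoc, mul_assoc, hz (inv_mem hc), ← mul_assoc φ, p2, sub_eq_zero] at d
  exact ⟨r, d⟩

theorem exists_plus (hN : N3 ≤ h.St h' φ) : ∃ ψ : End K N, ψ * PQ ρ (eW 0 pI) = φ * PQ ρ (eW 0 pI) ∧ ψ * PQ ρ 1 = 0 ∧
    ψ * hf (ρ zA) 1 = 0 ∧ C0 ≤ h.St h' ψ := by
  have f1 := h.PQ_St h' hN wt_W.1 fun u => zero_ne_one ((u0_piQ.1 u).2.symm.trans (par_eW 0 pI))
  have f2 : φ * PQ ρ (eW 0 pI) * PQ ρ (eW 0 pI) = φ * PQ ρ (eW 0 pI) := by rw [mul_assoc, h.PQ_idem]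
  obtain ⟨σ, hσ⟩ := exists_perm (l := [pI, pJ]) (l' := [pJ, pI]) (by decide) (by decide)
  simp only [List.map_cons, List.map_nil, List.cons.injEq, and_true] at hσ
  have n1 := xp_N3 (σ := σ) (by rw [sW_add, sW_e1, sW_e1, hσ.1, hσ.2, add_comm])
  have n2 : xp σ * qV (eW 0 pI) * (xp σ)⁻¹ = qV (eW 0 pJ) := by rw [eW_zero, eW_zero, ← bq, xp_bq, sW_e1, hσ.1, bq]
  have n3 : piQ (eW 0 pJ) = piQ (eW 0 pI * tq) := by rw [piQ_mul, ← eW_mul rfl, ← piQ_mul, mul_assoc, t_mul_t, mul_one]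
  have f3 := h.St_mul h' (hN n1) ((h.PQ_conj (N3_le n1) n2).trans (by rw [PQ_sim ρ (.inr n3)]))
  have w := wt_W
  obtain ⟨L, l1, l2⟩ := exists_L62
  generalize eW 0 pI = x, eW 0 pJ = y at *
  generalize φ * PQ ρ x = f at *
  have hR : ∀ g ∈ C0, ∀ k ∈ C0, cj ρ ρ' (g * k) = cj ρ ρ' g * cj ρ ρ' k := fun g hg k hk => h.cj_mul h' (C0_le hg) (C0_le hk)
  have a : ∀ c ∈ C0, ∀ y, c * qV x * c⁻¹ = qV y → piQ y = piQ x → cj ρ ρ' c f = f := fun c hc y e k =>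
    fix_C0 l1 (fun k hk => ((l2 k).1 hk).1) hR (fun c hc k hk o => by
      obtain ⟨y, e, -⟩ := exists_conj hc.1 x
      have s : Sim y x := .inl ((o.piQ e).trans ((l2 k).1 hk).2)
      rcases eq_or_ne f 0 with rfl | f0
      · exact ⟨0, by simp⟩
      refine exists_smul_hom (h.small.1 x w).le (h'.small.1 x w).le f0 f1 f2 ?_ ?_
      · rw [cj_apply, ← mul_assoc, ← PQ_sim ρ' s, ← h'.PQ_conj hc e, mul_assoc, ← mul_assoc _ f, f1]
      · rw [cj_apply, mul_assoc, mul_assoc, ← PQ_sim ρ s, ← h.PQ_conj' hc e, ← mul_assoc f, f2]) 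
      (fun q hq => (h.mem_St h' (C0_le hq)).1 (h.St_of h' (C0_le hq) f1 f2 (h'.q_PQ hq x) (h.PQ_q hq x))) hc ((l2 _).2 ⟨(Ov.piQ ⟨hc.1, rfl⟩ (mem_C0.1 hc).2).symm, (Ov.piQ ⟨hc.1, rfl⟩ e).symm.trans k⟩) ⟨hc.1, rfl⟩
  obtain ⟨ψ, p1, p2⟩ := exists_orbit_sum hR (h.cj_one h') f
  have key : ∀ T, f * T = 0 → (∀ c ∈ C0, ρ c * T = T * ρ c) → ψ * T = 0 := fun T a b => (p2 (mulRight K T) fun c hc => .inr (by
    rw [mulRight_apply, cj_apply, mul_assoc, mul_assoc, b _ (inv_mem hc), ← mul_assoc f, a, zero_mul, mul_zero])).trans a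
  refine ⟨ψ, (p2 (mulRight K (PQ ρ x)) fun c hc => ?_).trans f2, key _ (by rw [← f2, mul_assoc, h.PQ_orth w.not_sim, mul_zero])
    fun c => h.P0_comm, key _ ?_ fun c hc => semi_hf (h.z_comm hc) 1, fun c hc => (h.mem_St h' (C0_le hc)).2 (p1 c hc)⟩
  · obtain ⟨u, e, -⟩ := exists_conj hc.1 x
    by_cases s : Sim x u
    · rcases s with s | s
      · exact .inl (a c hc u e s.symm)
      obtain ⟨v, e', -⟩ := exists_conj hc.1 y
      have := a _ (mul_mem hc (N3_le n1)) v (by rw [conj_mul_conj, n2, e'])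
        (by rw [s, Ov.piQ ⟨hc.1, rfl⟩ e', n3, ← Ov.piQ ⟨hc.1, rfl⟩ (conj_mul e (mem_C0.1 hc).2)])
      rw [hR c hc _ (N3_le n1), End.mul_apply, (h.mem_St h' f3.1).1 f3] at this
      exact .inl this
    · exact .inr (by rw [mulRight_apply, cj_apply, ← f2, mul_assoc f, h.PQ_conj' hc e, mul_assoc, mul_assoc, mul_assoc,
        h.PQ_orth fun k => s k.symm, mul_zero, mul_zero, mul_zero])
  · rw [← f2, mul_assoc]
    simpa using congrArg (f * ·) (mul_hf_ne (a := 0) (by simpa [cmQ] using h.PQ_q (q := zQ) (N3_le z_N3) x))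

theorem exists_St : ∃ φ : End K N, φ ≠ 0 ∧ B0 ≤ h.St h' φ := by
  obtain ⟨m, m0, m1, m2⟩ := h.exists_minus h'
  obtain ⟨p, p1, p2, p3, p4⟩ := h.exists_plus h' (h.St_tau h' (N3_le.trans m2))
  obtain ⟨s, hs : Sw s⟩ := exists_s
  obtain ⟨d, hd : Eps d⟩ := exists_eps
  have s0 := C0_le hs.1
  have a1 : N3 ≤ h.St h' (cj ρ ρ' tau p * PQ ρ 1) := fun n hn => h.St_mul h' (h.St_tau h' (N3_le.trans p4) hn) (h.P0_comm (N3_le hn))
  have a2 : cj ρ ρ' tau p * PQ ρ 1 * PQ ρ 1 = cj ρ ρ' tau p * PQ ρ 1 := by rw [mul_assoc, h.PQ_idem]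
  have t1 : ρ tau⁻¹ * Pinf ρ = Pinf ρ := by rw [h.tau_sq, mul_assoc, h.tau_Pinf, h.tau_Pinf]
  have a3 : cj ρ ρ' tau p * PQ ρ 1 * Pinf ρ = 0 := by
    rw [mul_assoc, h.P0_Pinf, cj_apply, mul_assoc, mul_assoc, t1, ← h.P0_Pinf, ← mul_assoc p, p2, zero_mul, mul_zero]
  have a4 : cj ρ ρ' tau p * (PQ ρ 1 - Pinf ρ) = cj ρ ρ' tau p * PQ ρ 1 := by rw [mul_sub, ← h.P0_Pinf, ← mul_assoc, a3, sub_zero]
  generalize cj ρ ρ' tau p * PQ ρ 1 = a at *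
  have a5 : PQ ρ' 1 * a = a := h'.PX_zero ▸ h'.pq_mul_of fun q hq => by
    rw [(a1 hq).2, ← a2, mul_assoc, h.P0_q (N3_le hq), map_zero, sk_zero, one_smul]
  obtain ⟨i, hi⟩ : ∃ i, i = Pinf ρ' * (ρ' s⁻¹ * (a * (ρ s * Pinf ρ))) := ⟨_, rfl⟩
  have i1 : Pinf ρ' * i = i := by rw [hi, ← mul_assoc, h'.Pinf_idem]
  have i2 : i * Pinf ρ = i := by simp only [hi, mul_assoc, h.Pinf_idem]
  have i3 : i * PQ ρ 1 = i := by rw [← i2, mul_assoc, h.Pinf_P0]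
  have m3 : m * PQ ρ 1 = 0 := by
    rw [← m1, mul_assoc]; simpa using congrArg (m * ·) (hf_mul_ne (a := 0) (by simpa using h.q_P0 (q := zQ) (N3_le z_N3)))
  have c1 : C0 ≤ h.St h' (m + p) := fun c hc => h.St_add h' (m2 hc) (p4 hc)
  have hQ : ∀ q ∈ Q0, qV q ∈ h.St h' (m + p + (a + i)) := fun q hq => h.St_add h' (c1 hq) (h.St_add h'
    (h.St_of h' (c := 1) (Q0_B0 hq) a5 a2 (by rw [h'.q_P0 hq, one_smul]) (by rw [h.P0_q hq, one_smul]))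
    (h.St_of h' (c := 1) (Q0_B0 hq) i1 i2 (by rw [h'.q_Pinf hq, one_smul]) (by rw [h.Pinf_q hq, one_smul])))
  have hN : N3 ≤ h.St h' (m + p + (a + i)) := fun n hn => h.St_add h' (c1 (N3_le hn)) (h.St_add h' (a1 hn)
    (let ⟨_, hr⟩ := exists_sign (K := K) (N := N) hn; h.St_of h' (C0_le (N3_le hn)) i1 i2 (hr h') ((h.n_Pinf hn).symm.trans (hr h))))
  have e1 : (m + p + (a + i)) * PQ ρ 1 = a + i := by simp only [add_mul, m3, p2, a2, i3, zero_add]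
  have e2 : (m + p + (a + i)) * hf (ρ zA) 1 = m := by
    rw [add_mul, ← e1, mul_assoc, h.P0_hf, mul_zero, add_zero, add_mul, m1, p3, add_zero]
  have e3 : ∀ {T}, PQ ρ 1 * T = 0 → (m + p + (a + i)) * T = (m + p) * T := fun k => by
    rw [add_mul, ← e1, mul_assoc, k, mul_zero, add_zero]
  have e4 : ∀ {T}, hf (ρ zA) 1 * T = 0 → m * T = 0 := fun k => by rw [← m1, mul_assoc, k, mul_zero]
  have e5 : (m + p + (a + i)) * Pinf ρ = i := by rw [← h.P0_Pinf, ← mul_assoc, e1, add_mul, a3, i2, zero_add]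
  generalize m + p + (a + i) = φ at *
  have ht : tau ∈ h.St h' φ := by
    refine h.tau_St h' hQ hN ?_ ?_ (by rw [mul_assoc, e5, ← i1, ← mul_assoc, h'.tau_Pinf])
    · have b := h.EE_PQ (eW 0 pI)
      have c := h.tau_EE 1 1
      rw [show pr Om _ = 1 from par_eW 0 pI] at b
      rw [z2_add_self] at c
      have e : hf (ρ zA) 1 * (ρ tau⁻¹ * PQ ρ (eW 0 pI)) = ρ tau⁻¹ * PQ ρ (eW 0 pI) := by
        have : ρ tau⁻¹ * EE ρ 0 1 = EE ρ 1 1 * ρ tau⁻¹ := h.cancel tau_B0 (by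
          rw [mul_assoc, ← c, ← mul_assoc, h.inv_mul tau_B0, mul_assoc, h.inv_mul tau_B0, one_mul, mul_one])
        rw [← b, ← mul_assoc (ρ _), this, EE, ← mul_assoc, ← mul_assoc, ← mul_assoc, hf_mul_of h.two (mul_hf h.zz 1)]
      rw [e3 (h.PQ_orth fun k => wt_W.not_sim k.symm), add_mul, e4 (by
        simpa using hf_mul_ne (a := 0) (by simpa [cmQ] using h.q_PQ (q := zQ) (N3_le z_N3) _)), zero_add, p1, cj_apply, cj_apply,
        mul_assoc, mul_assoc, ← e, ← mul_assoc φ, e2, mul_assoc, mul_assoc]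
    · have b : ρ tau⁻¹ * PQ ρ 1 = PQ (Bab.tw ρ tau⁻¹) 1 * ρ tau⁻¹ := h.tw_pq tau_inv_B0 (ch_Q0 1)
      have c : PQ ρ 1 * (ρ tau⁻¹ * (PQ ρ 1 - Pinf ρ)) = 0 := h.zero_of_mul' tau_B0 (by
        rw [← mul_assoc, h.tau_P0, mul_assoc, ← mul_assoc (ρ tau), h.mul_inv tau_B0, one_mul, mul_sub, ← h.P0_PY0 tp_tau, ← Pinf,
          Pinf, h.P0_PY0 tp_tau, ← mul_assoc, (h.tw tau_B0).PQ_idem, sub_self])
      have e : hf (ρ zA) 1 * (ρ tau⁻¹ * (PQ ρ 1 - Pinf ρ)) = 0 := by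
        have := (h.tw tau_inv_B0).q_P0 (q := aOm) (N3_le w_N3)
        rw [Bab.tw, ← tau_conj_zQ, show tau⁻¹ * (tau * qV zQ * tau⁻¹) * tau⁻¹⁻¹ = zA by group] at this
        rw [← h.P0_Pinf, ← mul_one (PQ ρ 1), mul_assoc, ← mul_sub, ← mul_assoc (ρ _), b, mul_assoc, ← mul_assoc,
          show hf (ρ zA) 1 * _ = 0 by simpa using hf_mul_ne (a := 0) (this.trans (by simp)), zero_mul]
      rw [cj_apply, mul_assoc, mul_assoc, e3 c, add_mul, e4 e, zero_add, ← mul_assoc p, ← mul_assoc, ← cj_apply, a4, mul_sub, e1, e5,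
        add_sub_cancel_right]
  have hs' : s ∈ h.St h' φ := by
    refine h.s_St h' hQ hN ht hs ?_ ?_
    · have c : PQ ρ 1 * (1 - PQ ρ 1) = 0 := by rw [mul_sub, mul_one, h.PQ_idem, sub_self]
      rw [eq_comm, ← sub_eq_zero, ← mul_one_sub, sub_mul, mul_assoc, e3 c, mul_assoc, e3 (by rw [← mul_assoc, ← h.P0_comm hs.1, mul_assoc, c,
        mul_zero]), ← mul_assoc, (c1 hs.1).2, mul_assoc, sub_self]
    obtain ⟨n, -⟩ := hs.eps hd.1 hd.2.1 hd.2.2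
    have r := h.s_Pinf hs hd
    have r' := h'.s_Pinf hs hd
    have r'' := (h.P2_spec hs hd).2.1
    generalize s * yq 0 d * s⁻¹ = u at *
    have b : φ * P2 ρ u = P2 ρ' u * φ := by
      rw [P2, ← mul_assoc, semi_hf (hN n).2.symm, mul_assoc, ← mul_assoc φ, show φ * PD ρ = PD ρ' * φ from comm_pq fun q hq =>
        (hN (tau_N3 hq.1)).2.symm, mul_assoc, show φ * PQ ρ 1 = PQ ρ' 1 * φ from comm_pq fun q hq => (hQ q hq).2.symm, P2,
        mul_assoc, mul_assoc]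
    have c : φ * (ρ s * Pinf ρ) = a * (ρ s * Pinf ρ) := by
      rw [← h.P0_Pinf, ← mul_assoc (ρ s), h.P0_comm hs.1, mul_assoc, ← mul_assoc φ, e1, ← mul_assoc a, a2, add_mul, ← i2, r,
        mul_assoc i, ← mul_assoc (Pinf ρ), r'', zero_mul, mul_zero, add_zero]
    rw [sub_mul, mul_assoc, e5, hi, ← mul_assoc, r', mul_assoc, ← mul_assoc (ρ' s), h'.mul_inv s0, one_mul, ← c,
      ← mul_assoc, ← b, mul_assoc, ← mul_assoc (P2 _ _), ← r, mul_assoc, h.Pinf_idem, mul_assoc, sub_self]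
  exact ⟨φ, fun e => m0 (by rw [← e2, e, zero_mul]), B0_le_of (C0_le_of hs hQ hN hs') ht⟩

end RepB

end Cfsg.Lib.Bab
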