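import Cfsg.Agent.Lib.Bab.Rat

/-! # Representations of the presented Baby Monster -/

set_option autoImplicit false

namespace Cfsg.Lib.Bab

open Module Griess Subgroup Cfsg.Lib.Mon Cfsg.Lib.M3 Function

attribute [local irreducible] qV Griess.tau

variable {K N : Type*} [Field K] [AddCommGroup N] [Module K N]

open Classical in
/-- extension by one -/
noncomputable def ex {M : Type*} [One M] (σ : B0 → M) (g : Aut) : M := if h : g ∈ B0 then σ ⟨g, h⟩ else 1

theorem ex_eq {M : Type*} [One M] (σ : B0 → M) (g : B0) : ex σ g = σ g := dif_pos g.2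

theorem repB (σ : Representation K B0 N) (h2 : (2 : K) ≠ 0) (ht : σ ⟨tA, t_B0⟩ = 1) (hz : σ ⟨zA, z_B0⟩ ≠ 1) (hd : finrank K N ≤ 4371) :
    RepB (ex σ) where
  mul hg hk := (ex_eq σ (⟨_, hg⟩ * ⟨_, hk⟩)).trans ((map_mul ..).trans (by rw [← ex_eq σ, ← ex_eq σ]))
  one := (ex_eq σ 1).trans (map_one σ)
  t := (ex_eq σ ⟨tA, t_B0⟩).trans ht
  two := h2
  ne e := hz ((ex_eq σ ⟨zA, z_B0⟩).symm.trans e)
  dim := hd

theorem irred [FiniteDimensional K N] {σ : Representation K B0 N} (h : RepB (ex σ)) (W : Submodule K N) (hW : ∀ g, W ≤ W.comap (σ g)) :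
    W = ⊥ ∨ W = ⊤ := by
  have ht : σ ⟨tA, t_B0⟩ = 1 := (ex_eq σ ⟨tA, t_B0⟩).symm.trans h.t
  have d := W.finrank_quotient_add_finrank
  have n := h.finrank_eq
  by_cases a : σ.subrepresentation W hW ⟨zA, z_B0⟩ = 1
  · by_cases b : σ.quotient W hW ⟨zA, z_B0⟩ = 1
    · refine (h.ne (LinearMap.ext fun v => ?_)).elim
      have c : σ ⟨zA, z_B0⟩ (σ ⟨zA, z_B0⟩ v - v) = σ ⟨zA, z_B0⟩ v - v :=
        congr(($a ⟨_, (Submodule.Quotient.eq W).1 (LinearMap.congr_fun b (W.mkQ v))⟩).1)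
      rw [← ex_eq σ, map_sub, show ex σ zA (ex σ zA v) = v from congr($h.zz v)] at c
      exact smul_right_injective _ h.two (by linear_combination (norm := (simp; module)) -c)
    · have := (repB _ h.two (by ext v; simp [Representation.quotient, ht]) b (by omega)).finrank_eq
      exact .inl (Submodule.finrank_eq_zero.1 (by omega))
  · have := (repB _ h.two (by ext v; simp [Representation.subrepresentation, ht]) a (by omega)).finrank_eq
    exact .inr (Submodule.eq_top_of_finrank_eq (by omega))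

theorem exists_equiv [FiniteDimensional K N] {σ σ' : Representation K B0 N} (h : RepB (ex σ)) (h' : RepB (ex σ')) :
    ∃ φ : (End K N)ˣ, ∀ g, σ' g * φ = φ * σ g := by
  obtain ⟨φ, a, b⟩ := h.exists_St h'
  have c : ∀ g, σ' g * φ = φ * σ g := fun g => by simpa only [ex_eq] using (b g.2).2
  obtain ⟨u, rfl⟩ := (LinearMap.isUnit_iff_ker_eq_bot φ).2 ((irred h _ fun g v hv => by
    simpa [show φ v = 0 from hv] using congr($(c g) v).symm).resolve_right fun e => a (LinearMap.ker_eq_top.1 e))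
  exact ⟨u, c⟩

theorem exists_piB : ∃ π : B0 →* Spor.BabyMonster, Surjective π ∧ (∀ g, π g = 1 ↔ (g : Aut) = 1 ∨ (g : Aut) = tA) ∧
    IsSimpleGroup Spor.BabyMonster := by
  obtain ⟨r, hr, ⟨e⟩⟩ := exists_eB
  obtain ⟨c, hc, k⟩ := exists_conj₁ short_t hr
  have m := CZ_le_M1 hc
  let f : B0 →* HB r := (((MulAut.conj c).toMonoidHom.comp B0.subtype).codRestrict M1 fun g =>
    mul_mem (mul_mem m g.2.1) (inv_mem m)).codRestrict _ fun g => mem_centralizer_singleton_iff.2 (Subtype.ext (by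
      change c * g * c⁻¹ * qV r = qV r * (c * g * c⁻¹)
      rw [← k, _root_.conj_mul, _root_.conj_mul, mem_centralizer_singleton_iff.1 g.2.2]))
  have := (simple_BB hr).1
  refine ⟨e.toMonoidHom.comp ((QuotientGroup.mk' _).comp f), e.surjective.comp ((QuotientGroup.mk'_surjective _).comp fun g =>
    ⟨⟨c⁻¹ * g.1 * c, mem_B0.2 ⟨mul_mem (mul_mem (inv_mem m) g.1.2) m, ?_⟩⟩, Subtype.ext (Subtype.ext ?_)⟩), fun g => ?_, e.symm.isSimpleGroup⟩
  · rw [conj_mul_conj, conj_mul_conj, k, show (g.1 : Aut) * qV r = qV r * g.1 from congrArg Subtype.val (mem_centralizer_singleton_iff.1 g.2),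
      mul_inv_cancel_right, ← k]; group
  · change c * (c⁻¹ * g.1 * c) * c⁻¹ = _; group
  · refine (map_eq_one_iff _ e.injective).trans ((mk_eq_one hr _).trans (or_congr Subtype.ext_iff Subtype.ext_iff)) |>.trans ?_
    change c * g * c⁻¹ = 1 ∨ c * g * c⁻¹ = qV r ↔ _
    rw [← k, conj_eq_one_iff, mul_left_inj, mul_right_inj]

/-- the representation on column vectors -/
noncomputable def repGL (π : B0 →* Spor.BabyMonster) (ρ : Spor.BabyMonster →* GL (Fin 4371) K) : Representation K B0 (Fin 4371 → K) :=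
  (Matrix.toLinAlgEquiv' : _ ≃ₐ[K] _).toMulEquiv.toMonoidHom.comp ((Units.coeHom _).comp (ρ.comp π))

theorem repB_GL {π : B0 →* Spor.BabyMonster} (hπ : ∀ g, π g = 1 ↔ (g : Aut) = 1 ∨ (g : Aut) = tA) (h2 : ringChar K ≠ 2)
    {ρ : Spor.BabyMonster →* GL (Fin 4371) K} (h : Injective ρ) : RepB (ex (repGL π ρ)) :=
  have e : ∀ g, repGL π ρ g = Matrix.toLin' (ρ (π g)).1 := fun _ => rfl
  repB _ (Ring.two_ne_zero h2) (by simp [e, (hπ ⟨tA, t_B0⟩).2 (.inr rfl), End.one_eq_id]) (fun k => by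
    rw [e, End.one_eq_id, ← Matrix.toLin'_one, Matrix.toLin'.injective.eq_iff, Units.val_eq_one, map_eq_one_iff _ h, hπ] at k
    rcases k with k | k
    exacts [zQ_ne_one (qV_injective (k.trans (map_one qV).symm)), c0_ne congr(($(qV_injective k)).c).symm]) (by simp)

theorem exists_repB (h2 : (2 : K) ≠ 0) : ∃ n, ∃ σ : Representation K B0 (Fin n → K), RepB (ex σ) := by
  obtain ⟨n, hn, M, a, b⟩ := exists_int
  refine ⟨n, (Matrix.toLinAlgEquiv' : _ ≃ₐ[K] _).toMulEquiv.toMonoidHom.comp ((Int.castRingHom K).mapMatrix.toMonoidHom.comp M),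
    repB _ h2 (by simp [a]) (fun e => b ?_) (by simpa)⟩
  have c : M ⟨zA, z_B0⟩ * M ⟨zA, z_B0⟩ = 1 := by rw [← map_mul, ← map_one M]; exact congrArg M (Subtype.ext zA_mul_self)
  replace e : (Int.castRingHom K).mapMatrix (M ⟨zA, z_B0⟩) = 1 := Matrix.toLinAlgEquiv'.injective (e.trans (map_one _).symm)
  generalize M ⟨zA, z_B0⟩ = A at *
  have d : (A + 1).det ≠ 0 := fun k => by
    have := congrArg (Int.castRingHom K) k
    rw [RingHom.map_det, map_add, e, map_one, ← two_smul K, Matrix.det_smul, Matrix.det_one, mul_one, map_zero] at this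
    exact h2 (pow_eq_zero_iff'.1 this).1
  have f := congrArg ((A + 1).adjugate * ·) (show (A + 1) * (A - 1) = 0 by rw [mul_sub, add_mul, c]; simp [add_comm])
  simpa only [← Matrix.mul_assoc, Matrix.adjugate_mul, Matrix.mul_zero, smul_mul_assoc, Matrix.one_mul, smul_eq_zero, d,
    false_or, sub_eq_zero] using f

end Cfsg.Lib.Bab
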