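import Cfsg.Agent.Lib.Bab.Gen

/-! # Small representations of the Baby Monster: weight spaces of the extraspecial subgroup -/

set_option autoImplicit false

namespace Cfsg.Lib.Bab

open Module Finset LinearMap Griess Subgroup Cfsg.Lib.Mon Cfsg.Lib.Deg Cfsg.Lib.M3 Matrix
open Leech hiding vW

attribute [local irreducible] qV Griess.tau

variable {K N : Type*} [Field K] [AddCommGroup N] [Module K N]

/-- the projector onto an eigenspace of an involution -/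
noncomputable def hf (T : End K N) (a : ZMod 2) : End K N := (2 : K)⁻¹ • (1 + sk K a • T)

section
variable {T S T' : End K N} {a b : ZMod 2}
theorem hf_add (h2 : (2 : K) ≠ 0) (T : End K N) : hf T 0 + hf T 1 = 1 := by
  simp only [hf, sk_zero, sk_one]; match_scalars <;> field_simp <;> norm_num
theorem semi_hf (h : S * T = T' * S) (a : ZMod 2) : S * hf T a = hf T' a * S := by
  simp only [hf, mul_smul_comm, smul_mul_assoc, mul_add, add_mul, h, mul_one, one_mul]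
theorem mul_hf (h : T * T = 1) (a : ZMod 2) : T * hf T a = sk K a • hf T a := by
  rw [hf, mul_smul_comm, smul_comm (sk K a), smul_add (sk K a), smul_smul (sk K a), sk_mul_self, mul_add, mul_smul_comm, h, mul_one,
    one_smul, add_comm]
theorem hf_mul_of (h2 : (2 : K) ≠ 0) (h : T * S = sk K a • S) : hf T a * S = S := by
  simp only [hf, smul_mul_assoc, add_mul, h, one_mul, smul_smul, sk_mul_self, one_smul]; match_scalars; field_simp; norm_num
theorem mul_hf_of (h2 : (2 : K) ≠ 0) (h : S * T = sk K a • S) : S * hf T a = S := by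
  simp only [hf, mul_smul_comm, mul_add, h, mul_one, smul_smul, sk_mul_self, one_smul]; match_scalars; field_simp; norm_num
theorem hf_mul_ne (h : T * S = sk K a • S) : hf T (a + 1) * S = 0 := by
  simp only [hf, smul_mul_assoc, add_mul, h, one_mul, smul_smul, sk_add, mul_right_comm _ (sk K 1), sk_mul_self]; simp
theorem mul_hf_ne (h : S * T = sk K a • S) : S * hf T (a + 1) = 0 := by
  simp only [hf, mul_smul_comm, mul_add, h, mul_one, smul_smul, sk_add, mul_right_comm _ (sk K 1), sk_mul_self]; simp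
theorem zero_of_sk (h2 : (2 : K) ≠ 0) (h : sk K a • T = sk K b • T) (e : a ≠ b) : T = 0 :=
  by_contra fun k => e (sk_inj h2 (smul_left_injective K k h))

theorem rk_hf [FiniteDimensional K N] (h2 : (2 : K) ≠ 0) (h : T * T = 1) : rk (hf T 0) + rk (hf T 1) = finrank K N := by
  rw [← rk_add (hf_mul_of h2 (mul_hf h 0)) (hf_mul_of h2 (mul_hf h 1)) (by simpa [z2_add_self] using hf_mul_ne (mul_hf h 1)) (by simpa using hf_mul_ne (mul_hf h 0)),
    hf_add h2, rk_one]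

theorem card_mul_le [FiniteDimensional K N] {ι : Type*} (t : Finset ι) {e : ι → End K N} {P : End K N} {r k : ℕ}
    (h1 : ∀ i ∈ t, e i * e i = e i) (f : ι → Finset ι) (hf : ∀ i, (f i).card ≤ k)
    (h2 : ∀ i ∈ t, ∀ j ∈ t, e i * e j = 0 ∨ e i = e j ∧ j ∈ f i) (h3 : ∀ i ∈ t, P * e i = e i) (h4 : ∀ i ∈ t, r ≤ rk (e i)) :
    t.card * r ≤ k * rk P := by
  classical
  rcases r.eq_zero_or_pos with rfl | h0
  · simp
  have a := card_le_mul_card_image (f := e) t k fun u hu => by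
    obtain ⟨i, hi, rfl⟩ := mem_image.1 hu
    refine (card_le_card fun j hj => ((h2 i hi j (mem_filter.1 hj).1).resolve_left fun l => ?_).2).trans (hf i)
    have := h4 i hi
    rw [(mem_filter.1 hj).2, h1 i hi] at l
    rw [l, rk, LinearMap.range_eq_bot.2 rfl, finrank_bot] at this; omega
  have b := sum_rk_le (t.image e) (e := id) (P := P) (forall_mem_image.2 h1) (forall_mem_image.2 fun i hi => forall_mem_image.2
    fun j hj k => (h2 i hi j hj).resolve_right fun l => k l.1) (forall_mem_image.2 h3)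
  have c := card_nsmul_le_sum (t.image e) (fun u => rk (id u)) r (forall_mem_image.2 h4)
  rw [smul_eq_mul] at c
  exact (Nat.mul_le_mul_right r a).trans (by rw [mul_assoc]; exact Nat.mul_le_mul_left k (c.trans b))
end

/-- a small faithful representation of the Baby Monster -/
structure RepB (ρ : Aut → End K N) : Prop where
  mul : ∀ {g k}, g ∈ B0 → k ∈ B0 → ρ (g * k) = ρ g * ρ k
  one : ρ 1 = 1
  t : ρ tA = 1
  two : (2 : K) ≠ 0
  ne : ρ zA ≠ 1
  dim : finrank K N ≤ 4371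

/-- a linear character of a subgroup of `Q` -/
structure Ch (A : Subgroup Q) (β : Q → ZMod 2) : Prop where
  le : ∀ q ∈ A, qV q ∈ C0
  add : ∀ a ∈ A, ∀ b ∈ A, β (a * b) = β a + β b

noncomputable instance instFintypeSubQ (A : Subgroup Q) : Fintype A := Fintype.ofFinite A

/-- the projector onto a weight space -/
noncomputable def pq (ρ : Aut → End K N) (A : Subgroup Q) (β : Q → ZMod 2) : End K N := pj (fun q : A => ρ (qV q)) fun q => β q

/-- the centralizer of `t` in `Q` -/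
noncomputable def Q0 : Subgroup Q := C0.comap qV
/-- its even part -/
noncomputable def X0 : Subgroup Q := N3.comap qV
/-- a maximal abelian subgroup -/
def Bh : Subgroup Q where
  carrier := {q | q.d = 0}
  one_mem' := rfl
  mul_mem' := fun a b => by simp_all
  inv_mem' := fun a => a
/-- the intersection of the three conjugates of `Q` -/
def Xh : Subgroup Q where
  carrier := {q | U0 (piQ q)}
  one_mem' := by simp [u0_piQ]
  mul_mem' := fun a b => by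
    simp only [Set.mem_ofPred, u0_piQ] at *
    rcases a with ⟨a | a, c⟩ <;> rcases b with ⟨b | b, d⟩ <;> simp [*]
  inv_mem' := fun a => by simpa using a

/-- weight spaces of `Q0` -/
noncomputable def PQ (ρ : Aut → End K N) (x : Q) : End K N := pq ρ Q0 (cmQ · x)
/-- weight spaces of `Bh` -/
noncomputable def ED (ρ : Aut → End K N) (d : Cd) : End K N := pq ρ Bh fun q => q.s + pr d q.c
/-- the projectors of the four-group -/
noncomputable def EE (ρ : Aut → End K N) (a b : ZMod 2) : End K N := hf (ρ zA) a * hf (ρ wA) b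

variable {A A' : Subgroup Q} {β γ : Q → ZMod 2} {q x y : Q} {d e : Cd} {g c : Aut} {T L : End K N}

theorem mem_Q0 : q ∈ Q0 ↔ pr q.d (cs d0) = 0 := qV_C0
theorem mem_X0 : q ∈ X0 ↔ pr q.d (cs d0) = 0 ∧ pr Om q.c = 0 := qV_N3
theorem ch_Q0 (x : Q) : Ch Q0 (cmQ · x) := ⟨fun _ h => h, fun a _ b _ => ch_cmQ x a b⟩
theorem ch_Bh (d : Cd) : Ch Bh fun q => q.s + pr d q.c := ⟨fun q h => qV_C0.2 (by rw [show q.d = 0 from h, pr_zero]),
  fun a _ b h => by simp [show b.d = 0 from h, add_add_add_comm]⟩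
theorem Ch.ch2 (h : Ch A β) : Ch2 fun q : A => β q := fun a b => h.add _ a.2 _ b.2
theorem pq_congr (ρ : Aut → End K N) (h : ∀ q ∈ A, β q = γ q) : pq ρ A β = pq ρ A γ := by
  rw [pq, pq, funext fun q : A => h q q.2]
theorem PQ_sim (ρ : Aut → End K N) (h : Sim x y) : PQ ρ x = PQ ρ y := pq_congr ρ fun _ k => h.cm (mem_Q0.1 k)
theorem C0_conj (hc : c ∈ C0) (q : Q) (hq : q ∈ Q0) : ∃ y ∈ Q0, c * qV q * c⁻¹ = qV y :=
  let ⟨y, e, _⟩ := exists_conj hc.1 q; ⟨y, show qV y ∈ C0 from e ▸ mul_mem (mul_mem hc hq) (inv_mem hc), e⟩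
theorem Q0_B0 (h : q ∈ Q0) : qV q ∈ B0 := C0_le h
theorem X0_B0 (h : q ∈ X0) : qV q ∈ B0 := C0_le (N3_le h)
theorem z_B0 : zA ∈ B0 := C0_le (N3_le z_N3)
theorem w_B0 : wA ∈ B0 := C0_le (N3_le w_N3)
theorem Sim.u0 (h : Sim x 1) : U0 (piQ x) := by rcases h with h | h <;> simp [h, u0_piQ]
theorem card_even : 2048 ≤ (univ.filter fun d : Cd => pr d (cs d0) = 0).card := by
  obtain ⟨e, he⟩ := not_forall.1 (mt eq_zero_of_pr_right c0_ne)
  have a := card_filter_add_card_filter_not (s := univ) fun d : Cd => pr d (cs d0) = 0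
  have b := card_le_card_of_injOn (s := univ.filter fun d : Cd => ¬ pr d (cs d0) = 0) (t := univ.filter fun d : Cd => pr d (cs d0) = 0)
    (· + e) (fun d hd => by
      rw [coe_filter_univ, Set.mem_ofPred] at hd ⊢
      rw [pr_add, (z2_cases _).resolve_left he, (z2_cases _).resolve_left hd, z2_add_self]) (add_left_injective e).injOn
  rw [card_univ, ← Nat.card_eq_fintype_card, card_Cd] at a
  omega

namespace RepB

variable {ρ ρ' : Aut → End K N} (h : RepB ρ)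
include h

theorem rel {a b c d : Aut} (ha : a ∈ B0) (hb : b ∈ B0) (hc : c ∈ B0) (hd : d ∈ B0) (e : a * b = c * d) :
    ρ a * ρ b = ρ c * ρ d := by rw [← h.mul ha hb, e, h.mul hc hd]
theorem mul_inv (hg : g ∈ B0) : ρ g * ρ g⁻¹ = 1 := by rw [← h.mul hg (inv_mem hg), mul_inv_cancel, h.one]
theorem inv_mul (hg : g ∈ B0) : ρ g⁻¹ * ρ g = 1 := by rw [← h.mul (inv_mem hg) hg, inv_mul_cancel, h.one]
theorem zero_of_mul (hg : g ∈ B0) (e : T * ρ g = 0) : T = 0 := by rw [← mul_one T, ← h.mul_inv hg, ← mul_assoc, e, zero_mul]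
theorem zero_of_mul' (hg : g ∈ B0) (e : ρ g * T = 0) : T = 0 := by rw [← one_mul T, ← h.inv_mul hg, mul_assoc, e, mul_zero]
theorem nh (c : Ch A β) : NH fun q : A => ρ (qV q) := fun a b => by
  simp only [Subgroup.coe_mul, map_mul, h.mul (C0_le (c.le _ a.2)) (C0_le (c.le _ b.2))]
theorem card_ne (A : Subgroup Q) : (Fintype.card A : K) ≠ 0 := cast_card_ne h.two (card_Q ▸ card_subgroup_dvd_card A)
theorem q_pq (c : Ch A β) (hq : q ∈ A) : ρ (qV q) * pq ρ A β = sk K (β q) • pq ρ A β := mul_pj (h.nh c) c.ch2 ⟨q, hq⟩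
theorem pq_q (c : Ch A β) (hq : q ∈ A) : pq ρ A β * ρ (qV q) = sk K (β q) • pq ρ A β := pj_mul (h.nh c) c.ch2 ⟨q, hq⟩
theorem pq_mul_of (e : ∀ q ∈ A, ρ (qV q) * T = sk K (β q) • T) : pq ρ A β * T = T := pj_mul_of (h.card_ne A) fun q => e q q.2
theorem mul_pq_of (e : ∀ q ∈ A, T * ρ (qV q) = sk K (β q) • T) : T * pq ρ A β = T := mul_pj_of (h.card_ne A) fun q => e q q.2
theorem idem (c : Ch A β) : pq ρ A β * pq ρ A β = pq ρ A β := h.pq_mul_of fun _ => h.q_pq c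
theorem pq_mul_ne (c : Ch A β) (hq : q ∈ A) {s : ZMod 2} (e : ρ (qV q) * T = sk K s • T) (k : β q ≠ s) : pq ρ A β * T = 0 :=
  zero_of_sk h.two (by rw [← smul_mul_assoc, ← h.pq_q c hq, mul_assoc, e, mul_smul_comm]) k
theorem orth (c : Ch A β) (c' : Ch A' γ) (hq : q ∈ A) (hq' : q ∈ A') (k : β q ≠ γ q) : pq ρ A β * pq ρ A' γ = 0 :=
  h.pq_mul_ne c hq (h.q_pq c' hq') k
omit h in
theorem comm_pq (e : ∀ q ∈ A, T * ρ (qV q) = ρ' (qV q) * T) : T * pq ρ A β = pq ρ' A β * T := comm_pj fun q => e q q.2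
theorem pq_conj (hg : g ∈ B0) (c : Ch A β) (c' : Ch A' γ) (h1 : ∀ a ∈ A, ∃ b ∈ A', g * qV a * g⁻¹ = qV b)
    (h2 : ∀ b ∈ A', ∃ a ∈ A, g⁻¹ * qV b * g⁻¹⁻¹ = qV a) (h3 : ∀ a ∈ A, ∀ b, g * qV a * g⁻¹ = qV b → γ b = β a) :
    ρ g * pq ρ A β = pq ρ A' γ * ρ g := by
  have k : ∀ a ∈ A, ∀ b ∈ A', g * qV a * g⁻¹ = qV b → ρ g * ρ (qV a) = ρ (qV b) * ρ g ∧ γ b = β a := fun a ha b hb e =>
    ⟨h.rel hg (C0_le (c.le _ ha)) (C0_le (c'.le _ hb)) hg (eq_mul_of_mul_inv_eq e), h3 a ha b e⟩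
  exact semi_pj' (h.nh c) (h.nh c') c.ch2 c'.ch2 (h.card_ne _) (h.card_ne _)
    (fun b => let ⟨a, ha, e⟩ := h2 b b.2; ⟨⟨a, ha⟩, k a ha b b.2 (by rw [← e]; group)⟩)
    fun a => let ⟨b, hb, e⟩ := h1 a a.2; ⟨⟨b, hb⟩, k a a.2 b hb e⟩
theorem complete {X : Type*} [Fintype X] {β : X → Q → ZMod 2} (hz : zQ ∈ A) {s : ZMod 2} (h0 : (Fintype.card X : K) ≠ 0)
    (h1 : ∀ x, β x 1 = 0) (h2 : ∀ x, β x zQ = s) (h3 : ∀ q ∈ A, q ≠ 1 → q ≠ zQ → ∑ x, sk K (β x q) = 0)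
    (e : ∀ x, L * pq ρ A (β x) = 0) : L * hf (ρ zA) s = 0 := by
  have a : L * ∑ x, pq ρ A (β x) = 0 := by rw [mul_sum]; exact sum_eq_zero fun x _ => e x
  simp only [pq, sum_pj] at a
  rw [sum_eq_add 1 ⟨zQ, hz⟩ (fun e => zQ_ne_one (congrArg Subtype.val e).symm) (fun q _ hq => by
    rw [h3 q q.2 (fun e => hq.1 (Subtype.ext e)) fun e => hq.2 (Subtype.ext e), zero_smul]) (by simp) (by simp)] at a
  simp only [Subgroup.coe_one, h1, h2, sk_zero, sum_const, card_univ, map_one, h.one, smul_assoc, ← smul_add, one_smul,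
    ← Nat.cast_smul_eq_nsmul K, mul_smul_comm, smul_eq_zero, inv_eq_zero, h.card_ne, h0, false_or] at a
  rw [hf, mul_smul_comm, a, smul_zero]

theorem zz : ρ zA * ρ zA = 1 := by rw [← h.mul z_B0 z_B0, zA_mul_self, h.one]
theorem ww : ρ wA * ρ wA = 1 := by rw [← h.mul w_B0 w_B0, wA_mul_self, h.one]
theorem z_comm (hc : c ∈ C0) : ρ c * ρ zA = ρ zA * ρ c := h.rel (C0_le hc) z_B0 z_B0 (C0_le hc) (mem_CZc.1 hc.1)
theorem q_PQ (hq : q ∈ Q0) (x : Q) : ρ (qV q) * PQ ρ x = sk K (cmQ q x) • PQ ρ x := h.q_pq (ch_Q0 x) hq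
theorem PQ_q (hq : q ∈ Q0) (x : Q) : PQ ρ x * ρ (qV q) = sk K (cmQ q x) • PQ ρ x := h.pq_q (ch_Q0 x) hq
theorem PQ_idem (x : Q) : PQ ρ x * PQ ρ x = PQ ρ x := h.idem (ch_Q0 x)
theorem PQ_orth (e : ¬ Sim x y) : PQ ρ x * PQ ρ y = 0 :=
  let ⟨_, a, b⟩ := exists_cm_ne e; h.orth (ch_Q0 x) (ch_Q0 y) (mem_Q0.2 a) (mem_Q0.2 a) b
theorem PQ_conj (hc : c ∈ C0) (e : c * qV x * c⁻¹ = qV y) : ρ c * PQ ρ x = PQ ρ y * ρ c :=
  h.pq_conj (C0_le hc) (ch_Q0 x) (ch_Q0 y) (C0_conj hc) (C0_conj (inv_mem hc)) fun _ _ _ k => cm_conj k e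
theorem P0_comm (hc : c ∈ C0) : ρ c * PQ ρ 1 = PQ ρ 1 * ρ c := h.PQ_conj hc (by simp)
theorem PQ_complete (e : ∀ x, L * PQ ρ x = 0) : L * hf (ρ zA) 0 = 0 :=
  h.complete (N3_le z_N3) (cast_card_ne h.two card_Q.dvd) (by simp [cmQ]) (by simp [cmQ]) (fun q _ a b => by
    obtain ⟨x, hx⟩ := exists_cmQ (x := q) fun e => (piQ_eq_zero e).elim a b
    simp only [cmQ_comm q, sum_sk h.two (ch_cmQ q) hx]) e
theorem hf_PQ (x : Q) : hf (ρ zA) 0 * PQ ρ x = PQ ρ x := hf_mul_of h.two (by simpa [cmQ] using h.q_PQ (N3_le z_N3) x)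
theorem w_PQ (x : Q) : ρ wA * PQ ρ x = sk K (pr Om x.c) • PQ ρ x := by simpa [cmQ] using h.q_PQ (N3_le w_N3) x

theorem ED_idem (d : Cd) : ED ρ d * ED ρ d = ED ρ d := h.idem (ch_Bh d)
theorem ED_orth (k : d ≠ e) : ED ρ d * ED ρ e = 0 := by
  obtain ⟨c, hc⟩ := not_forall.1 (mt (eq_zero_of_pr_left (d := d + e)) fun l => k (by rw [← add_add_cd d e, l, zero_add]))
  exact h.orth (ch_Bh d) (ch_Bh e) (q := ⟨0, 0, c⟩) rfl rfl fun l => hc (by simpa [pr_add, ← z2_eq_iff] using l)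
theorem ED_conj (hq : q ∈ Q0) (d : Cd) : ρ (qV q) * ED ρ d = ED ρ (d + q.d) * ρ (qV q) := by
  have k : ∀ q, ∀ a ∈ Bh, ∃ b ∈ Bh, qV q * qV a * (qV q)⁻¹ = qV b := fun q a ha =>
    ⟨zp _ * a, show _ + _ = _ from (zero_add _).trans ha, by rw [qV_conj, ← map_mul]⟩
  refine h.pq_conj (C0_le hq) (ch_Bh _) (ch_Bh _) (k q) (map_inv qV q ▸ k q⁻¹) fun a ha b e => ?_
  rw [qV_conj, ← map_mul] at e
  simp only [← qV_injective e, show a.d = 0 from ha, pr_add, mul_s, mul_c, zp_s, zp_c, pr_zero, add_zero, zero_add]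
  linear_combination z2_add_self (pr q.d a.c)
theorem hf_ED (d : Cd) : hf (ρ zA) 1 * ED ρ d = ED ρ d := hf_mul_of h.two (by simpa [ED] using h.q_pq (ch_Bh d) (q := zQ) rfl)
theorem ED_complete (e : ∀ d, pr d (cs d0) = 0 → L * ED ρ d = 0) : L * hf (ρ zA) 1 = 0 :=
  h.complete (A := Bh) rfl (cast_card_ne h.two card_Cd.dvd) (by simp) (by simp) (fun q k a b => by
    obtain ⟨d, hd⟩ := not_forall.1 (mt (eq_zero_of_pr_right (c := q.c)) fun e => (eq_or_eq_of_dc (y := 1) k e).elim a b)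
    rw [sum_congr rfl fun d _ => sk_add _ _, ← mul_sum, show ∑ d, sk K (pr d q.c) = 0 from @sum_sk K (Multiplicative Cd) _ _
      instFintypeCd (β := fun d => pr d.toAdd q.c) h.two (ch_pr _) (a := .ofAdd d) ((z2_cases _).resolve_left hd), mul_zero])
    fun d => (z2_cases _).elim (e d) fun k => by
      rw [← mul_one (pq _ _ _), h.pq_mul_ne (ch_Bh d) (q := tq) tq_d (s := 0) (by simp [h.t]) (by simp_all), mul_zero]

theorem tau_EE (a b : ZMod 2) : ρ tau * EE ρ a b = EE ρ (a + b) a * ρ tau := by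
  have e := h.z_comm (N3_le w_N3)
  rw [EE, ← mul_assoc, semi_hf (h.rel tau_B0 z_B0 w_B0 tau_B0 (eq_mul_of_mul_inv_eq tau_conj_zQ)), mul_assoc,
    semi_hf (h.rel tau_B0 w_B0 (mul_mem z_B0 w_B0) tau_B0 (eq_mul_of_mul_inv_eq tau_conj_w)), h.mul z_B0 w_B0, ← mul_assoc, EE]
  congr 1
  simp only [hf, smul_mul_smul_comm, mul_add, add_mul, one_mul, mul_one, sk_add, ← mul_assoc, e, mul_assoc (ρ zA), h.ww,
    mul_right_comm _ (sk K b), sk_mul_self]
  abel_nf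
theorem EE_add (a : ZMod 2) : EE ρ a 0 + EE ρ a 1 = hf (ρ zA) a := by rw [EE, EE, ← mul_add, hf_add h.two, mul_one]
theorem EE_hf (a b : ZMod 2) : EE ρ a b * hf (ρ zA) a = EE ρ a b := mul_hf_of h.two (by
  rw [EE, mul_assoc, ← semi_hf (h.z_comm (N3_le w_N3)).symm, ← mul_assoc, ← semi_hf rfl, mul_hf h.zz, smul_mul_assoc])
theorem EE_PQ (x : Q) : EE ρ 0 (pr Om x.c) * PQ ρ x = PQ ρ x := by rw [EE, mul_assoc, hf_mul_of h.two (h.w_PQ x), h.hf_PQ]
theorem EE_PQ' (x : Q) : EE ρ 0 (pr Om x.c + 1) * PQ ρ x = 0 := by rw [EE, mul_assoc, hf_mul_ne (h.w_PQ x), mul_zero]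
theorem hf_ne : hf (ρ zA) 1 ≠ 0 := fun e => h.ne (by
  simpa [hf, h.two, add_neg_eq_zero, -smul_add, eq_comm (b := ρ zA)] using e)

variable [FiniteDimensional K N]

theorem rk_conj (hg : g ∈ B0) {P P' : End K N} (e : ρ g * P = P' * ρ g) : rk P' = rk P :=
  (rk_congr e (h.mul_inv hg)).antisymm (rk_congr (T := ρ g⁻¹) (by
    rw [← mul_one (_ * P'), ← h.mul_inv hg, ← mul_assoc, mul_assoc _ P', ← e, ← mul_assoc, h.inv_mul hg, one_mul]) (h.inv_mul hg))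

theorem card_PQ (t : Set Q) {P : End K N} {r : ℕ} (h1 : ∀ x ∈ t, P * PQ ρ x = PQ ρ x) (h2 : ∀ x ∈ t, r ≤ rk (PQ ρ x)) :
    t.ncard * r ≤ 4 * rk P := by
  rw [Set.ncard_eq_toFinset_card]
  refine card_mul_le _ (fun x _ => h.PQ_idem x) (fun x => {x, zQ * x, x * tq, zQ * (x * tq)}) (fun _ => card_le_four)
    (fun x _ y _ => ?_) (by simpa) (by simpa)
  by_cases e : Sim x y
  exacts [.inr ⟨PQ_sim ρ e, e.symm.cases⟩, .inl (h.PQ_orth e)]

theorem PQ_bad (h1 : ¬ Sim x 1) (h2 : ¬ Wt x) : PQ ρ x = 0 := by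
  have a := h.card_PQ {y | ∃ c ∈ C0, c * qV x * c⁻¹ = qV y} (P := 1) (r := rk (PQ ρ x)) (fun _ _ => one_mul _)
    fun y ⟨c, hc, e⟩ => (h.rk_conj (C0_le hc) (h.PQ_conj hc e)).ge
  have b := Nat.mul_le_mul_right (rk (PQ ρ x)) (le_ncard_orbit h1 h2)
  have := h.dim
  rw [rk_one] at a
  exact eq_zero_of_rk (by omega)

theorem rk_wt (hx : Wt x) : rk (PQ ρ x) = rk (PQ ρ (eW 0 pI)) :=
  let ⟨_, hc, e⟩ := wt_W.conj hx; h.rk_conj (C0_le hc) (h.PQ_conj hc e)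
theorem rk_ED (hd : pr d (cs d0) = 0) : rk (ED ρ d) = rk (ED ρ 0) := by
  have m : qe 0 d 0 ∈ Q0 := mem_Q0.2 hd
  simpa using h.rk_conj (Q0_B0 m) (h.ED_conj m 0)
theorem rk_wt_ne : rk (PQ ρ (eW 0 pI)) ≠ 0 := fun e => by
  have b : EE ρ 0 1 = 0 := (h.EE_hf 0 1).symm.trans (h.PQ_complete fun x => (z2_cases (pr Om x.c)).elim
    (fun k => by simpa [k] using h.EE_PQ' x) fun k => by
      by_cases l : Wt x
      · rw [eq_zero_of_rk ((h.rk_wt l).trans e), mul_zero]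
      · rw [h.PQ_bad (fun s => zero_ne_one ((u0_piQ.1 s.u0).2.symm.trans k)) l, mul_zero])
  have c : EE ρ 1 0 = 0 := h.zero_of_mul tau_B0 (by simpa [b] using (h.tau_EE 0 1).symm)
  have d : EE ρ 1 1 = 0 := h.zero_of_mul tau_B0 (by simpa [c] using (h.tau_EE 1 0).symm)
  exact h.hf_ne (by rw [← h.EE_add, c, d, add_zero])

theorem small : (∀ x, Wt x → rk (PQ ρ x) = 1) ∧ rk (ED ρ 0) = 1 ∧ rk (PQ ρ 1) + 4348 ≤ finrank K N := by
  have i0 := hf_mul_of h.two (mul_hf h.zz 0)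
  have p := h.PQ_idem 1
  have p1 := h.hf_PQ 1
  have p2 : PQ ρ 1 * hf (ρ zA) 0 = PQ ρ 1 := mul_hf_of h.two (by simpa [cmQ] using h.PQ_q (N3_le z_N3) 1)
  have b1 := rk_hf h.two h.zz
  have b2 := rk_add (f := hf (ρ zA) 0 - PQ ρ 1) p (by rw [mul_sub, sub_mul, sub_mul, i0, p, p1, p2, sub_self, sub_zero])
    (by rw [mul_sub, p, p2, sub_self]) (by rw [sub_mul, p, p1, sub_self])
  have b3 := h.card_PQ {x | Wt x} (P := hf (ρ zA) 0 - PQ ρ 1) (fun x hx => by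
    rw [sub_mul, h.hf_PQ, h.PQ_orth fun s => hx.not_sim s.symm, sub_zero]) fun x hx => (h.rk_wt hx).ge
  have b4 := card_mul_le (univ.filter fun d : Cd => pr d (cs d0) = 0) (fun d _ => h.ED_idem d) (fun d => {d}) (k := 1)
    (fun _ => (card_singleton _).le) (fun d _ e _ => (eq_or_ne d e).elim (fun k => .inr ⟨congrArg _ k, mem_singleton.2 k.symm⟩)
      fun k => .inl (h.ED_orth k)) (fun d _ => h.hf_ED d) fun d hd => (h.rk_ED (mem_filter.1 hd).2).ge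
  have b5 := Nat.mul_le_mul_right (rk (PQ ρ (eW 0 pI))) ncard_wt
  have b6 := Nat.mul_le_mul_right (rk (ED ρ 0)) card_even
  have a3 := h.rk_wt_ne
  have a4 : rk (ED ρ 0) ≠ 0 := fun e => h.hf_ne ((one_mul _).symm.trans (h.ED_complete fun d hd => by
    rw [eq_zero_of_rk ((h.rk_ED hd).trans e), mul_zero]))
  have := h.dim
  rw [add_sub_cancel] at b2
  exact ⟨fun x hx => by rw [h.rk_wt hx]; omega, by omega, by omega⟩

omit [FiniteDimensional K N] in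
theorem PQ_of (h0 : PQ ρ (x * aOm) = 0) (e : ∀ q ∈ X0, ρ (qV q) * T = sk K (cmQ q x) • T) : PQ ρ x * T = T := by
  obtain ⟨b, b1, b2, b3⟩ : ∃ b : Q, b.d = 0 ∧ pr Om b.c = 1 ∧ b * b = 1 := ⟨qe 0 0 (e1 pI), rfl, by simp, by simp [mul_self_eq, zp_zero]⟩
  have mb : qV b ∈ B0 := Q0_B0 (mem_Q0.2 (by simp [b1]))
  have k : ∀ {y S}, (∀ q ∈ X0, ρ (qV q) * S = sk K (cmQ q y) • S) → ρ (qV b) * S = sk K (cmQ b y) • S → PQ ρ y * S = S :=
    fun {y S} a c => h.pq_mul_of fun q hq => (z2_cases (pr Om q.c)).elim (fun l => a q (mem_X0.2 ⟨mem_Q0.1 hq, l⟩)) fun l => by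
      have m : q * b⁻¹ ∈ X0 := mem_X0.2 ⟨by simpa [b1] using mem_Q0.1 hq, by simp [b2, l]⟩
      rw [← inv_mul_cancel_right q b, map_mul, h.mul (X0_B0 m) mb, mul_assoc, c, mul_smul_comm, a _ m, smul_smul,
        show cmQ _ y = _ from ch_cmQ y _ b, sk_add, mul_comm]
  have bb : ρ (qV b) * ρ (qV b) = 1 := by rw [← h.mul mb mb, ← map_mul, b3, map_one, h.one]
  have := k (y := x * aOm) (S := T - sk K (cmQ b x) • (ρ (qV b) * T)) (fun q hq => by
    obtain ⟨r, r1, r2, r3⟩ : ∃ r ∈ X0, q * b = b * r ∧ cmQ r x = cmQ q x := ⟨b⁻¹ * q * b⁻¹⁻¹,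
      by rw [conj_eq, mem_X0, mul_d, mul_c, zp_d, zp_c, zero_add, zero_add]; exact mem_X0.1 hq, by group, by rw [conj_eq]; simp [cmQ]⟩
    have a : ρ (qV q) * ρ (qV b) = ρ (qV b) * ρ (qV r) := h.rel (X0_B0 hq) mb mb (X0_B0 r1) (by rw [← map_mul, r2, map_mul])
    rw [mul_sub, mul_smul_comm, ← mul_assoc, a, mul_assoc, e _ r1, e _ hq, cmQ_mul, cm_om, (mem_X0.1 hq).2, r3, add_zero,
      mul_smul_comm, smul_sub, smul_comm]) (by
    rw [mul_sub, mul_smul_comm, ← mul_assoc, bb, cmQ_mul, cm_om, sk_add, smul_sub, smul_smul, mul_right_comm, sk_mul_self, b2]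
    simp [sub_eq_add_neg, add_comm])
  rw [h0, zero_mul, eq_comm, sub_eq_zero] at this
  exact k e ((congrArg _ this).trans (by rw [mul_smul_comm, ← mul_assoc, bb, one_mul]))

theorem PQ_om (h1 : Short x) (h2 : ¬ U0 (piQ x)) : PQ ρ (x * aOm) = 0 :=
  h.PQ_bad (fun s => h2 (by simpa [mul_assoc, mul_self_eq, Xh, zp_zero] using Xh.mul_mem s.u0 u0_om)) fun w => h2 (PT.u0 (pt_of_om h1 w.1))

end RepB

end Cfsg.Lib.Bab
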