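import Cfsg.Agent.Lib.Bab.Iso
import Cfsg.Agent.Lib.M3.W2
import Cfsg.Agent.S0465

/-! # The Monster preserves the rational vectors of the Griess algebra; an integral form of the 4371-dimensional representation -/

set_option autoImplicit false

namespace Cfsg.Lib.Bab

open Module Finset Griess Subgroup Cfsg.Lib.Mon Cfsg.Lib.M3 Matrix MulAction
open Leech hiding vW

/-- the rational numbers -/
noncomputable abbrev QR : Subfield ℝ := (algebraMap ℚ ℝ).fieldRange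
/-- rational matrices -/
def RM {m n : Type*} (M : Matrix m n ℝ) : Prop := ∀ i j, M i j ∈ QR
/-- rational vectors -/
def Rt (v : E) : Prop := RM v.1 ∧ (∀ x, v.2.1 x ∈ QR) ∧ RM v.2.2
/-- rational coordinates -/
def RC (c : Co) : Prop := (∀ i, c.a i ∈ QR) ∧ (∀ i j, c.x i j ∈ QR) ∧ (∀ i j, c.y i j ∈ QR) ∧ (∀ i j, c.w i j ∈ QR) ∧
  (∀ O δ, c.t O δ ∈ QR) ∧ (∀ d i, c.u1 d i ∈ QR) ∧ (∀ d i, c.u2 d i ∈ QR) ∧ ∀ d i, c.u3 d i ∈ QR

theorem RM.mul {l m n : Type*} [Fintype m] {A : Matrix l m ℝ} {B : Matrix m n ℝ} (h : RM A) (h' : RM B) : RM (A * B) :=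
  fun i j => sum_mem fun k _ => mul_mem (h i k) (h' k j)
theorem RM.tr {m n : Type*} {A : Matrix m n ℝ} (h : RM A) : RM Aᵀ := fun i j => h j i
theorem ite_mem' {p : Prop} [Decidable p] {a b : ℝ} (h : a ∈ QR) (h' : b ∈ QR) : ite p a b ∈ QR := by split_ifs <;> assumption
theorem sg_mem (a : ZMod 2) : sg a ∈ QR := ite_mem' (one_mem _) (neg_mem (one_mem _))
theorem rm_rho (x : Griess.Q) : RM (rhoM x) := fun _ _ => ite_mem' (sg_mem _) (zero_mem _)
theorem rm_cM (c : Co0) : RM (cM c) := fun _ _ => div_mem (intCast_mem _ _) (ofNat_mem _ 8)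

theorem rm_sq (L : Lift) : RM (L.g * L.g) := by
  have o := mul_eq_one_comm.1 L.g_orth
  obtain ⟨i, j, h⟩ : ∃ i j, (∑ x, lr (rhoM (L.α x)) (rhoM x⁻¹)) (single i j 1) ≠ 0 := by
    by_contra! h
    have a : (∑ x, lr (rhoM (L.α x)) (rhoM x⁻¹)) L.g = 0 := by
      rw [matrix_eq_sum_single L.g]
      simp only [map_sum, fun i j => show single i j (L.g i j) = L.g i j • single i j (1 : ℝ) by simp, map_smul, h, smul_zero,
        sum_const_zero]
    simp only [LinearMap.sum_apply, lr_apply, ← L.g_rho, Matrix.mul_assoc, ← map_mul, mul_inv_cancel, map_one, Matrix.mul_one,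
      sum_const, ← Nat.cast_smul_eq_nsmul ℝ, smul_eq_zero, Nat.cast_eq_zero, card_univ, Fintype.card_ne_zero, false_or] at a
    simp [a] at o
  have h0 : RM ((∑ x, lr (rhoM (L.α x)) (rhoM x⁻¹)) (single i j 1)) := fun a b => by
    rw [LinearMap.sum_apply, Matrix.sum_apply]
    exact sum_mem fun x _ => ((rm_rho _).mul fun _ _ => ite_mem' (one_mem _) (zero_mem _)).mul (rm_rho _) a b
  have h1 : ∀ x, (∑ x, lr (rhoM (L.α x)) (rhoM x⁻¹)) (single i j 1) * rhoM x =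
      rhoM (L.α x) * (∑ x, lr (rhoM (L.α x)) (rhoM x⁻¹)) (single i j 1) := fun x => by
    simp only [LinearMap.sum_apply, lr_apply, Matrix.sum_mul, Matrix.mul_sum]
    rw [← Equiv.sum_comp (Equiv.mulLeft x)]
    refine sum_congr rfl fun y _ => ?_
    rw [Matrix.mul_assoc _ _ (rhoM x), ← map_mul]
    simp [Matrix.mul_assoc]
  generalize (∑ x, lr (rhoM (L.α x)) (rhoM x⁻¹)) (single i j 1) = G at *
  have h2 := congrArg (L.g * ·) (scalar_of_comm (M := L.gᵀ * G) fun x => by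
    rw [Matrix.mul_assoc, h1, ← Matrix.mul_assoc, ← Matrix.mul_assoc, ← Matrix.mul_one (L.gᵀ * _), ← o, ← Matrix.mul_assoc,
      Matrix.mul_assoc _ _ L.g, ← L.g_rho, ← Matrix.mul_assoc, L.g_orth, Matrix.one_mul])
  generalize (L.gᵀ * G) 0 0 = t at h2
  simp only [← Matrix.mul_assoc, o, Matrix.one_mul, Matrix.mul_smul, Matrix.mul_one] at h2
  subst h2
  have a := h0.tr.mul h0 0 0
  intro k l
  have b := div_mem (h0.mul h0 k l) a
  simpa [L.g_orth, mul_div_assoc, ← mul_assoc, left_ne_zero_of_smul h] using b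

theorem rc_co {v : E} (h : Rt v) : RC (co v) :=
  have t : (2 : ℝ) ∈ QR := ofNat_mem _ 2
  ⟨fun _ => h.1 _ _, fun _ _ => ite_mem' (zero_mem _) (h.1 _ _), fun _ _ => div_mem (add_mem (h.2.1 _) (h.2.1 _)) t,
    fun _ _ => div_mem (sub_mem (h.2.1 _) (h.2.1 _)) t, fun _ _ => ite_mem' (h.2.1 _) (zero_mem _), fun _ _ => h.2.1 _,
    fun _ _ => div_mem (mul_mem (sg_mem _) (add_mem (h.2.2 _ _) (h.2.2 _ _))) t,
    fun _ _ => div_mem (mul_mem (sg_mem _) (sub_mem (h.2.2 _ _) (h.2.2 _ _))) t⟩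
theorem rt_of_rc {v : E} (hv : v ∈ V) (h : RC (co v)) : Rt v := by
  obtain ⟨a, x, y, w, t, u1, u2, u3⟩ := h
  refine ⟨fun i j => A_eq v i j ▸ add_mem (ite_mem' (a i) (zero_mem _)) (x i j), fun q => ?_,
    fun d i => Y_eq v d i ▸ add_mem (mul_mem (sg_mem _) (u2 d i)) (mul_mem (sg_mem _) (u3 d i))⟩
  by_cases hx : Short q
  · obtain ⟨s, p, rfl⟩ := hx.exists_eS
    rw [V_zp hv]
    refine mul_mem (sg_mem _) ?_
    rcases p with p | p | p
    · exact XP_eq v _ _ _ ▸ add_mem (y _ _) (mul_mem (sg_mem _) (w _ _))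
    · simpa only [co, if_pos p.2, eS] using t p.1.1 p.1.2
    · exact u1 p.1 p.2
  · exact hv.2.2 q hx ▸ zero_mem _
theorem rt_tau {v : V} (h : Rt v) : Rt (tau • v : V) := rt_of_rc (tau • v).2 (by
  obtain ⟨a, x, y, w, t, u1, u2, u3⟩ := rc_co h
  rw [co_tau_smul]
  exact ⟨a, w, x, y, fun _ _ => ite_mem' (mul_mem (div_mem (one_mem _) (ofNat_mem _ 16)) (sum_mem fun _ _ =>
    mul_mem (sg_mem _) (mul_mem (sg_mem _) (t _ _)))) (zero_mem _), u3, u1, u2⟩)

theorem rt_smul {g : Aut} (hg : g ∈ M1) {v : V} (h : Rt v) : Rt (g • v : V) := by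
  let R : Subgroup Aut :=
    { carrier := {g | (∀ v : V, Rt v → Rt (g • v : V)) ∧ ∀ v : V, Rt v → Rt (g⁻¹ • v : V)}
      one_mem' := by simp
      mul_mem' := fun a b => ⟨fun v h => by rw [mul_smul]; exact a.1 _ (b.1 v h), fun v h => by
        rw [_root_.mul_inv_rev, mul_smul]; exact b.2 _ (a.2 v h)⟩
      inv_mem' := fun a => ⟨a.2, by simpa using a.1⟩ }
  have sq : ∀ c ∈ CZ, ∀ v : V, Rt v → Rt ((c * c) • v : V) := fun c hc v h => by
    obtain ⟨L, k, o, rfl⟩ := exists_lift_eq hc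
    have a : RM L.h := o.1 ▸ rm_cM k
    refine ⟨(a.mul ((a.mul h.1).mul a.tr)).mul a.tr, fun _ => h.2.1 _, ?_⟩
    change RM (L.g * (L.g * _ * _) * _)
    rw [← Matrix.mul_assoc, ← Matrix.mul_assoc]
    exact (((rm_sq L).mul h.2.2).mul a.tr).mul a.tr
  have q : ∀ q, ∀ v : V, Rt v → Rt (qV q • v : V) := fun q v h => by
    rw [aut_smul_def, coe_qV]; exact ⟨h.1, fun _ => h.2.1 _, (rm_rho q).mul h.2.2⟩
  have s : ∀ c : CZ, c * c ∈ R.subgroupOf CZ := fun c => ⟨sq c c.2, by simpa using sq _ (inv_mem c.2)⟩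
  have := simple_Co1
  have c : R.subgroupOf CZ = ⊤ := by
    rw [← comap_map_eq_self (f := rhoC) (H := R.subgroupOf CZ) fun c hc => by
      obtain ⟨x, e⟩ := rhoC_eq_one.1 hc
      exact mem_subgroupOf.2 (e ▸ ⟨q x, map_inv qV x ▸ q _⟩), eq_top_iff.2 (le_trans ?_ (map_mono (K := _root_.commutator CZ) ?_)), comap_top]
    · rw [_root_.commutator_def, map_commutator, map_top_of_surjective _ rhoC_surj]
      exact (perfect_of_simple (by rw [card_Co1]; norm_num)).ge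
    · exact commutator_le.2 fun a _ b _ => by
        simpa [mul_assoc, commutatorElement_def] using mul_mem (mul_mem (s a) (s (a⁻¹ * b))) (inv_mem (s b))
  refine ((closure_le R).2 ?_ hg).1 v h
  rintro g (hg | rfl)
  exacts [mem_subgroupOf.1 (c.ge (mem_top (⟨g, hg⟩ : CZ))), ⟨fun _ => rt_tau, fun v h => by
    rw [← tau_mul_tau, mul_smul]; exact rt_tau (rt_tau h)⟩]

theorem rt_ax {x : Griess.Q} (h : Short x) : Rt (ax x) := by
  obtain ⟨r, a, b⟩ := id h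
  rw [coe_ax h]
  refine ⟨fun i j => show Pm x i j ∈ QR from Pm_eq a b i j ▸ div_mem (mul_mem (intCast_mem _ _) (intCast_mem _ _)) (ofNat_mem _ 8),
    fun y => ?_,
    fun _ _ => zero_mem _⟩
  simp only [dX, Pi.smul_apply, Pi.sub_apply, Pi.single_apply]
  exact mul_mem (neg_mem (ofNat_mem _ 4)) (sub_mem (ite_mem' (one_mem _) (zero_mem _)) (ite_mem' (one_mem _) (zero_mem _)))

theorem Rt.indep {ι : Type} {b : ι → V} (h : ∀ k, Rt (b k)) (h1 : LinearIndependent ℤ b) : LinearIndependent ℝ b := by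
  let cd : V →ₗ[ℝ] (Pt × Pt) ⊕ Griess.Q ⊕ (Cd × Pt) → ℝ :=
    { toFun := fun v => Sum.elim (fun p => v.1.1 p.1 p.2) (Sum.elim v.1.2.1 fun p => v.1.2.2 p.1 p.2)
      map_add' := fun _ _ => funext (by rintro (_ | _ | _) <;> rfl)
      map_smul' := fun _ _ => funext (by rintro (_ | _ | _) <;> rfl) }
  have a : ∀ k i, ∃ u : ℚ, algebraMap ℚ ℝ u = cd (b k) i := by
    rintro k (p | p | p)
    exacts [(h k).1 _ _, (h k).2.1 _, (h k).2.2 _ _]
  choose u hu using a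
  have e : cd ∘ b = fun k => algebraMap ℚ ℝ ∘ u k := funext fun k => funext fun i => (hu k i).symm
  have c := h1.map' (cd.restrictScalars ℤ) (LinearMap.ker_eq_bot.2 fun v w e => Subtype.ext (Prod.ext
    (Matrix.ext fun i j => congrFun e (.inl (i, j))) (Prod.ext (funext fun x => congrFun e (.inr (.inl x)))
      (Matrix.ext fun i j => congrFun e (.inr (.inr (i, j)))))))
  refine .of_comp cd (e ▸ linearIndependent_algebraMap_comp_iff.2 (.of_comp (Pi.algebraMap _ ℚ ℝ) ?_))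
  exact (LinearIndependent.iff_fractionRing ℤ ℚ).1 (e ▸ c :)

theorem exists_int_rep {G U : Type} [Group G] [Finite G] [AddCommGroup U] [Module ℝ U] (ρ : Representation ℝ G U) (w : U) {n : ℕ}
    (h : ∀ m (b : Fin m → U), (∀ k, b k ∈ Submodule.span ℤ (Set.range (ρ · w))) → LinearIndependent ℤ b → m ≤ n) :
    ∃ m ≤ n, ∃ M : G →* Matrix (Fin m) (Fin m) ℤ, ∀ g, M g = 1 ↔ ∀ k, ρ g (ρ k w) = ρ k w := by
  have := IsTorsionFree.trans_faithfulSMul ℤ ℝ U
  let L := Submodule.span ℤ (Set.range (ρ · w))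
  have : Module.Finite ℤ L := .span_of_finite ℤ (Set.finite_range _)
  let b := finBasis ℤ L
  have m : ∀ g, ∀ v ∈ L, (ρ g).restrictScalars ℤ v ∈ L := fun g => show L ≤ L.comap _ from Submodule.span_le.2 (by
    rintro _ ⟨k, rfl⟩; exact Submodule.subset_span ⟨g * k, by simp⟩)
  let σ : G →* End ℤ L := ⟨⟨fun g => ((ρ g).restrictScalars ℤ).restrict (m g), by ext; simp⟩, fun _ _ => by ext; simp⟩
  refine ⟨_, h _ _ (fun k => (b k).2) (b.linearIndependent.map' L.subtype L.ker_subtype),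
    (LinearMap.toMatrixAlgEquiv b).toMulEquiv.toMonoidHom.comp σ, fun g => (map_eq_one_iff _ (LinearMap.toMatrixAlgEquiv b).injective).trans
      ⟨fun e k => congr(($e ⟨_, Submodule.subset_span ⟨k, rfl⟩⟩).1), fun e => LinearMap.ext fun v => Subtype.ext ?_⟩⟩
  exact LinearMap.eqOn_span (f := (ρ g).restrictScalars ℤ) (g := .id) (by rintro _ ⟨k, rfl⟩; exact e k) v.2

theorem t_B0 : tA ∈ B0 := C0_le (qV_C0.2 (by simp))

theorem lat_spec {x : Griess.Q} (h0 : Wt x) {v : V} (hv : v ∈ Submodule.span ℤ (Set.range fun g : B0 => g • (ax x - ax (tq * x)))) :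
    Rt v ∧ v ∈ Agent.S0465.W tq := by
  obtain ⟨h1, h2, h3⟩ := twoA_ax short_t h0.1 h0.four
  induction hv using Submodule.span_induction with
  | mem v hv =>
    obtain ⟨g, rfl⟩ := hv
    have a := rt_ax h0.1
    have b := rt_ax h1
    refine ⟨rt_smul g.2.1 ⟨fun _ _ => sub_mem (a.1 _ _) (b.1 _ _), fun _ => sub_mem (a.2.1 _) (b.2.1 _),
      fun _ _ => sub_mem (a.2.2 _ _) (b.2.2 _ _)⟩, End.mem_eigenspace_iff.2 ?_⟩
    change S _ ((g : Aut) • _) = _ • (g : Aut) • _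
    rw [← short_t.ax.mem_centralizer.1 g.2.2, ← smul_S, ← h2, map_sub, (short_t.ax.S_S_mu h3.fix h3.fix).1, neg_one_smul, ← smul_neg,
      neg_sub]
  | zero => exact ⟨⟨fun _ _ => zero_mem _, fun _ => zero_mem _, fun _ _ => zero_mem _⟩, zero_mem _⟩
  | add u v _ _ a b => exact ⟨⟨fun _ _ => add_mem (a.1.1 _ _) (b.1.1 _ _), fun _ => add_mem (a.1.2.1 _) (b.1.2.1 _),
      fun _ _ => add_mem (a.1.2.2 _ _) (b.1.2.2 _ _)⟩, add_mem a.2 b.2⟩
  | smul n v _ a => exact ⟨⟨fun _ _ => zsmul_mem (a.1.1 _ _) n, fun _ => zsmul_mem (a.1.2.1 _) n,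
      fun _ _ => zsmul_mem (a.1.2.2 _ _) n⟩, zsmul_mem a.2 n⟩

theorem w_smul_ne {x : Griess.Q} (h0 : Wt x) (h : pr Om x.c = 1) : wA • (ax x - ax (tq * x)) ≠ ax x - ax (tq * x) := fun c => by
  have h1 := (twoA_ax short_t h0.1 h0.four).1
  have h5 : wA * qV x * wA⁻¹ = qV (zQ * x) := by
    rw [qV_conj, show pr _ _ + _ = 1 from (Deg.cmQ_comm ..).trans ((cm_om _).trans h), map_mul]; rfl
  have d : piQ x ≠ piQ (tq * x) := fun e => short_t.piQ_ne (by simpa [piQ_mul] using e.symm)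
  rw [smul_sub, smul_ax_of_conj (qV_mem _) h5, smul_ax_of_conj (qV_mem _) (conj_mul (mem_C0.1 (N3_le w_N3)).2 h5), ← mul_assoc,
    ← zQ_comm, mul_assoc] at c
  have f := congr(($c).1.2.1 x)
  rw [AddSubgroupClass.coe_sub, AddSubgroupClass.coe_sub, coe_ax h0.1, coe_ax h1, coe_ax (r := zQ * x) ((short_zp_mul 1 _).2 h0.1),
    coe_ax (r := zQ * _) ((short_zp_mul 1 _).2 h1), dX_zQ, dX_zQ] at f
  simp only [Prod.snd_sub, Prod.fst_sub, Pi.sub_apply, Pi.smul_apply, Pi.neg_apply, dX_self, dX_eq_zero d] at f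
  norm_num at f

theorem card_le_fin {U : Type} [AddCommGroup U] [Module ℝ U] [FiniteDimensional ℝ U] {W : Submodule ℝ U} {m : ℕ} {b : Fin m → U}
    (h : ∀ k, b k ∈ W) (i : LinearIndependent ℝ b) : m ≤ finrank ℝ W := by
  have : LinearIndependent ℝ fun k => (⟨b k, h k⟩ : W) := .of_comp W.subtype i
  simpa using this.fintype_card_le_finrank

theorem exists_int : ∃ n ≤ 4371, ∃ M : B0 →* Matrix (Fin n) (Fin n) ℤ, M ⟨tA, t_B0⟩ = 1 ∧ M ⟨zA, z_B0⟩ ≠ 1 := by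
  have h1 := w_smul_ne wt_W (par_eW 0 pI)
  have h2 := @lat_spec _ wt_W
  generalize ax (eW 0 pI) - ax (tq * eW 0 pI) = w at *
  obtain ⟨n, hn, M, hM⟩ := exists_int_rep (.ofDistribMulAction ℝ B0 V) w (n := 4371) fun m b hb i =>
    (card_le_fin (fun k => (h2 (hb k)).2) (Rt.indep (fun k => (h2 (hb k)).1) i)).trans (Agent.S0465.finrank_W short_t)
  replace hM : ∀ g, M g = 1 ↔ ∀ k : B0, (g : Aut) • (k : Aut) • w = (k : Aut) • w := hM
  refine ⟨n, hn, M, (hM _).2 fun k => Agent.S0465.fix short_t (h2 (Submodule.subset_span ⟨k, rfl⟩)).2, fun e => h1 ?_⟩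
  have := (hM ⟨wA, w_B0⟩).1 (by
    rw [show (⟨wA, w_B0⟩ : B0) = ⟨tau, tau_B0⟩ * ⟨zA, z_B0⟩ * ⟨tau, tau_B0⟩⁻¹ from Subtype.ext tau_conj_zQ.symm, map_mul, map_mul,
      e, mul_one, ← map_mul, mul_inv_cancel, map_one]) 1
  rwa [Subgroup.coe_one, one_smul] at this

end Cfsg.Lib.Bab
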