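import Cfsg.Agent.Lib.Bab.Pq

/-! # Small representations of the Baby Monster: the fixed space of `O₂(C)` -/

set_option autoImplicit false

namespace Cfsg.Lib.Bab

open Module Finset LinearMap Griess Subgroup Cfsg.Lib.Mon Cfsg.Lib.Deg Cfsg.Lib.M3 Matrix
open Leech hiding vW

attribute [local irreducible] qV Griess.tau

variable {K N : Type*} [Field K] [AddCommGroup N] [Module K N]

/-- the twisted representation -/
def tw (ρ : Aut → End K N) (a : Aut) : Aut → End K N := fun g => ρ (a * g * a⁻¹)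
/-- weight spaces of `X0` -/
noncomputable def PX (ρ : Aut → End K N) (c : Cs) : End K N := pq ρ X0 fun q => pr q.d c
/-- the fixed space of `Xh` -/
noncomputable def FF (ρ : Aut → End K N) : End K N := pq ρ Xh fun _ => 0
/-- the coordinate lines -/
noncomputable def AM (ρ : Aut → End K N) (m : Pt) : End K N := PQ ρ 1 * PX (tw ρ tau) (du pI m)
/-- the fixed line of `O₂(N3)` -/
noncomputable def Pinf (ρ : Aut → End K N) : End K N := PQ ρ 1 * PQ (tw ρ tau) 1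
/-- trivial weights -/
def Zc (c : Cs) : Prop := c = 0 ∨ c = cs d0

variable {A : Subgroup Q} {β : Q → ZMod 2} {q x y : Q} {c c' : Cs} {a b g n s : Aut} {T L : End K N} {σ : M24} {δ : W} {m m' : Pt}

theorem tw_one (ρ : Aut → End K N) : tw ρ 1 = ρ := funext fun g => by simp [tw]
theorem tw_mul (ρ : Aut → End K N) (a b : Aut) : tw ρ (a * b) = tw (tw ρ a) b := funext fun g => by rw [tw, conj_mul_conj]; rfl
theorem tw_apply (ρ : Aut → End K N) (a g : Aut) : tw ρ a (a⁻¹ * g * a) = ρ g := by simp [tw, mul_assoc]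
theorem ch_X0 (c : Cs) : Ch X0 fun q => pr q.d c := ⟨fun _ h => N3_le h, fun _ _ _ _ => pr_add ..⟩
theorem Xh_le (h : q ∈ Xh) : q ∈ X0 := mem_X0.2 ⟨by rcases (u0_piQ.1 h).1 with e | e <;> simp [e], (u0_piQ.1 h).2⟩
theorem ch_zero (h : A ≤ X0) : Ch A fun _ => 0 := ⟨fun _ k => N3_le (h k), fun _ _ _ _ => (add_zero _).symm⟩
theorem ch_Xh : Ch Xh fun _ => 0 := ch_zero fun _ => Xh_le
theorem xq_X0 {d : Cd} (h : pr d (cs d0) = 0) (s : ZMod 2) : qe s d (th d) ∈ X0 := xq_N3 h s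
theorem N3_conj (hn : n ∈ N3) (q : Q) (hq : q ∈ X0) : ∃ y ∈ X0, n * qV q * n⁻¹ = qV y :=
  let ⟨y, _, e⟩ := C0_conj (N3_le hn) q (N3_le hq); ⟨y, show qV y ∈ N3 from e ▸ mul_mem (mul_mem hn hq) (inv_mem hn), e⟩
theorem Zc.pr (h : Zc c) (hq : q ∈ X0) : pr q.d c = 0 := by rcases h with rfl | rfl; exacts [map_zero _, (mem_X0.1 hq).1]
theorem PX_congr (ρ : Aut → End K N) (h : Zc (c + c')) : PX ρ c = PX ρ c' :=
  pq_congr ρ fun _ hq => z2_eq_iff.2 ((map_add ..).symm.trans (h.pr hq))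
theorem du_even (i j : Pt) : pr Om (du i j) = 0 := by simp
theorem u0_pr (h : U0 (piQ x)) (hc : pr Om c = 0) : pr x.d c = 0 := by rcases (u0_piQ.1 h).1 with e | e <;> simp [e, hc]
theorem exists_Xh (h : ¬ U0 (piQ x)) : ∃ q ∈ Xh, cmQ q x = 1 := by
  by_cases e : pr Om x.c = 1
  · exact ⟨aOm, u0_om, (cmQ_comm ..).trans ((cm_om x).trans e)⟩
  by_contra! k
  have l : ∀ i, (x.d : W) i = (x.d : W) none := fun i => z2_eq_iff.2 (by
    have := k (qe 0 0 (e1 i + e1 none)) (u0_piQ.2 ⟨.inl rfl, du_even _ _⟩)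
    rw [cmQ, qe_d, qe_c, pr_zero, zero_add, pr_cs, dotProduct_add, dot_e1, dot_e1] at this
    exact (z2_cases _).resolve_right this)
  exact h (u0_piQ.2 ⟨(z2_cases ((x.d : W) none)).imp (fun e => Subtype.ext (funext fun i => (l i).trans e))
    fun e => Subtype.ext (funext fun i => (l i).trans e), (z2_cases _).resolve_right e⟩)
theorem tau_Xh (q : Q) (hq : q ∈ Xh) : ∃ y ∈ Xh, tau * qV q * tau⁻¹ = qV y := by
  obtain ⟨s, r, δ, h, rfl⟩ := u0_qe.1 hq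
  exact ⟨_, u0_qe.2 ⟨_, _, _, h, rfl⟩, tau_u0 h s r⟩
theorem inv_tau (g : Aut) : tau⁻¹ * g * tau⁻¹⁻¹ = tau * (tau * g * tau⁻¹) * tau⁻¹ := by rw [← conj_mul_conj, tau_mul_tau]
theorem tau_inv_B0 : tau⁻¹ ∈ B0 := inv_mem tau_B0
theorem bI_B0 : bI ∈ B0 := C0_le (bq_C0 _)
theorem exists_even (h : pr Om c = 0) : ∃ δ, δ ⬝ᵥ 1 = 0 ∧ c = cs δ :=
  let ⟨δ, e⟩ := cs_surj c; ⟨δ, by rw [← e] at h; exact (dotProduct_comm ..).trans h, e.symm⟩
theorem xyz_dec (hq : q ∈ X0) : ∃ r ∈ X0, ∃ r' ∈ X0, r.d = q.d ∧ r'.d = q.d ∧ tau⁻¹ * qV q * tau⁻¹⁻¹ = tau * qV r * tau⁻¹ * qV r' := by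
  obtain ⟨s, d, γ, h, e⟩ := exists_xq_bq (show qV q ∈ N3 from hq).1
  obtain rfl : q = qe s d (th d) * qe 0 0 γ := qV_injective (e.trans (map_mul ..).symm)
  have m := inv_mem (xq_X0 (d := d) (by simpa using (mem_X0.1 hq).1) s)
  refine ⟨_, m, _, mul_mem m (Xh_le (q := qe 0 0 γ) (u0_qe.2 ⟨0, 0, γ, h, by rw [zero_smul]⟩)), by simp, rfl, ?_⟩
  rw [inv_tau, e, ← _root_.conj_mul (a := xq s d), tau_conj_bq h, ← yq, ← _root_.conj_mul (a := yq s d), tau_conj_bq h, eq_inv_of_mul_eq_one_right (xyz s d),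
    map_mul, map_inv, ← conj_inv, ← xq, ← yq, ← bq, _root_.mul_inv_rev, mul_assoc]
theorem tri {a b c : Pt} (ha : a ≠ pJ) (hb : b ≠ pJ) (hc : c ≠ pJ) (h : Zc (du pI a + du pI b + du pI c)) : a = pI ∨ b = pI ∨ c = pI := by
  by_contra! k
  rcases h with h | h
  · simpa [e1_apply, k.1.symm, k.2.1.symm, k.2.2.symm] using congrFun (six (cs_eq_zero.1 h)) pI
  · have : e1 pJ + e1 a + (e1 b + e1 c) + (e1 pI + e1 pI) ∈ golayCode := by
      convert cs_eq_iff.1 h using 1; ext i; simp only [Pi.add_apply, d0]; grind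
    simpa [e1_apply, ha.symm, hb.symm, hc.symm] using congrFun (six this) pJ
theorem Zc.add (h : Zc c) (h' : Zc c') : Zc (c + c') := by rcases h with rfl | rfl <;> rcases h' with rfl | rfl <;> simp [Zc]
theorem not_zc (h : m ≠ pJ) (h' : m' ≠ pJ) (e : m ≠ m') : ¬ Zc (du pI m + du pI m') := fun k => by
  have : du pI m + du pI m' = du m m' := by rw [← cs_add, add_add_add_comm, w_add_self, zero_add]
  rcases this ▸ k with k | k
  exacts [du_ne e k, (eq_of_du hIJ e k).elim (h' ·.2) (h ·.1)]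

/-- powers of `τ` -/
def Tp (a : Aut) : Prop := a ∈ B0 ∧ Dp a 1 ∧ ∀ n ∈ N3, a⁻¹ * n * a ∈ N3
theorem tp_tau : Tp tau := ⟨tau_B0, dp_tau, fun _ => tau_inv_N3⟩
theorem tp_inv : Tp tau⁻¹ := ⟨tau_inv_B0, by simpa using dp_tau.inv, fun _ h => by simpa using tau_N3 h⟩

namespace RepB

variable {ρ ρ' : Aut → End K N} (h : RepB ρ)
include h

theorem cancel (hg : g ∈ B0) (e : T * ρ g = L * ρ g) : T = L := sub_eq_zero.1 (h.zero_of_mul hg (by rw [sub_mul, e, sub_self]))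
theorem tw_rel (ha : a ∈ B0) (hg : g ∈ B0) : ρ a * ρ g = tw ρ a g * ρ a :=
  h.rel ha hg (mul_mem (mul_mem ha hg) (inv_mem ha)) ha (inv_mul_cancel_right ..).symm
theorem tw (ha : a ∈ B0) : RepB (tw ρ a) where
  mul hg hk := by
    rw [Bab.tw, ← _root_.conj_mul]; exact h.mul (mul_mem (mul_mem ha hg) (inv_mem ha)) (mul_mem (mul_mem ha hk) (inv_mem ha))
  one := by rw [Bab.tw, mul_one, mul_inv_cancel, h.one]
  t := by rw [Bab.tw, (mem_B0.1 ha).2, h.t]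
  two := h.two
  ne e := h.ne (sub_eq_zero.1 (h.zero_of_mul' ha (by rw [mul_sub, h.tw_rel ha z_B0, e, mul_one, one_mul, sub_self])))
  dim := h.dim
theorem tw_pq (ha : a ∈ B0) (c : Ch A β) : ρ a * pq ρ A β = pq (Bab.tw ρ a) A β * ρ a :=
  comm_pq fun q hq => h.tw_rel ha (C0_le (c.le q hq))
theorem tw_pq' (ha : a ∈ B0) (hb : b ∈ B0) (c : Ch A β) : ρ a * pq (Bab.tw ρ b) A β = pq (Bab.tw ρ (a * b)) A β * ρ a :=
  comm_pq fun q hq => (h.tw_rel ha (mul_mem (mul_mem hb (C0_le (c.le q hq))) (inv_mem hb))).trans (by rw [tw_mul]; rfl)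
theorem q_PX (hq : q ∈ X0) (c : Cs) : ρ (qV q) * PX ρ c = sk K (pr q.d c) • PX ρ c := h.q_pq (ch_X0 c) hq
theorem PX_idem (c : Cs) : PX ρ c * PX ρ c = PX ρ c := h.idem (ch_X0 c)
theorem PX_orth (e : ¬ Zc (c + c')) : PX ρ c * PX ρ c' = 0 := by
  obtain ⟨d, hd⟩ := not_forall.1 (mt zero_or e)
  obtain ⟨d1, d2⟩ := Classical.not_imp.1 hd
  exact h.orth (ch_X0 c) (ch_X0 c') (xq_X0 d1 0) (xq_X0 d1 0) fun k => d2 ((map_add ..).trans (z2_eq_iff.1 k))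
theorem PX_semi (hn : n ∈ N3) (e : Dp n σ) (hδ : δ ⬝ᵥ 1 = 0) : ρ n * PX ρ (cs δ) = PX ρ (cs (sW σ δ)) * ρ n :=
  h.pq_conj (C0_le (N3_le hn)) (ch_X0 _) (ch_X0 _) (N3_conj hn) (N3_conj (inv_mem hn)) fun _ ha _ k =>
    pr_conj hn.1 e k (mem_X0.1 ha).2 hδ
theorem PX_tw_q (hq : q ∈ Q0) (c : Cs) : PX (Bab.tw ρ (qV q)) c = PX ρ c := by
  have k : ∀ q, ∀ a ∈ X0, ∃ b ∈ X0, qV q * qV a * (qV q)⁻¹ = qV b := fun q a ha =>
    ⟨zp _ * a, mem_X0.2 (by simpa using mem_X0.1 ha), by rw [qV_conj, ← map_mul]⟩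
  refine h.cancel (Q0_B0 hq) ((h.tw_pq (Q0_B0 hq) (ch_X0 c)).symm.trans (h.pq_conj (Q0_B0 hq) (ch_X0 _) (ch_X0 _) (k q)
    (map_inv qV q ▸ k q⁻¹) fun a ha b e => ?_))
  rw [qV_conj, ← map_mul] at e
  simp [← qV_injective e]
theorem PY_semi (ha : Tp a) (hn : n ∈ N3) (e : Dp n σ) (hδ : δ ⬝ᵥ 1 = 0) :
    ρ n * PX (Bab.tw ρ a) (cs δ) = PX (Bab.tw ρ a) (cs (sW σ δ)) * ρ n :=
  tw_apply ρ a n ▸ (h.tw ha.1).PX_semi (ha.2.2 n hn) (by simpa using (ha.2.1.inv.mul e).mul ha.2.1) hδ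
theorem PY_comm (ha : Tp a) (hn : n ∈ N3) (e : Dp n 1) (hc : pr Om c = 0) : ρ n * PX (Bab.tw ρ a) c = PX (Bab.tw ρ a) c * ρ n := by
  obtain ⟨δ, k, rfl⟩ := exists_even hc
  rw [h.PY_semi ha hn e k, show sW 1 δ = δ from rfl]
theorem PX_PY (ha : Tp a) (c : Cs) (hc : pr Om c' = 0) : PX (Bab.tw ρ a) c' * PX ρ c = PX ρ c * PX (Bab.tw ρ a) c' :=
  comm_pq fun q hq => (h.PY_comm ha hq (ind_qV q).dp hc).symm
theorem PZ_mul (c : Cs) (hc : pr Om c' = 0) :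
    PX (Bab.tw ρ tau⁻¹) (c + c') * (PX ρ c * PX (Bab.tw ρ tau) c') = PX ρ c * PX (Bab.tw ρ tau) c' :=
  (h.tw tau_inv_B0).pq_mul_of fun q hq => by
    obtain ⟨r, m, r', m', e, e', k⟩ := xyz_dec hq
    have a := (h.tw tau_B0).q_PX m c'
    rw [Bab.tw] at a
    rw [Bab.tw, k, h.mul (C0_le (N3_le (tau_N3 m))) (X0_B0 m'), mul_assoc, ← mul_assoc (ρ (qV r')), h.q_PX m', smul_mul_assoc,
      mul_smul_comm, ← h.PX_PY tp_tau c hc, ← mul_assoc, a, smul_mul_assoc, smul_smul, e, e', map_add, sk_add]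

theorem PX_PQ (e : U0 (piQ x)) : PX ρ x.c * PQ ρ x = PQ ρ x := h.pq_mul_of fun q hq => by
  rw [h.q_PQ (N3_le hq), cmQ, u0_pr e (mem_X0.1 hq).2, add_zero]
theorem FF_PQ (e : U0 (piQ x)) : FF ρ * PQ ρ x = PQ ρ x := h.pq_mul_of fun q hq => by
  rw [h.q_PQ (N3_le (Xh_le hq)), cmQ, u0_pr e (u0_piQ.1 hq).2, u0_pr hq (u0_piQ.1 e).2, add_zero]
theorem FF_PQ' (e : ¬ U0 (piQ x)) : FF ρ * PQ ρ x = 0 :=
  let ⟨_, a, b⟩ := exists_Xh e; h.orth ch_Xh (ch_Q0 x) a (N3_le (Xh_le a)) (by simp [b])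
theorem PX_FF (hc : pr Om c = 0) : PX ρ c * FF ρ = PX ρ c := h.mul_pq_of fun q hq => by rw [PX, h.pq_q (ch_X0 c) (Xh_le hq), u0_pr hq hc]
theorem FF_hf : FF ρ * hf (ρ zA) 0 = FF ρ := mul_hf_of h.two (h.pq_q ch_Xh (q := zQ) (u0_piQ.2 (by simp)))
theorem FF_complete' (e : ∀ x, U0 (piQ x) → L * PQ ρ x = 0) : L * FF ρ = 0 := by
  rw [← h.FF_hf, ← mul_assoc]
  refine h.PQ_complete fun x => ?_
  by_cases k : U0 (piQ x)
  exacts [by rw [mul_assoc, h.FF_PQ k, e x k], by rw [mul_assoc, h.FF_PQ' k, mul_zero]]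
theorem tau_FF : ρ tau * FF ρ = FF ρ * ρ tau := h.pq_conj tau_B0 ch_Xh ch_Xh tau_Xh (fun q hq => by
  obtain ⟨y, a, b⟩ := tau_Xh q hq
  obtain ⟨w, c, d⟩ := tau_Xh y a
  exact ⟨w, c, by rw [inv_tau, b, d]⟩) fun _ _ _ _ => rfl
theorem FF_tw : FF (Bab.tw ρ tau) = FF ρ := h.cancel tau_B0 ((h.tw_pq tau_B0 ch_Xh).symm.trans h.tau_FF)
theorem FF_complete (e : ∀ c, pr Om c = 0 → L * PX ρ c = 0) : L * FF ρ = 0 :=
  h.FF_complete' fun x k => by rw [← h.PX_PQ k, ← mul_assoc, e _ (u0_piQ.1 k).2, zero_mul]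
theorem PY_complete (e : ∀ c, pr Om c = 0 → L * PX (Bab.tw ρ tau) c = 0) : L * FF ρ = 0 := h.FF_tw ▸ (h.tw tau_B0).FF_complete e
theorem tau_PX (c : Cs) : ρ tau * PX ρ c = PX (Bab.tw ρ tau) c * ρ tau := h.tw_pq tau_B0 (ch_X0 c)
theorem tau_PY (c : Cs) : ρ tau * PX (Bab.tw ρ tau) c = PX (Bab.tw ρ tau⁻¹) c * ρ tau :=
  tau_mul_tau ▸ h.tw_pq' tau_B0 tau_B0 (ch_X0 c)
theorem tau_PZ (c : Cs) : ρ tau * PX (Bab.tw ρ tau⁻¹) c = PX ρ c * ρ tau := by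
  rw [PX, h.tw_pq' tau_B0 tau_inv_B0 (ch_X0 c), mul_inv_cancel, tw_one, PX]
theorem sg_PX (c : Cs) : ρ sg0 * PX ρ c = PX (Bab.tw ρ tau) c * ρ sg0 := by
  rw [← (h.tw tau_B0).PX_tw_q (q := qe 0 0 (e1 pI)) (bq_C0 _), ← tw_mul]; exact h.tw_pq sg0_B0 (ch_X0 c)
theorem sg_PY (c : Cs) : ρ sg0 * PX (Bab.tw ρ tau) c = PX ρ c * ρ sg0 := by
  have := h.rel sg0_B0 sg0_B0 (one_mem _) (one_mem _) (sg0_sq.trans (mul_one _).symm)
  rw [h.one, mul_one] at this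
  rw [← mul_one (_ * _), ← this, ← mul_assoc, mul_assoc (ρ sg0), ← h.sg_PX, ← mul_assoc, this, one_mul]

variable [FiniteDimensional K N]

theorem PX_zero : PX ρ 0 = PQ ρ 1 := by
  have a : PQ ρ (1 * aOm) = 0 := h.PQ_bad (fun s => by rcases s with s | s <;> simpa using congr(($((dc_of s).1)).1 none))
    fun w => w.1.ne_om (by rw [one_mul])
  rw [← h.PQ_of a (T := PX ρ 0) fun q hq => by rw [h.q_PX hq]; simp [cmQ]]
  exact h.mul_pq_of fun q hq => by rw [h.PQ_q (N3_le hq)]; simp [cmQ]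
theorem PX_ne (hc : pr Om c = 0) (e : PX ρ c ≠ 0) : ∃ m ≠ pJ, Zc (c + du pI m) := by
  obtain ⟨x, hx⟩ := not_forall.1 (mt h.FF_complete' (by rwa [h.PX_FF hc]))
  obtain ⟨x0, x1⟩ := Classical.not_imp.1 hx
  have a : Zc (c + x.c) := by_contra fun k => x1 (by rw [← h.PX_PQ x0, ← mul_assoc, h.PX_orth k, zero_mul])
  have key : ∀ m, Zc (x.c + du pI m) → Zc (c + du pI m) := fun m k => by
    simpa only [add_assoc, ← add_assoc x.c, cs_add_self, zero_add] using a.add k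
  by_cases s : Sim x 1
  · exact ⟨pI, hIJ, key _ (by rcases s with s | s <;> simp [(dc_of s).2, Zc])⟩
  obtain ⟨m, -, m2, k⟩ := Wt.P (by_contra fun w => x1 (by rw [h.PQ_bad s w, mul_zero])) x0
  refine ⟨m, m2, key m (k.imp (fun k => by rw [k, cs_add_self]) fun k => ?_)⟩
  rw [k, ← cs_add, add_add_add_comm, w_add_self, add_zero, add_comm]
theorem three (hc : pr Om c = 0) (hc' : pr Om c' = 0) (e : PX ρ c * PX (Bab.tw ρ tau) c' ≠ 0) : Zc c ∨ Zc c' ∨ Zc (c + c') := by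
  obtain ⟨i, i1, i2⟩ := h.PX_ne hc (left_ne_zero_of_mul e)
  obtain ⟨j, j1, j2⟩ := (h.tw tau_B0).PX_ne hc' (right_ne_zero_of_mul e)
  obtain ⟨k, k1, k2⟩ := (h.tw tau_inv_B0).PX_ne (c := c + c') (by rw [map_add, hc, hc', add_zero])
    (left_ne_zero_of_mul (h.PZ_mul c hc' ▸ e))
  have := (i2.add j2).add k2
  rw [add_add_add_comm c, add_add_add_comm, cs_add_self, zero_add] at this
  rcases tri i1 j1 k1 this with rfl | rfl | rfl <;> simp_all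
theorem FF_three (e1 : L * PQ ρ 1 = 0) (e2 : L * PQ (Bab.tw ρ tau) 1 = 0) (e3 : L * PQ (Bab.tw ρ tau⁻¹) 1 = 0) : L * FF ρ = 0 :=
  h.FF_complete fun c hc => (congrArg _ (h.PX_FF hc)).symm.trans ((mul_assoc ..).symm.trans (h.PY_complete fun c' hc' => by
    rw [mul_assoc]
    by_cases e : PX ρ c * PX (Bab.tw ρ tau) c' = 0
    · rw [e, mul_zero]
    rcases h.three hc hc' e with k | k | k
    · rw [PX_congr ρ (c' := 0) (by rwa [add_zero]), h.PX_zero, ← mul_assoc, e1, zero_mul]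
    · rw [← h.PX_PY tp_tau c hc', PX_congr _ (c' := 0) (by rwa [add_zero]), (h.tw tau_B0).PX_zero, ← mul_assoc, e2, zero_mul]
    · rw [← h.PZ_mul c hc', PX_congr _ (c' := 0) (by rwa [add_zero]), (h.tw tau_inv_B0).PX_zero, ← mul_assoc, e3, zero_mul]))

end RepB

end Cfsg.Lib.Bab
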