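import Cfsg.Agent.Lib.Bab.Gen
import Cfsg.Agent.Lib.M3.SC

/-! # Simple connectivity of the graph of the conjugates of `z` under `2 · B` -/

set_option autoImplicit false

namespace Cfsg.Lib.Bab

open Finset Griess Subgroup MulAction Cfsg.Lib.Mon Cfsg.Lib.Deg Cfsg.Lib.M3 Matrix Relation
open Spor hiding tau
open Leech hiding vW

section
variable {X Y : Type*} {E E' : X → X → Prop} {S S' : X → Prop} {h : X → ℕ}

theorem morse_congr (M : Morse E S h) (hs : ∀ {x y}, E' x y → E' y x) (e : ∀ x y, S x → S y → (E x y ↔ E' x y)) :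
    Morse E' S h := by
  refine ⟨hs, M.bdd, fun v hv h1 => ?_, fun v w hv hw a b c => ?_⟩
  · obtain ⟨u, hu, hc⟩ := M.con v hv h1
    refine ⟨u, ⟨hu.1, (e _ _ hv hu.1).1 hu.2.1, hu.2.2⟩, fun w hw => ?_⟩
    have : ∀ w, ReflTransGen (fun x y => (S y ∧ E v y ∧ h y < h v) ∧ E x y) u w → S w ∧
        ReflTransGen (fun x y => (S y ∧ E' v y ∧ h y < h v) ∧ E' x y) u w := fun w hw => by
      induction hw with
      | refl => exact ⟨hu.1, .refl⟩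
      | tail _ k ih => exact ⟨k.1.1, .tail ih.2 ⟨⟨k.1.1, (e _ _ hv k.1.1).1 k.1.2.1, k.1.2.2⟩, (e _ _ ih.1 k.1.1).1 k.2⟩⟩
    exact (this w (hc w ⟨hw.1, (e _ _ hv hw.1).2 hw.2.1, hw.2.2⟩)).2
  · obtain ⟨u, hu, k⟩ := M.tri v w hv hw ((e _ _ hv hw).2 a) b c
    exact ⟨u, ⟨hu.1, (e _ _ hv hu.1).1 hu.2.1, hu.2.2⟩, (e _ _ hw hu.1).1 k⟩

/-- the section over a cone -/
theorem exists_cone {C : Cov E Y} (T : C.Tri S) (hl : ∀ x, ¬ E x x) {a : Y} (ha : S (C.p a))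
    (h : ∀ x, S x → x = C.p a ∨ E (C.p a) x) : ∃ s, C.Sec S s ∧ s (C.p a) = a := by
  have : ∀ x, ∃ b, (x = C.p a → b = a) ∧ (E (C.p a) x → C.R a b ∧ C.p b = x) := fun x => by
    by_cases e : E (C.p a) x
    · exact (C.ex a x e).imp fun b k => ⟨fun f => (hl _ (f ▸ e)).elim, fun _ => k⟩
    · exact ⟨a, fun _ => rfl, fun f => (e f).elim⟩
  choose s s1 s2 using this
  refine ⟨s, ⟨fun x hx => (h x hx).elim (fun e => by rw [s1 x e, e]) fun e => (s2 x e).2, fun x y hx hy e => ?_⟩, s1 _ rfl⟩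
  rcases h x hx with rfl | e1
  · rw [s1 _ rfl]; exact (s2 y e).1
  rcases h y hy with rfl | e2
  · rw [s1 _ rfl]; exact C.symm (s2 x e1).1
  · exact T _ x y ha hx hy e1 e2 e _ _ _ rfl (s2 x e1).2 (s2 y e2).2 (s2 x e1).1 (s2 y e2).1

theorem conn_mono (k : ∀ x, S x → S' x) {x y : X} (p : ReflTransGen (fun x y => S y ∧ E x y) x y) :
    ReflTransGen (fun x y => S' y ∧ E x y) x y := ReflTransGen.mono (fun _ _ e => And.intro (k _ e.1) e.2) _ _ p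

/-- an amalgam whose covering has a section is trivial -/
theorem amal_of_sec {G Γ : Type*} [Group G] [Group Γ] [MulAction G X] {G0 : Subgroup G} {x0 x1 : X} {φ : Γ →* G}
    {H : Subgroup Γ} {σ : Γ} (A : Amal G0 x0 x1 φ H σ) (hS : ∀ g ∈ G0, ∀ x, S x → S (g • x)) (h0 : S x0)
    (c : Conn (Adj G0 x0 x1) S) {s : X → Γ ⧸ H} (hs : A.cov.Sec S s) (e : s x0 = (1 : Γ)) :
    Function.Injective φ ∧ φ.range = G0 := by
  have one : ∀ γ : Γ, γ • ((1 : Γ) : Γ ⧸ H) = γ := fun γ => congrArg _ (mul_one γ)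
  have key : ∀ γ : Γ, γ • s x0 = s (φ γ • x0) → ∀ x, S x → γ • s x = s (φ γ • x) := fun γ k x hx => by
    have : ∀ x, ReflTransGen (fun x y => S y ∧ Adj G0 x0 x1 x y) x0 x → S x ∧ γ • s x = s (φ γ • x) := fun x p => by
      induction p with
      | refl => exact ⟨h0, k⟩
      | tail _ f ih =>
        have m := hS _ (A.mem γ)
        exact ⟨f.1, A.cov.uniq (ih.2 ▸ A.R_smul γ (hs.2 _ _ ih.1 f.1 f.2)) (hs.2 _ _ (m _ ih.1) (m _ f.1) (f.2.smul (A.mem γ)))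
          (by rw [A.p_smul, hs.1 _ f.1, hs.1 _ (m _ f.1)])⟩
    exact (this x (c _ _ h0 hx)).2
  let K : Subgroup Γ := ⟨⟨⟨{γ | ∀ x, S x → γ • s x = s (φ γ • x)}, fun {a b} ha hb x hx => by
    rw [mul_smul, hb x hx, ha _ (hS _ (A.mem b) x hx), map_mul, mul_smul]⟩, fun x _ => by simp⟩, fun {a} ha x hx => by
    rw [inv_smul_eq_iff, ha _ (hS _ (A.mem _) x hx), map_inv, smul_inv_smul]⟩
  have h1 : S x1 := A.s0 ▸ hS _ (A.mem σ) _ h0
  have hK : ⊤ ≤ K := A.gen ▸ sup_le (fun γ k => key γ (by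
    rw [A.fix γ k, e, one]; exact (QuotientGroup.eq.2 (by simpa using k)).symm)) (zpowers_le.2 (key σ (by
    rw [A.s0, e, one]
    exact A.cov.uniq (a := (1 : Γ)) ⟨1, rfl, by rw [one_mul]⟩ (e ▸ hs.2 _ _ h0 h1 ⟨1, one_mem _, one_smul _ _, one_smul _ _⟩)
      (by rw [hs.1 _ h1, A.p_mk, A.s0]))))
  refine ⟨(injective_iff_map_eq_one φ).2 fun γ k => A.inj γ ?_ k, le_antisymm (by rintro _ ⟨γ, rfl⟩; exact A.mem γ) fun g hg => ?_⟩
  · have := hK (mem_top γ) x0 h0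
    rw [k, one_smul, e, one] at this
    simpa using QuotientGroup.eq.1 this.symm
  · obtain ⟨γ, k⟩ := QuotientGroup.mk_surjective (s (g • x0))
    exact (A.lift hg (γ := γ) (by rw [← A.p_mk, k, hs.1 _ (hS g hg _ h0)])).imp fun _ => And.left

end

variable {g : Aut} {x y r s t : Q} {z z' : Iv}

theorem four (hx : Short x) (hy : Short y) (h : Short (x * y)) : ip (ax x) (ax y) = 4 :=
  let ⟨_, a, b⟩ := hx; let ⟨_, c, d⟩ := hy; four_of_dt a c b d (dot_of_short_mul a c b d h)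

theorem morse_two (hs : Short s) (hr : Short r) (hu : Short t) (h1 : ip (ax r) (ax s) = 4) (h2 : ip (ax t) (ax s) = 4) :
    Morse Ad (MV [ax r, ax t]) (ht cert ordM (ax s)) := by
  obtain ⟨c, hc, e, -⟩ := exists_smul_ax hu cert.short
  obtain ⟨r1, e', -, h4⟩ := exists_conj hc s
  replace e' := smul_ax_of_conj hc e'
  have h5 : ip (ax (qN 0xc74fff)) (ax r1) = 4 := by rw [← h2, ← ip_smul_smul c (ax t), e, e']; rfl
  obtain ⟨d, hd, d1, d2⟩ := exists_smul_ax₂ hr hs cert.short (h4.2 hs) h1 h5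
  refine morse_of_mc ordM (mem_orbit_ax hs) (n := 12) (by decide) rfl fun g hg i hi f l hl f' => ?_
  obtain ⟨u, l, rfl, f1, f'⟩ := List.map_eq_cons_iff.1 f'
  obtain ⟨v, rfl, f2⟩ := List.map_eq_singleton_iff.1 f'
  exact mc_pair (h4.2 hs) h5 hi ⟨hl u (.head _), d * g, mul_mem (CZ_le_M1 hd) hg, by rw [mul_smul, f1, d1]; rfl,
    by rw [mul_smul, ← d2, ← f]; rfl⟩ ⟨hl v (by simp), c * g, mul_mem (CZ_le_M1 hc) hg, by rw [mul_smul, f2, e]; rfl,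
    by rw [mul_smul, ← e', ← f]; rfl⟩

/-- the edges -/
abbrev AdB : Iv → Iv → Prop := Adj B0 o (tau • o)
/-- the vertices -/
abbrev VB (z : Iv) : Prop := RS z [ax tq]

theorem mem_B0' : g ∈ B0 ↔ g ∈ M1 ∧ g • ax tq = ax tq := by rw [mem_B0, smul_ax_iff short_t short_t]

theorem VB.smul (hg : g ∈ B0) (h : VB z) : VB (g • z) := by simpa [(mem_B0'.1 hg).2] using RS.smul h hg.1

theorem vb_o : VB o := rs_o.2 ⟨_, reg_one.2 short_t, rfl⟩

theorem VB.orbit (h : VB z) : ∃ g ∈ B0, g • o = z := by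
  obtain ⟨g, hg, rfl⟩ := rs_nil.1 h.tail
  obtain ⟨r, h1, h2⟩ := (rs_one hg).1 h
  obtain ⟨c, hc, e, -⟩ := exists_smul_ax short_t h1
  exact ⟨g * c, mem_B0'.2 ⟨mul_mem hg (CZ_le_M1 hc), by rw [mul_smul, e, h2]⟩, by rw [mul_smul, smul_o.2 hc]⟩

theorem tau_o : tau • o = ⟨wA⟩ := congrArg Iv.mk tau_conj_zQ

theorem nbr (h : Ad o z) (h' : VB z) : ∃ x, z = ⟨qV x⟩ ∧ Short (tq * x) ∧ ∃ c ∈ C0, c * wA * c⁻¹ = qV x := by
  obtain ⟨c, hc, e, rfl⟩ := h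
  rw [smul_o] at e
  obtain ⟨x, e1, -⟩ := exists_conj e aOm
  rw [← mul_smul] at h'
  obtain ⟨r, h1, h2⟩ := (rs_one (mul_mem hc tau_mem_M1)).1 h'
  have := short_mul h1 (conj_of_smul_ax h1 short_t h2) (x := x) (by rw [conj_mul_conj, tau_conj_zQ, e1])
  exact ⟨x, by rw [tau_o, M3.smul_mk, e1], this, edge e e1 this⟩

theorem adB_iff (h : VB z) (h' : VB z') : Ad z z' ↔ AdB z z' := by
  refine ⟨fun e => ?_, fun ⟨g, a, b⟩ => ⟨g, a.1, b⟩⟩
  obtain ⟨g, hg, rfl⟩ := h.orbit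
  obtain ⟨x, e1, -, c, hc, e2⟩ := nbr (by simpa using e.smul (inv_mem hg.1)) (h'.smul (inv_mem hg))
  exact ⟨g * c, mul_mem hg (C0_le hc), by rw [mul_smul, smul_o.2 hc.1], by rw [mul_smul, tau_o, smul_mk c, e2, ← e1, smul_inv_smul]⟩

theorem AdB.vb (h : AdB z z') : VB z ∧ VB z' := by
  obtain ⟨g, hg, rfl, rfl⟩ := h
  exact ⟨vb_o.smul hg, (vb_o.smul tau_B0).smul hg⟩

theorem AdB.symm (h : AdB z z') : AdB z' z := (adB_iff h.vb.2 h.vb.1).1 ((adB_iff h.vb.1 h.vb.2).2 h).symm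

theorem w_ne_z : wA ≠ zA := fun e => om_ne_zero ((congrArg piQ (qV_injective e)).trans piQ_zQ)

theorem adB_irrefl (z : Iv) : ¬ AdB z z := fun ⟨g, _, a, b⟩ =>
  w_ne_z (Iv.mk.inj (tau_o.symm.trans (smul_left_cancel g (b.trans a.symm))))

/-- the triangles -/
theorem tri_cases (h : AdB o z) (h' : AdB (tau • o) z) : z = ⟨zA * wA⟩ ∨ ∃ n ∈ N3, z = n • ⟨bq dT⟩ := by
  obtain ⟨x, rfl, h1, c, hc, e⟩ := nbr ((adB_iff vb_o h.vb.2).2 h) h.vb.2
  obtain ⟨y, e1, -⟩ := nbr ((adB_iff vb_o (h.vb.2.smul (inv_mem tau_B0))).2 (by simpa using h'.smul (inv_mem tau_B0)))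
    (h.vb.2.smul (inv_mem tau_B0))
  have h0 : U0 (piQ x) := u0_iff.2 ⟨y, by rw [← Iv.mk.inj e1]; group⟩
  have h2 : IsConj zA (qV x) := isConj_w.trans (isConj_iff.2 ⟨_, e⟩)
  by_cases k : x.c = 0
  swap
  · exact .inr (let ⟨n, a, b⟩ := triangle h0 (not_isConj · h2) k h1; ⟨n, a, congrArg Iv.mk b.symm⟩)
  rcases (u0_piQ.1 h0).1 with l | l
  · rcases piQ_eq_zero ((piQ_congr (y := 1) l k).trans piQ_one) with rfl | rfl
    · exact (zQ_ne_one (qV_injective ((isConj_one_right.1 (map_one qV ▸ h2.symm :)).trans (map_one qV).symm))).elim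
    · exact (adB_irrefl _ h).elim
  · rcases piQ_eq_iff.1 (piQ_congr (y := aOm) l k) with rfl | rfl
    · exact (adB_irrefl _ (tau_o ▸ h')).elim
    · exact .inl (by rw [map_mul])

variable {Y : Type*} {C : Cov AdB Y}

/-- every covering in which the triangles lift is trivial -/
theorem exists_sec (T : C.Tri VB) {a : Y} (ha : C.p a = o) : Conn AdB VB ∧ ∃ s, C.Sec VB s ∧ s o = a := by
  have hr := wt_P (m := pK) (by decide) (by decide)
  generalize eP 0 pI pK = r at hr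
  have hs : Short (zQ * (r * tq)) := (short_zQ_mul _).2 hr.2
  have f1 : ip (ax r) (ax tq) = 4 := four hr.1 short_t hr.2
  have f2 : ip (ax r) (ax (zQ * (r * tq))) = 4 := four hr.1 hs ((short_congr' (by
    simp only [piQ_mul, ← add_assoc, piQ_zQ, l2_add_self, zero_add])).1 short_t)
  have f3 : ip (ax tq) (ax (zQ * (r * tq))) = 4 := four short_t hs ((short_congr' (by
    simp only [piQ_mul, piQ_zQ, zero_add, add_comm (piQ r), ← add_assoc, l2_add_self])).1 hr.1)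
  have f4 : qV (zQ * (r * tq)) * tA * qV r = zA := by
    rw [← map_mul, ← map_mul, mul_assoc zQ, mul_assoc r, t_mul_t, mul_one, mul_assoc, hr.1.mul_self, mul_one]
  generalize zQ * (r * tq) = s at hs f2 f3 f4
  have o1 : ∀ {x}, Short x → RS o [ax x] := fun h => rs_o.2 ⟨_, reg_one.2 h, rfl⟩
  have v2 : ∀ z, MV [ax r, ax tq] z → VB z := fun z h => h.2 _ (by simp)
  have M1 := morse_congr (morse_one (reg_two.2 ⟨short_t, hr.1, by rw [ip_comm, f1]⟩)) AdB.symm fun _ _ => adB_iff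
  have M2 := morse_congr (morse_two hs hr.1 short_t f2 f3) AdB.symm fun _ _ a b => adB_iff (v2 _ a) (v2 _ b)
  have e1 : (fun z => VB z ∧ ht cert ordM (ax r) z = 0) = MV [ax r, ax tq] := funext fun z => propext
    ⟨fun h => ⟨h.1.tail, by simpa using ⟨(ht_zero hr.1 h.1.tail).1 h.2, h.1⟩⟩, fun h => ⟨v2 z h, (ht_zero hr.1 h.1).2 (h.2 _ (by simp))⟩⟩
  have m0 : MV [ax r, ax tq] o := ⟨vb_o.tail, by simpa using ⟨o1 hr.1, vb_o⟩⟩
  have h0 : ht cert ordM (ax s) o = 0 := (ht_zero hs m0.1).2 (o1 hs)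
  have cone : ∀ z, MV [ax r, ax tq] z ∧ ht cert ordM (ax s) z = 0 → z = o ∨ AdB o z := fun z h => by
    obtain ⟨g, hg, rfl⟩ := rs_nil.1 h.1.1
    obtain ⟨x, x1, x2⟩ := (rs_one hg).1 ((ht_zero hs h.1.1).1 h.2)
    obtain ⟨y, y1, y2⟩ := (rs_one hg).1 (v2 _ h.1)
    obtain ⟨w, w1, w2⟩ := (rs_one hg).1 (h.1.2 (ax r) (by simp))
    have e : g * qV (x * y * w) * g⁻¹ = zA := by
      rw [← f4, ← conj_of_smul_ax x1 hs x2, tA, ← conj_of_smul_ax y1 short_t y2, ← conj_of_smul_ax w1 hr.1 w2, map_mul, map_mul]; group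
    by_cases k : qV (x * y * w) = zA
    · exact .inl (congrArg Iv.mk (k ▸ e :))
    · exact .inr ((adB_iff vb_o (v2 _ h.1)).1 (by
        simpa only [smul_mk g (qV _), e, o] using (ad_of_conj hg (isConj_iff.2 ⟨_, e⟩).symm k).symm))
  refine ⟨M1.conn vb_o fun z a b => conn_mono v2 (M2.conn m0 (fun z a b => ?_) _ _ m0 ((congrFun e1 z).mp ⟨a, b⟩)), ?_⟩
  · rcases cone z ⟨a, b⟩ with rfl | e
    exacts [.refl, .single ⟨a, e⟩]
  obtain ⟨s3, a3, b3⟩ := exists_cone (C := C) (S := fun z => MV [ax r, ax tq] z ∧ ht cert ordM (ax s) z = 0)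
    (fun x y w a b c => T x y w (v2 _ a.1) (v2 _ b.1) (v2 _ c.1)) adB_irrefl (ha ▸ ⟨m0, h0⟩) (ha ▸ cone)
  obtain ⟨s2, a2, b2⟩ := Cov.morse M2 (fun x y w a b c => T x y w (v2 _ a) (v2 _ b) (v2 _ c)) a3
  obtain ⟨s1, a1, b1⟩ := Cov.morse M1 T (e1 ▸ a2)
  exact ⟨s1, a1, by rw [b1 _ ((ht_zero hr.1 m0.1).2 (o1 hr.1)), b2 _ h0, ← ha, b3]⟩

/-- A group with the amalgam of `2 · B` in which the two triangles lift is `2 · B`. -/
theorem sc {Γ : Type*} [Group Γ] {φ : Γ →* Aut} {H : Subgroup Γ} {σ ρ ρ' : Γ} (A : Amal B0 o (tau • o) φ H σ)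
    (h1 : σ⁻¹ * ρ ∈ H) (h2 : φ ρ * wA * (φ ρ)⁻¹ = zA * wA) (h3 : ρ ^ 3 ∈ H)
    (h1' : σ⁻¹ * ρ' ∈ H) (h2' : φ ρ' * wA * (φ ρ')⁻¹ = bq dT) (h3' : ρ' ^ 3 ∈ H) : Function.Injective φ ∧ φ.range = B0 := by
  have e : ∀ {g u : Aut}, g * wA * g⁻¹ = u → g • tau • o = ⟨u⟩ := fun e => by rw [tau_o, M3.smul_mk, e]
  obtain ⟨c, s, hs, e⟩ := exists_sec (C := A.cov) (a := (1 : Γ)) (by
    rintro _ _ w - - - ⟨g, hg, rfl, rfl⟩ a b
    rcases tri_cases (z := g⁻¹ • w) (by simpa using a.smul (inv_mem hg)) (by simpa using b.smul (inv_mem hg)) with k | ⟨n, hn, k⟩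
    · have := A.lifts h1 h3 hg
      rwa [e h2, ← k, smul_inv_smul] at this
    · have := A.lifts h1' h3' (mul_mem hg (C0_le (N3_le hn)))
      rwa [e h2', mul_smul, mul_smul, mul_smul, ← k, smul_inv_smul, smul_o.2 (NV_le hn.1),
        (e (mul_inv_eq_iff_eq_mul.2 (mem_NV.1 hn.1).2)).trans tau_o.symm] at this) (by simp [A.p_mk])
  exact amal_of_sec A (fun _ h _ => VB.smul h) vb_o c hs e

end Cfsg.Lib.Bab
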