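import Cfsg.Agent.Lib.Bab.Fix
import Cfsg.Agent.Lib.Bab.Mod
import Cfsg.Agent.Lib.M3.Pure
import Cfsg.Agent.Lib.Mathieu.Sub

/-! # Extensions of the Baby Monster by its small module split -/

set_option autoImplicit false

namespace Cfsg.Lib.Bab

open Module Griess Subgroup Cfsg.Lib.Mon Cfsg.Lib.Deg Cfsg.Lib.M3 Matrix MulAction
open Leech hiding vW
open scoped Pointwise

attribute [local irreducible] qV Griess.tau

universe u

variable {K N : Type*} {E : Type u} [Field K] [AddCommGroup N] [Module K N] [Group E]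

section
variable {G : Type*} [Group G] {G0 H S S' : Subgroup G} {R : G → End K N} {φ : E →* G} {j : E → N}

theorem idx_of (hH : H ≤ S) {m : ℕ} (hm : m ∣ Nat.card H) (h : ¬ ringChar K * m ∣ Nat.card S) : (H.relIndex S : K) ≠ 0 := fun e => h (by
  rw [← relIndex_bot_left S, ← relIndex_mul_relIndex ⊥ H S bot_le hH, relIndex_bot_left, mul_comm]
  exact mul_dvd_mul hm ((ringChar.spec K _).1 e))

theorem Ext.split' [Finite G] (X : Ext G0 R φ j) {M : Type*} [Group M] {f : S' →* M} (h2 : (2 : K) ≠ 0) (hS : S ≤ G0) (l : Loc R S S' f)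
    (h : ¬ ringChar K * ringChar K ∣ Nat.card M) : ∃ L, Cp φ S L := by
  by_cases e : ringChar K ∣ Nat.card S'
  swap
  · exact X.split h2 hS l (one_mem _) (by simp) (idx_of (m := 1) (by simp) (one_dvd _) (by rwa [mul_one]))
  have : Fact (ringChar K).Prime := ⟨(CharP.char_is_prime_or_zero K _).resolve_right fun k => Nat.card_pos.ne' (zero_dvd_iff.1 (k ▸ e))⟩
  have p : ringChar K ≠ 2 := fun k => h2 ((ringChar.spec K 2).2 k.dvd)
  obtain ⟨g, hg⟩ := exists_prime_orderOf_dvd_card' _ e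
  refine X.split h2 hS l g.2 (by rw [orderOf_coe, hg]; exact this.out.odd_of_ne_two p)
    (idx_of (zpowers_le.2 g.2) (by rw [Nat.card_zpowers, orderOf_coe, hg]) fun k => h ?_)
  have : Fact (Nat.Prime 2) := ⟨Nat.prime_two⟩
  obtain ⟨n, e⟩ := IsPGroup.iff_card.1 (show IsPGroup 2 f.ker from fun g => ⟨3, Subtype.ext (l.pow g g.2)⟩)
  rw [← card_mul_index f.ker, index_ker, MonoidHom.range_eq_top.2 l.sur, card_top, e] at k
  have c := (Nat.coprime_primes Fact.out Nat.prime_two).2 p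
  exact ((c.mul_left c).pow_right n).dvd_of_dvd_mul_left k

theorem card_stab [Finite G] {X : Type*} [MulAction G X] {x : X} {T : Set X} (h : ∀ a, a ∈ T ↔ ∃ g ∈ S, g • x = a) :
    Nat.card S = T.ncard * Nat.card ↥(S ⊓ stabilizer G x) := by
  rw [card_eq_orbit_mul S x, show T = orbit S x from Set.ext fun a => (h a).trans ⟨fun ⟨g, k, e⟩ => ⟨⟨g, k⟩, e⟩, fun ⟨g, e⟩ => ⟨g, g.2, e⟩⟩]

end

variable {q x : Q} {d : Cd} {c g : Aut} {σ : M24} {m m' : Pt} {r r' : ZMod 2} {v : N} {P : Subgroup Aut}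

theorem dvd_card {L : Subgroup M24} {p : ℕ} (hp : p.Prime) (h : p ∣ Nat.card L) (e : ∀ σ ∈ L, xp σ ∈ P) : p ∣ Nat.card P := by
  have := Fact.mk hp
  obtain ⟨σ, rfl⟩ := exists_prime_orderOf_dvd_card' _ h
  exact (orderOf_coe σ ▸ orderOf_dvd_of_pow_eq_one (((dp_xp σ).pow _).unique (pow_orderOf_eq_one (xp σ) ▸ dp_one))).trans
    (P.orderOf_dvd_natCard (e σ σ.2))

theorem ncard_iv (T : Set Q) : ((fun x => (⟨qV x⟩ : Iv)) '' T).ncard = T.ncard :=
  Set.ncard_image_of_injective _ fun _ _ e => qV_injective (Iv.mk.inj e)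

theorem card_C0 : Nat.card C0 = 2 ^ 24 * 42305421312000 := by
  have := card_stab (S := CZ) (x := (⟨tA⟩ : Iv)) (T := (fun x => ⟨qV x⟩) '' {r | Short r ∧ True}) fun a =>
    ⟨by rintro ⟨r, m, rfl⟩; exact (exists_conj₁ short_t m.1).imp fun _ k => ⟨k.1, congrArg Iv.mk k.2⟩, by
      rintro ⟨g, m, rfl⟩
      obtain ⟨y, e, -, k⟩ := exists_conj m tq
      exact ⟨y, ⟨k.2 short_t, trivial⟩, congrArg Iv.mk e.symm⟩⟩
  rw [ncard_iv, ncard_short (by simp), Set.ofPred_true, Set.ncard_univ, @Nat.card_eq_fintype_card SI, card_SI, card_centralizer,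
    show CZ ⊓ stabilizer Aut (⟨tA⟩ : Iv) = C0 from ext fun _ => (and_congr_right' (Iv.mk.injEq _ _ ▸ Iff.rfl)).trans mem_C0.symm] at this
  omega

theorem card_C1 (h : Wt x) : Nat.card ↥(C0 ⊓ stabilizer Aut (⟨qV x⟩ : Iv)) = 2 ^ 23 * 9196830720 := by
  have := card_stab (S := C0) (x := (⟨qV x⟩ : Iv)) (T := (fun x => ⟨qV x⟩) '' {r | Wt r}) fun a =>
    ⟨by rintro ⟨r, m, rfl⟩; exact (h.conj m).imp fun _ k => ⟨k.1, congrArg Iv.mk k.2⟩, by
      rintro ⟨g, m, rfl⟩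
      obtain ⟨y, e, -, k⟩ := exists_conj m.1 x
      obtain ⟨w, e', -, k'⟩ := exists_conj m.1 (x * tq)
      exact ⟨y, ⟨k.2 h.1, qV_injective (e'.symm.trans (conj_mul e (mem_C0.1 m).2)) ▸ k'.2 h.2⟩, congrArg Iv.mk e.symm⟩⟩
  rw [ncard_iv, card_C0, le_antisymm (ncard_four short_t ▸
    Set.ncard_le_ncard fun x (h : Wt x) => ⟨h.1, (ip_four_iff short_t h.1).1 h.four⟩) ncard_wt] at this
  omega

/-- the stabilizer of a weight -/
noncomputable abbrev U0' : Subgroup Aut := C0 ⊓ stabilizer Aut (wP 0 pK)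
/-- the stabilizer of an edge -/
noncomputable abbrev U1' : Subgroup Aut := U0' ⊓ stabilizer Aut (wP 1 pK)

theorem card_U : Nat.card U0' ∣ 12 * (2 ^ 23 * 9196830720) := by
  have a : (orbit U0' (⟨qV (eP 0 pI pK)⟩ : Iv)).ncard ≤ 4 := by
    generalize e : eP 0 pI pK = x
    refine (Set.ncard_le_ncard ?_).trans ((ncard_iv _).trans_le ((Set.ncard_coe_finset {x, zQ * x, x * tq, zQ * (x * tq)}).trans_le
      Finset.card_le_four))
    rintro _ ⟨g, rfl⟩
    obtain ⟨y, l, k⟩ : (g : Aut) • (⟨qV x⟩ : Iv) ∈ wP 0 pK := g.2.2 ▸ Set.smul_mem_smul_set ⟨_, e ▸ rfl, .inl rfl⟩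
    exact ⟨y, Sim.cases (e ▸ k.imp_right fun k => k.trans (piQ_mul ..).symm), l.symm⟩
  have b := card_eq_orbit_mul U0' (⟨qV (eP 0 pI pK)⟩ : Iv)
  rw [show U0' ⊓ stabilizer Aut (⟨qV (eP 0 pI pK)⟩ : Iv) = C0 ⊓ stabilizer Aut _ from le_antisymm (inf_le_inf_right _ inf_le_left)
    fun g k => ⟨⟨k.1, wv_conj k.1 (Iv.mk.inj k.2)⟩, k.2⟩, card_C1 (wt_P hKI hKJ)] at b
  have c := Nat.card_pos (α := U0')
  rw [b] at c ⊢
  generalize Set.ncard _ = n at *
  interval_cases n <;> simp_all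

theorem U1_mo (h : c ∈ U1') : Mo c := by
  obtain ⟨y, e, -, k⟩ := exists_conj h.1.1.1 aOm
  obtain ⟨t, a⟩ : ∃ t, Ov c t := ⟨_, h.1.1.1, rfl⟩
  have b : om = piQ (eP 0 pI pK) + piQ (eP 1 pI pK) := by rw [← piQ_mul]; exact piQ_congr (by simp [eP]) (by simp [eP])
  have s : ¬ t • om = om + piQ tq := fun f => not_short_eP 1 pI ((short_congr' (piQ_congr (by simp [eP]) (by
    simp [eP, w_add_self]))).1 (k.1 ((short_congr' (((a.piQ e).trans f).trans ((piQ_mul ..).symm.trans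
      (piQ_congr (by simp [eP]) (by simp [eP]))))).2 (short_eP 1 hIJ))))
  have f : t • om = om := by
    rw [b, smul_add] at s ⊢
    rcases wv_eq ((wv_smul h.1.1 a _).symm.trans h.1.2) with u | u <;> rcases wv_eq ((wv_smul h.1.1 a _).symm.trans h.2) with w | w <;>
      rw [u, w] at s ⊢
    exacts [(s (add_assoc ..).symm).elim, (s (add_right_comm ..)).elim, by rw [add_add_add_comm, l2_add_self, add_zero]]
  exact (N3_or h.1.1 a f).elim .of fun n => ⟨_, n, (qe 0 0 (e1 pI))⁻¹, show qV _ ∈ C0 from map_inv qV _ ▸ inv_mem (bq_C0 _), by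
    rw [map_inv]; exact (mul_inv_cancel_right _ _).symm⟩

theorem U1_dp (h : c ∈ U1') (e : Dp c σ) (k : (σ : Equiv.Perm Pt) pI = pI) : σ ∈ Mathieu.m21 := by
  obtain ⟨_, d, I, a⟩ := (U1_mo h).ind
  cases I.dp.unique e
  refine ⟨⟨k, ((swap_or a).resolve_right fun l => hIJ (k.symm.trans l.1)).2⟩, ?_⟩
  have := wv_eq ((wv_smul h.1.1 I _).symm.trans h.1.2)
  rw [Leech.mk_smul, eP, mo_even _ _ _ _ (pair_dot_one ..), sW_add, sW_e1, sW_e1, k, ← piQ_mul] at this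
  have n := k ▸ (σ : Equiv.Perm Pt).injective.ne hKI.symm
  rcases this with l | l
  · exact ((eq_of_du hKI.symm n (dc_of l).2).resolve_right (hKI ·.1.symm)).2
  · exact ((eq_of_du (i := pJ) hKJ.symm n ((dc_of l).2.trans
      (congrArg cs (by decide +kernel : e1 pI + e1 pK + d0 = e1 pJ + e1 pK)))).elim (hIJ ·.1) (hKI ·.1.symm)).elim

namespace RepB

variable {ρ : Aut → End K N} (h : RepB ρ)
include h

theorem tr {Z : Type*} [MulAction Aut Z] (h0 : P ≤ B0) (hc : c ∈ P) {x y w : Z}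
    (k : ∀ v, (∀ g ∈ P, g • c • x = c • x → g • c • y = c • y → g • c • w = c • w → ρ g v = v) → v = 0) (v : N)
    (e : ∀ g ∈ P, g • x = x → g • y = y → g • w = w → ρ g v = v) : v = 0 := by
  have f : ∀ {g : Aut} {x : Z}, g • c • x = c • x → (c⁻¹ * g * c) • x = x := fun e => by rw [mul_smul, mul_smul, e, inv_smul_smul]
  have := k (ρ c v) fun g hg a b d => have m := mul_mem (mul_mem (inv_mem hc) hg) hc
    (show _ = ρ c (ρ _ v) from congr($(h.rel (h0 hg) (h0 hc) (h0 hc) (h0 m) (by group)) v)).trans (by rw [e _ m (f a) (f b) (f d)])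
  rw [← End.one_apply (R := K) v, ← h.inv_mul (h0 hc), End.mul_apply, this, map_zero]

variable [FiniteDimensional K N] {φ : E →* Aut} {j : E → N} (X : Ext B0 ρ φ j)

theorem loc_N3 : ∃ f : ↥(N3 ⊓ DI) →* Mathieu.m22, Loc ρ N3 (N3 ⊓ DI) f :=
  have := Mathieu.simple_m22
  h.exists_loc (fun _ => .of) (fun _ => id) (perfect_of_simple (by rw [Mathieu.card_m22]; norm_num))
    (fun _ a _ e k => ⟨k, ((swap_or (dp_d0 a e)).resolve_right fun l => hIJ (k.symm.trans l.1)).2⟩)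
    (fun _ a => ⟨xp_N3 (d0_of' a.1 a.2), a.1⟩) fun m a => or_iff_not_imp_left.2 fun b =>
      (exists_dT (m := m) (fun e => b fun _ k => e ▸ k.1) a).imp fun _ k => ⟨k.1, k.2.2, yq_N3 k.1 0⟩

theorem loc_U : ∃ f : ↥(U1' ⊓ DI) →* Mathieu.m21, Loc ρ U1' (U1' ⊓ DI) f :=
  have := Mathieu.simple_m21
  h.exists_loc (fun _ => U1_mo) (fun _ a => ⟨⟨N3_le a, q_wv (N3_le a) _⟩, q_wv (N3_le a) _⟩)
    (perfect_of_simple (by rw [Mathieu.card_m21]; norm_num)) (fun _ a _ => U1_dp a)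
    (fun _ a => have e := d0_of' a.1.1 a.1.2; ⟨⟨⟨N3_le (xp_N3 e), xp_wP e a.2 _⟩, xp_wP e a.2 _⟩, a.1.1⟩) fun m a => or_iff_not_imp_left.2 fun b => by
      obtain ⟨d, d1, d2⟩ := exists_sep (s := {pI, pJ, pK}) (m := m) (Finset.card_le_three.trans (by norm_num)) (by
        simp only [Finset.mem_insert, Finset.mem_singleton, a, false_or]
        rintro (rfl | rfl)
        exacts [b fun _ k => k.1.1, b fun _ k => k.2])
      have d3 : pr d (cs d0) = 0 := by simp [d2]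
      have d4 : ∀ r, yq 0 d • wP r pK = wP r pK := fun r => by rw [yq_wP d3, show pr d (du pI pK) = 0 by simp [d2], add_zero]
      exact ⟨d, d3, by simp [d1, d2], ⟨N3_le (yq_N3 d3 0), d4 0⟩, d4 1⟩

include X

theorem split_C0 (h3 : ringChar K ≠ 3) : ∃ L, Cp φ C0 L := by
  have h2 : ringChar K ≠ 2 := fun k => h.two ((ringChar.spec K 2).2 k.dvd)
  have p : ∀ {n}, n ≠ 0 → ringChar K ∣ n → (ringChar K).Prime := fun a b =>
    (CharP.char_is_prime_or_zero K _).resolve_right fun k => a (zero_dvd_iff.1 (k ▸ b))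
  obtain ⟨f, l⟩ := h.loc_N3
  obtain ⟨L, c⟩ := X.split' h.two (N3_le.trans C0_le) l fun k => by
    rw [Mathieu.card_m22] at k
    have a := dvd_of_mul_left_dvd k
    have b := p (by norm_num) a
    simp only [show 443520 = 2 ^ 7 * 3 ^ 2 * 5 * 7 * 11 by norm_num, b.dvd_mul, b.prime.dvd_pow_iff_dvd, ne_eq, OfNat.ofNat_ne_zero,
      not_false_eq_true, Nat.prime_dvd_prime_iff_eq b, Nat.prime_two, Nat.prime_three, Nat.prime_five, Nat.prime_seven, Nat.prime_eleven,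
      h2, h3, false_or] at a
    rcases a with (a | a) | a <;> simp [a] at k
  by_cases e : ringChar K = 5 ∨ ringChar K = 23
  swap
  · have a : ∀ σ ∈ Mathieu.m22, xp σ ∈ N3 := fun _ a => xp_N3 (d0_of' a.1 a.2)
    refine X.gasch C0_le N3_le (idx_of N3_le (m := 7 * 11) (Nat.Coprime.mul_dvd_of_dvd_of_dvd (by norm_num)
      (dvd_card Nat.prime_seven (by rw [Mathieu.card_m22]; norm_num) a)
      (dvd_card Nat.prime_eleven (by rw [Mathieu.card_m22]; norm_num) a)) fun k => e ?_) c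
    rw [card_C0, show 2 ^ 24 * 42305421312000 = 2 ^ 42 * 3 ^ 6 * 5 ^ 3 * 23 * (7 * 11) by norm_num, mul_dvd_mul_iff_right (by norm_num)] at k
    have b := p (by norm_num) k
    simpa only [b.dvd_mul, b.prime.dvd_pow_iff_dvd, ne_eq, OfNat.ofNat_ne_zero, not_false_eq_true, Nat.prime_dvd_prime_iff_eq b,
      Nat.prime_two, Nat.prime_three, Nat.prime_five, show Nat.Prime 23 by norm_num, h2, h3, false_or] using k
  obtain ⟨L, c⟩ := X.gasch (S := U0') (inf_le_left.trans C0_le) (inf_le_right (a := N3)) (idx_of inf_le_right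
    (dvd_card (L := Mathieu.m21) Nat.prime_five (by rw [Mathieu.card_m21]; norm_num) fun _ a => have e := d0_of' a.1.1 a.1.2
      ⟨xp_N3 e, N3_le (xp_N3 e), xp_wP e a.2 _⟩) fun k => by
    replace k := k.trans card_U
    rcases e with e | e <;> simp [e] at k) (c.inf inf_le_left)
  obtain ⟨d, d1, -, d2⟩ := exists_dT hKI hKJ
  obtain ⟨f, l⟩ := h.loc_U
  have a : ∀ r, DW (wP r pK) := fun r => ⟨r, pK, hKI, hKJ, rfl⟩
  exact X.amal C0_le c (N3_le (yq_N3 d1 0)) (by rw [yq_wP d1, d2, zero_add]) (by rw [yq_wP d1, d2, z2_add_self])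
    (X.h1 h.two (inf_le_left.trans (inf_le_left.trans C0_le)) l) (fun v e => h.fix_W (a 0) (a 1) (a 1) fun g k b c _ => e g k b c)
    (fun _ a _ => VW.smul a) (a 0).vw (fun x y w a b c => let ⟨_, k, d1, d2, d3⟩ := triW a b c; h.tr C0_le k fun _ => h.fix_W d1 d2 d3)
    fun T _ => exists_secW T

theorem split_B0 (h3 : ringChar K ≠ 3) : ∃ L, Cp φ B0 L := by
  have a : B0 ⊓ stabilizer Aut o = C0 := ext fun _ => ⟨fun k => ⟨smul_o.1 k.2, k.1.2⟩, fun k => ⟨C0_le k, smul_o.2 k.1⟩⟩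
  have w : ∀ {g}, g ∈ N3 → g • tau • o = tau • o := fun k => tau_o ▸ congrArg Iv.mk (mul_inv_eq_iff_eq_mul.2 (mem_NV.1 k.1).2)
  have b : B0 ⊓ stabilizer Aut o ⊓ stabilizer Aut (tau • o) = N3 := a ▸ ext fun _ =>
    ⟨fun k => mem_N3_of k.1 (Iv.mk.inj (tau_o ▸ k.2 :)), fun k => ⟨N3_le k, w k⟩⟩
  obtain ⟨L, c⟩ := h.split_C0 X h3
  obtain ⟨f, l⟩ := h.loc_N3
  refine X.amal le_rfl (a ▸ c) sg0_B0 (tau_o ▸ congrArg Iv.mk sg0_z) (tau_o ▸ congrArg Iv.mk sg0_w) (b ▸ X.h1 h.two (N3_le.trans C0_le) l)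
    (fun v e => h.fix_T fun g k _ => e g (C0_le (N3_le k)) (smul_o.2 k.1.1) (w k)) (fun _ a _ => VB.smul a) vb_o ?_ fun T _ => exists_sec T
  rintro _ _ z ⟨g, hg, rfl, rfl⟩ e1 e2
  refine h.tr le_rfl (inv_mem hg) ?_
  rw [inv_smul_smul, inv_smul_smul]
  rcases tri_cases (z := g⁻¹ • z) (by simpa using e1.smul (inv_mem hg)) (by simpa using e2.smul (inv_mem hg)) with k | ⟨n, hn, k⟩ <;> rw [k]
  · exact fun v e => h.fix_T fun g k _ => e g (C0_le (N3_le k)) (smul_o.2 k.1.1) (w k) (congrArg Iv.mk (by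
      rw [← mul_assoc, (mem_NV.1 k.1).1, mul_assoc zA, (mem_NV.1 k.1).2, ← mul_assoc, mul_inv_cancel_right]))
  · refine h.tr le_rfl (inv_mem (C0_le (N3_le hn))) ?_
    rw [inv_smul_smul, smul_o.2 (inv_mem hn.1.1), w (inv_mem hn)]
    exact fun v e => h.fix_T fun g k l => e g (C0_le (N3_le k)) (smul_o.2 k.1.1) (w k) (congrArg Iv.mk l)

end RepB

end Cfsg.Lib.Bab
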