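import Cfsg.Agent.Lib.Bab.Inf

/-! # Small representations of the Baby Monster: criteria for intertwining maps -/

set_option autoImplicit false

namespace Cfsg.Lib.Bab

open Module Finset LinearMap Griess Subgroup Cfsg.Lib.Mon Cfsg.Lib.Deg Cfsg.Lib.M3 Matrix
open Leech hiding vW

attribute [local irreducible] qV Griess.tau

variable {K N : Type*} [Field K] [AddCommGroup N] [Module K N]

/-- the action on linear maps -/
noncomputable def cj (ρ ρ' : Aut → End K N) (g : Aut) : End K (End K N) := mulLeft K (ρ' g) * mulRight K (ρ g⁻¹)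

variable {A : Subgroup Q} {β : Q → ZMod 2} {q x y : Q} {a g k n s e : Aut} {T S L φ : End K N} {ρ ρ' : Aut → End K N}

theorem cj_apply (g : Aut) (φ : End K N) : cj ρ ρ' g φ = ρ' g * (φ * ρ g⁻¹) := rfl
theorem hf_hf (h : T * T = 1) (S : End K N) (c : ZMod 2) : hf T 0 * hf (T * S) c = hf T 0 * hf S c := by
  have := semi_hf (S := T) rfl 0
  rw [mul_hf h, sk_zero, one_smul] at this
  rw [hf.eq_1 (T * S), hf.eq_1 S, mul_smul_comm, mul_smul_comm, mul_add, mul_add, mul_smul_comm, mul_smul_comm, ← mul_assoc, ← this]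

namespace RepB

variable (h : RepB ρ) (h' : RepB ρ')
include h

theorem b_EE (c : ZMod 2) : ρ bI * EE ρ 0 c = EE ρ 0 c * ρ bI := by
  rw [EE, ← mul_assoc, semi_hf (h.z_comm (bq_C0 _)), mul_assoc, semi_hf (h.rel bI_B0 w_B0 (mul_mem z_B0 w_B0) bI_B0
    (eq_mul_of_mul_inv_eq (bI_w.trans (map_mul ..)))), h.mul z_B0 w_B0, ← mul_assoc, hf_hf h.zz]
theorem q_FF (hq : q ∈ Q0) : ρ (qV q) * FF ρ = FF ρ * ρ (qV q) := by
  have k : ∀ q, ∀ a ∈ Xh, ∃ b ∈ Xh, qV q * qV a * (qV q)⁻¹ = qV b := fun q a ha =>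
    ⟨zp _ * a, show U0 _ by rwa [piQ_zp_mul], by rw [qV_conj, ← map_mul]⟩
  exact h.pq_conj (Q0_B0 hq) ch_Xh ch_Xh (k q) (map_inv qV q ▸ k q⁻¹) fun _ _ _ _ => rfl
theorem tau_sq : ρ tau⁻¹ = ρ tau * ρ tau := by rw [← tau_mul_tau, h.mul tau_B0 tau_B0]
theorem tau_cube : ρ tau * ρ tau * ρ tau = 1 := by rw [← h.tau_sq, h.inv_mul tau_B0]
theorem b_tau : ρ bI * ρ tau = ρ tau * ρ tau * ρ bI :=
  h.tau_sq ▸ h.rel bI_B0 tau_B0 tau_inv_B0 bI_B0 (bq_e1_semi _)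
theorem bb : ρ bI * ρ bI = 1 := by rw [← h.mul bI_B0 bI_B0, bq_mul_self, h.one]
theorem PQ_conj' (hc : g ∈ C0) (e : g * qV x * g⁻¹ = qV y) : PQ ρ x * ρ g⁻¹ = ρ g⁻¹ * PQ ρ y :=
  (h.PQ_conj (inv_mem hc) (by rw [← e]; group)).symm
theorem P0_hf : PQ ρ 1 * hf (ρ zA) 1 = 0 := by simpa using mul_hf_ne (a := 0) (by simpa using h.P0_q (q := zQ) (N3_le z_N3))

include h'

/-- the stabilizer of a linear map -/
def St (φ : End K N) : Subgroup Aut where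
  carrier := {g | g ∈ B0 ∧ ρ' g * φ = φ * ρ g}
  one_mem' := ⟨one_mem _, by rw [h.one, h'.one, one_mul, mul_one]⟩
  mul_mem' a b := ⟨mul_mem a.1 b.1, by rw [h.mul a.1 b.1, h'.mul a.1 b.1, mul_assoc, b.2, ← mul_assoc, a.2, mul_assoc]⟩
  inv_mem' a := ⟨inv_mem a.1, h.cancel a.1 (by rw [mul_assoc, ← a.2, ← mul_assoc, h'.inv_mul a.1, mul_assoc, h.inv_mul a.1, one_mul, mul_one])⟩

theorem cj_mul (hg : g ∈ B0) (hk : k ∈ B0) : cj ρ ρ' (g * k) = cj ρ ρ' g * cj ρ ρ' k := LinearMap.ext fun φ => by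
  simp only [cj_apply, End.mul_apply, _root_.mul_inv_rev, h'.mul hg hk, h.mul (inv_mem hk) (inv_mem hg), mul_assoc]
theorem cj_one : cj ρ ρ' 1 = 1 := LinearMap.ext fun φ => by simp [cj_apply, h.one, h'.one]
theorem mem_St (hg : g ∈ B0) : g ∈ h.St h' φ ↔ cj ρ ρ' g φ = φ :=
  ⟨fun k => by rw [cj_apply, ← mul_assoc, k.2, mul_assoc, h.mul_inv hg, mul_one],
    fun k => ⟨hg, by rw [← congr($k * ρ g), cj_apply, mul_assoc, mul_assoc, h.inv_mul hg, mul_one]⟩⟩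
theorem St_cj (ha : a ∈ B0) (hg : g ∈ B0) (k : a⁻¹ * g * a ∈ h.St h' φ) : g ∈ h.St h' (cj ρ ρ' a φ) := by
  rw [h.mem_St h' hg, ← End.mul_apply, ← h.cj_mul h' hg ha, show g * a = a * (a⁻¹ * g * a) by group, h.cj_mul h' ha k.1, End.mul_apply,
    (h.mem_St h' k.1).1 k]
theorem St_mul (k : g ∈ h.St h' φ) (e : ρ g * T = T * ρ g) : g ∈ h.St h' (φ * T) := ⟨k.1, by rw [← mul_assoc, k.2, mul_assoc, e, mul_assoc]⟩
theorem St_add (k : g ∈ h.St h' φ) (l : g ∈ h.St h' T) : g ∈ h.St h' (φ + T) := ⟨k.1, by rw [mul_add, add_mul, k.2, l.2]⟩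
theorem St_sub (k : g ∈ h.St h' φ) (l : g ∈ h.St h' T) (c : K) : g ∈ h.St h' (φ - c • T) :=
  ⟨k.1, by rw [mul_sub, sub_mul, mul_smul_comm, smul_mul_assoc, k.2, l.2]⟩
theorem St_PQ (k : g ∈ h.St h' φ) (hg : g ∈ C0) (e : g * qV x * g⁻¹ = qV y) (s : Sim y q) (l : φ * PQ ρ x = 0) : φ * PQ ρ q = 0 :=
  h.zero_of_mul k.1 (by rw [← PQ_sim ρ s, mul_assoc, ← h.PQ_conj hg e, ← mul_assoc, ← k.2, mul_assoc, l, mul_zero])
theorem St_tau (hN : N3 ≤ h.St h' φ) : N3 ≤ h.St h' (cj ρ ρ' tau φ) := fun _ hn =>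
  h.St_cj h' tau_B0 (C0_le (N3_le hn)) (hN (tau_inv_N3 hn))

variable [FiniteDimensional K N]

theorem PQ_St (hN : N3 ≤ h.St h' φ) (h1 : Short x) (h2 : ¬ U0 (piQ x)) : PQ ρ' x * (φ * PQ ρ x) = φ * PQ ρ x :=
  h'.PQ_of (h'.PQ_om h1 h2) fun q hq => by rw [← mul_assoc, (hN hq).2, mul_assoc, h.q_PQ (N3_le hq), mul_smul_comm]

theorem tau_St (hQ : ∀ q ∈ Q0, qV q ∈ h.St h' φ) (hN : N3 ≤ h.St h' φ) (hW : cj ρ ρ' tau φ * PQ ρ (eW 0 pI) = φ * PQ ρ (eW 0 pI))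
    (hA : cj ρ ρ' tau φ * (PQ ρ 1 - Pinf ρ) = φ * (PQ ρ 1 - Pinf ρ)) (hI : ρ' tau * φ * Pinf ρ = φ * Pinf ρ) : tau ∈ h.St h' φ := by
  have blk : ∀ {A}, ρ bI * A = A * ρ bI → cj ρ ρ' tau φ * A = φ * A → (ρ' tau * φ - φ * ρ tau) * A = 0 ∧
      (ρ' tau * φ - φ * ρ tau) * (ρ tau * A) = 0 ∧ (ρ' tau * φ - φ * ρ tau) * (ρ tau * (ρ tau * A)) = 0 := fun {A} a b => by
    rw [cj_apply, h.tau_sq, ← mul_assoc, mul_assoc] at b
    obtain ⟨c, d⟩ := s3_block h.tau_cube h'.tau_cube h.b_tau h'.b_tau h.bb (hQ _ (bq_C0 _)).2 a b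
    refine ⟨by rw [sub_mul, c, sub_self], by rw [sub_mul, d, sub_self], ?_⟩
    rw [sub_mul, ← mul_assoc (ρ tau), b, mul_assoc, ← mul_assoc (ρ tau), ← mul_assoc (ρ tau), h.tau_cube, one_mul, sub_self]
  have w := blk (h.b_EE 1) (sub_eq_zero.1 (by
    rw [← sub_mul, ← h.EE_hf, ← mul_assoc]
    refine h.PQ_complete fun x => ?_
    rcases z2_cases (pr Om x.c) with k | k
    · rw [mul_assoc, show EE ρ 0 1 * _ = 0 by simpa [k] using h.EE_PQ' x, mul_zero]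
    have u : ¬ U0 (piQ x) := fun u => zero_ne_one ((u0_piQ.1 u).2.symm.trans k)
    rw [mul_assoc, show EE ρ 0 1 * _ = _ from k ▸ h.EE_PQ x]
    by_cases l : Wt x
    · obtain ⟨O, δ, j, e, -⟩ | ⟨-, n, hn, y, e, s⟩ := l.cases.resolve_left u
      · exact (zero_ne_one ((par_eT j).symm.trans ((congrArg _ (dc_of ((mk_lT j).symm.trans e)).2).trans k))).elim
      · exact h.St_PQ h' (by simpa using h.St_sub h' (h.St_tau h' hN hn) (hN hn) 1) (N3_le hn) e s (by rw [sub_mul, hW, sub_self])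
    · rw [h.PQ_bad (fun s => u s.u0) l, mul_zero]))
  have a := blk (by rw [mul_sub, sub_mul, h.P0_comm (bq_C0 _), show ρ bI * _ = _ from h.q_Pinf (bq_C0 _),
    show _ * ρ bI = _ from h.Pinf_q (bq_C0 _)]) hA
  have t : ∃ c : K, ρ' tau * φ * (EE ρ 0 0 - FF ρ) = c • (φ * ρ tau * (EE ρ 0 0 - FF ρ)) := by
    have key : ∀ {L}, (∀ x, Wt x → ¬ U0 (piQ x) → pr Om x.c = 0 → L * PQ ρ x = 0) → L * (EE ρ 0 0 - FF ρ) = 0 := fun {L} l => by
      rw [← h.EE_hf, ← h.FF_hf, ← sub_mul, ← mul_assoc]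
      refine h.PQ_complete fun x => ?_
      rw [mul_assoc, sub_mul]
      by_cases u : U0 (piQ x)
      · rw [h.FF_PQ u, show EE ρ 0 0 * _ = _ from (u0_piQ.1 u).2 ▸ h.EE_PQ x, sub_self, mul_zero]
      rw [h.FF_PQ' u, sub_zero]
      rcases z2_cases (pr Om x.c) with k | k
      · rw [show EE ρ 0 0 * _ = _ from k ▸ h.EE_PQ x]
        by_cases w : Wt x
        exacts [l x w u k, by rw [h.PQ_bad (fun s => u s.u0) w, mul_zero]]
      · rw [show EE ρ 0 0 * _ = 0 by simpa [k, z2_add_self] using h.EE_PQ' x, mul_zero]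
    by_cases e : ∀ x, Wt x → ¬ U0 (piQ x) → pr Om x.c = 0 → φ * PQ ρ x = 0
    · exact ⟨0, by rw [mul_assoc, key e, mul_zero, zero_smul]⟩
    push Not at e
    obtain ⟨x, x1, x2, x3, x4⟩ := e
    obtain ⟨c, hc⟩ := exists_smul_hom (h.small.1 x x1).le (h'.small.1 x x1).le x4 (h.PQ_St h' hN x1.1 x2)
      (by rw [mul_assoc, h.PQ_idem]) (h.PQ_St h' (h.St_tau h' hN) x1.1 x2) (by rw [mul_assoc, h.PQ_idem])
    have b := key (L := cj ρ ρ' tau φ - c • φ) fun y y1 y2 y3 =>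
      let ⟨n, hn, w, e, s⟩ := x1.T y1 x2 y2 x3 y3
      h.St_PQ h' (h.St_sub h' (h.St_tau h' hN hn) (hN hn) c) (N3_le hn) e s (by rw [sub_mul, hc, smul_mul_assoc, sub_self])
    have d : ρ tau * (EE ρ 0 0 - FF ρ) = (EE ρ 0 0 - FF ρ) * ρ tau := by rw [mul_sub, sub_mul, h.tau_FF, h.tau_EE, add_zero]
    refine ⟨c, ?_⟩
    replace b := congr($b * ρ tau)
    rwa [mul_assoc, ← d, ← mul_assoc, sub_mul, sub_mul, cj_apply, mul_assoc (ρ' tau), mul_assoc φ, h.inv_mul tau_B0, mul_one, zero_mul,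
      sub_eq_zero, smul_mul_assoc, smul_mul_assoc] at b
  obtain ⟨c, hc⟩ := t
  have t := s3_fix h.tau_cube h'.tau_cube h.b_tau h'.b_tau h.bb (hQ _ (bq_C0 _)).2 (A := EE ρ 0 0 - FF ρ)
    (by rw [mul_sub, sub_mul, h.b_EE, show ρ bI * _ = _ from h.q_FF (bq_C0 _)]; rfl)
    (by rw [mul_sub, sub_mul, h.tau_FF, h.tau_EE, add_zero]) hc
  rw [← sub_eq_zero, ← sub_mul] at t
  have i : (ρ' tau * φ - φ * ρ tau) * Pinf ρ = 0 := by rw [sub_mul, hI, mul_assoc, h.tau_Pinf, sub_self]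
  refine ⟨tau_B0, sub_eq_zero.1 ?_⟩
  generalize ρ' tau * φ - φ * ρ tau = D at *
  simp only [mul_sub, h.tau_Pinf, i, sub_zero, h.tau_P0, h.tau_PY0, ← mul_assoc (ρ tau), h.tau_EE, add_zero, zero_add] at w a t
  simp only [mul_assoc, ← h.tau_sq] at w a
  simp only [← mul_assoc] at w a
  rw [h.FF_three a.1 (h.zero_of_mul tau_B0 a.2.1) (h.zero_of_mul tau_inv_B0 a.2.2), sub_zero] at t
  rw [← mul_one D, ← hf_add h.two (ρ zA), ← h.EE_add, ← h.EE_add]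
  simp only [mul_add, t, w.1, h.zero_of_mul tau_B0 w.2.1, h.zero_of_mul tau_inv_B0 w.2.2, add_zero]

theorem s_St (hQ : ∀ q ∈ Q0, qV q ∈ h.St h' φ) (hN : N3 ≤ h.St h' φ) (ht : tau ∈ h.St h' φ) (hs : Sw s)
    (h1 : (ρ' s * φ - φ * ρ s) * PQ ρ 1 = ρ' s * φ - φ * ρ s) (h2 : (ρ' s * φ - φ * ρ s) * Pinf ρ = 0) : s ∈ h.St h' φ := by
  have s0 := C0_le hs.1
  obtain ⟨u1, u2⟩ := hs.five
  have u3 : s⁻¹ * (sg0 * s * sg0 * s * sg0) ∈ N3 := mem_N3_of (mul_mem (inv_mem hs.1) u1) (by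
    simp only [conj_mul_conj, sg0_z, sg0_w, sg0_T, hs.2.1, mem_CZ.1 hs.1.1, hs.inv.2.2])
  have g : ρ' sg0 * φ = φ * ρ sg0 := (mul_mem ht (hQ _ (bq_C0 (e1 pI)))).2
  have m2 := mul_mem sg0_B0 s0
  have m3 := mul_mem m2 sg0_B0
  have m4 := mul_mem m3 s0
  have a := (hN u2).2
  have b := h.n_Pinf u3
  have c := (hN hs.sq).2
  have d := h.rel m3 s0 (C0_le u1) sg0_B0 (by rw [mul_assoc _ sg0 sg0, sg0_sq, mul_one])
  have e := h.mul s0 (C0_le (N3_le u3))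
  have f := h'.inv_mul (C0_le u1)
  rw [mul_inv_cancel_left] at e
  rw [e] at d
  rw [h.mul (C0_le u1) s0, h'.mul (C0_le u1) s0, h.mul m4 sg0_B0, h.mul m3 s0] at a
  rw [h'.mul m4 sg0_B0, h'.mul m3 s0, h'.mul m2 sg0_B0, h'.mul sg0_B0 s0] at a f
  rw [h.mul m2 sg0_B0, h.mul sg0_B0 s0] at a d
  rw [h.mul s0 s0, h'.mul s0 s0] at c
  have p := h.sg_P0
  have p' := h.P0_comm hs.1
  have p'' := h.P0_comm (N3_le u3)
  refine ⟨s0, sub_eq_zero.1 ?_⟩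
  generalize ρ (s⁻¹ * _) = n, ρ' (_ : Aut)⁻¹ = v at *
  generalize ρ s = S, ρ' s = S', ρ sg0 = G, ρ' sg0 = G' at *
  obtain ⟨D, hD⟩ : ∃ D, S' * φ = φ * S + D := ⟨_, (add_sub_cancel ..).symm⟩
  rw [hD, add_sub_cancel_left] at h1 h2 ⊢
  have r : ∀ X, S' * (φ * X) = φ * (S * X) + D * X := fun X => by rw [← mul_assoc, hD, add_mul, mul_assoc]
  have r' : ∀ X, G' * (φ * X) = φ * (G * X) := fun X => by rw [← mul_assoc, g, mul_assoc]
  have k1 : D * (G * (S * PQ ρ 1)) = 0 := by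
    rw [p', ← mul_assoc G, p, ← h1, mul_assoc, mul_assoc, ← mul_assoc (PQ ρ 1), ← Pinf, ← mul_assoc, h2, zero_mul]
  have k2 : D * S = -(S' * D) := by
    rw [mul_assoc, hD, mul_add, r, add_assoc, add_eq_left] at c
    exact eq_neg_of_add_eq_zero_left c
  have k3 : D * (G * (S * (G * (S * PQ ρ 1)))) = 0 := by
    have := congr($d * PQ ρ 1)
    simp only [mul_assoc] at this
    rw [this, p, ← mul_assoc, k2, neg_mul, mul_assoc, ← h1, mul_assoc, ← mul_assoc (PQ ρ 1), ← p'', mul_assoc n, ← mul_assoc (PQ ρ 1),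
      ← Pinf, ← mul_assoc n, b, mul_assoc, ← mul_assoc D, h2, zero_mul, mul_zero, neg_zero]
  have := congr($a * PQ ρ 1)
  simp only [mul_assoc, r, r', mul_add, k1, k3, add_zero, h1, add_eq_left] at this
  rw [← one_mul D, ← f]
  simp only [mul_assoc, this, mul_zero]

end RepB

end Cfsg.Lib.Bab
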